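import Groth.Agent.CohenLib.Structure
import Groth.Agent.PSLib.Regular

/-!
Finite maps from power series rings.
-/

namespace Groth.Agent.CplKaehler4

open IsLocalRing

universe u

variable (k : Type u) [Field k] {A : Type u} [CommRing A] [IsLocalRing A] [IsNoetherianRing A]
  [Algebra k A] [Module.Finite k (ResidueField A)]

theorem finite_quotient : ∀ (N : ℕ) (a : Ideal A), maximalIdeal A ^ N ≤ a → Module.Finite k (A ⧸ a) := by
  intro N
  induction N with
  | zero =>
    intro a ha
    rw [pow_zero, Ideal.one_eq_top, top_le_iff] at ha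
    subst ha
    infer_instance
  | succ N ih =>
    intro a ha
    let b := a ⊔ maximalIdeal A ^ N
    have := ih b le_sup_right
    obtain ⟨n, g, hg⟩ := Submodule.fg_iff_exists_fin_generating_family.1 (IsNoetherian.noetherian b)
    have hmb : ∀ (i : Fin n), ∀ x ∈ maximalIdeal A, x * g i ∈ a := by
      intro i x hx
      have hgi : g i ∈ b := hg ▸ Submodule.subset_span ⟨i, rfl⟩
      obtain ⟨y, hy, z, hz, e⟩ := Submodule.mem_sup.1 hgi
      rw [← e, mul_add]
      exact add_mem (a.mul_mem_left x hy) (ha (by rw [pow_succ']; exact Ideal.mul_mem_mul hx hz))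
    let h : Fin n → (ResidueField A →ₗ[A] A ⧸ a) := fun i =>
      Submodule.liftQ (maximalIdeal A) (LinearMap.toSpanSingleton A (A ⧸ a) (Ideal.Quotient.mk a (g i)))
        fun x hx => by
          rw [LinearMap.mem_ker, LinearMap.toSpanSingleton_apply]
          show Ideal.Quotient.mk a (x * g i) = 0
          exact Ideal.Quotient.eq_zero_iff_mem.2 (hmb i x hx)
    let G : (Fin n → ResidueField A) →ₗ[k] A ⧸ a :=
      (∑ i, h i ∘ₗ LinearMap.proj i : (Fin n → ResidueField A) →ₗ[A] A ⧸ a).restrictScalars k
    let π : (A ⧸ a) →ₗ[k] A ⧸ b := (Ideal.Quotient.factorₐ k (le_sup_left : a ≤ b)).toLinearMap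
    have hker : LinearMap.ker π ≤ LinearMap.range G := by
      intro x hx
      obtain ⟨x, rfl⟩ := Ideal.Quotient.mk_surjective x
      rw [LinearMap.mem_ker] at hx
      have hxb : x ∈ b := Ideal.Quotient.eq_zero_iff_mem.1 hx
      rw [← hg] at hxb
      obtain ⟨c, rfl⟩ := (Submodule.mem_span_range_iff_exists_fun A).1 hxb
      refine ⟨fun i => residue A (c i), ?_⟩
      show (∑ i, h i ∘ₗ LinearMap.proj i : (Fin n → ResidueField A) →ₗ[A] A ⧸ a) _ = _
      rw [LinearMap.sum_apply, map_sum]
      exact Finset.sum_congr rfl fun i _ => rfl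
    refine ⟨Submodule.fg_of_fg_map_of_fg_inf_ker π (IsNoetherian.noetherian _) ?_⟩
    rw [top_inf_eq]
    have : Module.Finite k (LinearMap.range G) := Module.Finite.range G
    exact (Submodule.fg_top _).1 (Module.Finite.of_injective (Submodule.inclusion hker)
      (Submodule.inclusion_injective hker)).fg_top

variable [IsAdicComplete (maximalIdeal A) A]

/-- Elements spanning an ideal of definition define a finite local map from power series. -/
theorem exists_algHom_finite {r : ℕ} (x : Fin r → A) (hx : ∀ i, x i ∈ maximalIdeal A)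
    (hrad : maximalIdeal A ≤ (Ideal.span (Set.range x)).radical) :
    ∃ ψ : MvPowerSeries (Fin r) k →ₐ[k] A, (∀ i, ψ (MvPowerSeries.X i) = x i) ∧ ψ.toRingHom.Finite ∧
      IsLocalHom ψ.toRingHom := by
  obtain ⟨ψ, hψ⟩ := PSLib.exists_algHom (R := k) (maximalIdeal A) x hx
  let J : Ideal A := Ideal.span (Set.range x)
  have hJ : J ≤ maximalIdeal A := Ideal.span_le.2 (Set.range_subset_iff.2 hx)
  have hmap : (PSLib.vars r k).map ψ.toRingHom = J := by
    rw [PSLib.vars, Ideal.map_span, ← Set.range_comp]
    exact congrArg (fun t => Ideal.span (Set.range t)) (funext fun i => hψ i)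
  refine ⟨ψ, hψ, ?_, ⟨fun f hf => ?_⟩⟩
  · have : IsNoetherianRing (MvPowerSeries (Fin r) k) := by
      have := PSLib.isRegularLocalRing (K := k) (n := r)
      infer_instance
    refine CohenLib.finite_of_complete ψ.toRingHom (PSLib.vars r k) (hmap.le.trans hJ) ?_
    rw [hmap]
    obtain ⟨N, hN⟩ := Ideal.exists_pow_le_of_le_radical_of_fg hrad (IsNoetherian.noetherian _)
    have := finite_quotient k N J hN
    have e : ((Ideal.Quotient.mk J).comp ψ.toRingHom).comp (algebraMap k _) = algebraMap k (A ⧸ J) :=
      RingHom.ext fun c => by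
        show Ideal.Quotient.mk J (ψ (algebraMap k _ c)) = _
        rw [ψ.commutes]
        rfl
    exact RingHom.Finite.of_comp_finite (e ▸ RingHom.finite_algebraMap.2 inferInstance)
  · by_contra hu
    have hf' : f ∈ PSLib.vars r k := by
      rw [← PSLib.maximalIdeal_eq_vars]
      exact (mem_maximalIdeal _).2 hu
    exact (mem_maximalIdeal _).1 (hJ (hmap.le (Ideal.mem_map_of_mem _ hf'))) hf

end Groth.Agent.CplKaehler4
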