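import Groth.Agent.PSLib.Regular
import Mathlib.RingTheory.MvPowerSeries.Derivative

/-!
Derivations of power series rings.
-/

namespace Groth.Agent.CplKaehler4

open MvPowerSeries

variable {k : Type*} [CommRing k] {n : ℕ} {N : Type*} [AddCommGroup N]
  [Module (MvPowerSeries (Fin n) k) N] [Module k N] [IsScalarTower k (MvPowerSeries (Fin n) k) N]

theorem derivation_mem_pow_smul {R M : Type*} [CommRing R] [Algebra k R] [AddCommGroup M] [Module R M]
    [Module k M] [IsScalarTower k R M] (D : Derivation k R M) (I : Ideal R) :
    ∀ (m : ℕ), ∀ z ∈ I ^ (m + 1), D z ∈ I ^ m • (⊤ : Submodule R M) := by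
  intro m
  induction m with
  | zero => intro z _; simp
  | succ m ih =>
    intro z hz
    rw [pow_succ] at hz
    refine Submodule.mul_induction_on hz (fun x hx y hy => ?_) fun x y hx hy => by
      rw [map_add]; exact add_mem hx hy
    rw [Derivation.leibniz]
    refine add_mem (Submodule.smul_mem_smul hx trivial) ?_
    rw [pow_succ', Submodule.mul_smul]
    exact Submodule.smul_mem_smul hy (ih x hx)

universe u

variable {k : Type u} [CommRing k] {n : ℕ} {N : Type*} [AddCommGroup N]
  [Module (MvPowerSeries (Fin n) k) N] [Module k N] [IsScalarTower k (MvPowerSeries (Fin n) k) N]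

theorem derivation_ext [IsHausdorff (PSLib.vars n k) N] {D E : Derivation k (MvPowerSeries (Fin n) k) N}
    (h : ∀ i, D (X i) = E (X i)) : D = E := by
  refine Derivation.ext fun f => sub_eq_zero.1
    (IsHausdorff.haus (inferInstance : IsHausdorff (PSLib.vars n k) N) _ fun m => ?_)
  rw [SModEq.zero]
  obtain ⟨q, hq⟩ := PSLib.exists_polynomial_sub_mem f (m + 1)
  have hp : ∀ p : MvPolynomial (Fin n) k, D (p : MvPowerSeries (Fin n) k) = E (p : MvPowerSeries (Fin n) k) := by
    intro p
    induction p using MvPolynomial.induction_on with
    | C a =>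
      rw [MvPolynomial.coe_C, show (C a : MvPowerSeries (Fin n) k) = algebraMap k _ a from rfl,
        Derivation.map_algebraMap, Derivation.map_algebraMap]
    | add p q hp hq => rw [MvPolynomial.coe_add, map_add, map_add, hp, hq]
    | mul_X p i hp => rw [MvPolynomial.coe_mul, MvPolynomial.coe_X, Derivation.leibniz, Derivation.leibniz, hp, h i]
  have h1 := derivation_mem_pow_smul (D - E) (PSLib.vars n k) m _ hq
  rwa [map_sub, Derivation.sub_apply, Derivation.sub_apply, hp, sub_self, sub_zero] at h1

/-- A derivation of power series is the sum of its values on the variables times partials. -/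
theorem derivation_eq_sum [IsHausdorff (PSLib.vars n k) N] (D : Derivation k (MvPowerSeries (Fin n) k) N)
    (f : MvPowerSeries (Fin n) k) : D f = ∑ i, pderiv k i f • D (X i) := by
  let E : Derivation k (MvPowerSeries (Fin n) k) N :=
    ∑ i, (LinearMap.toSpanSingleton (MvPowerSeries (Fin n) k) N (D (X i))).compDer (pderiv k i)
  have hE : ∀ g, E g = ∑ i, pderiv k i g • D (X i) := fun g => by
    have key : ∀ s : Finset (Fin n), (∑ i ∈ s,
        (LinearMap.toSpanSingleton (MvPowerSeries (Fin n) k) N (D (X i))).compDer (pderiv k i)) g =
        ∑ i ∈ s, pderiv k i g • D (X i) := by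
      classical
      intro s
      induction s using Finset.induction with
      | empty => simp
      | insert a s ha ih =>
        rw [Finset.sum_insert ha, Finset.sum_insert ha, Derivation.add_apply, ih]
        rfl
    exact key Finset.univ
  have : D = E := derivation_ext fun j => by
    rw [hE, Finset.sum_eq_single j (fun i _ hi => by rw [pderiv_X_of_ne (Ne.symm hi), zero_smul])
      (fun hj => absurd (Finset.mem_univ j) hj), pderiv_X_self, one_smul]
  rw [this, hE, ← this]

/-- Finite modules over a finite algebra are separated. -/
theorem isHausdorff_vars {k : Type u} [Field k] {n : ℕ} (M : Type*) [AddCommGroup M]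
    [Module (MvPowerSeries (Fin n) k) M] [Module.Finite (MvPowerSeries (Fin n) k) M] :
    IsHausdorff (PSLib.vars n k) M :=
  have : IsNoetherianRing (MvPowerSeries (Fin n) k) := by
    have := PSLib.isRegularLocalRing (K := k) (n := n)
    infer_instance
  IsHausdorff.of_le_jacobson _ M PSLib.vars_le_jacobson

end Groth.Agent.CplKaehler4
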