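import Groth.Agent.CartierEq4.Imperf
import Groth.Agent.CplKaehler4.PS
import Mathlib.RingTheory.Etale.Kaehler

/-!
The differentials of the fraction field of a finite algebra over a power series ring, modulo those
killed by the continuous partial derivatives.
-/

set_option linter.style.haveILetI false

namespace Groth.Agent.CplKaehler4

open TensorProduct

universe u

theorem finite_fractionField (P B L E : Type u) [CommRing P] [CommRing B] [IsDomain B] [Algebra P B]
    [Module.Finite P B] [Field L] [Field E] [Algebra B E] [IsFractionRing B E] [Algebra P L] [Algebra P E]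
    [IsScalarTower P B E] [Algebra L E] [IsScalarTower P L E] : Module.Finite L E := by
  classical
  obtain ⟨n, b, hb⟩ := Submodule.fg_iff_exists_fin_generating_family.1 (Module.Finite.fg_top (R := P) (M := B))
  let S := Algebra.adjoin L (Set.range fun i => algebraMap B E (b i))
  have hint : ∀ x ∈ Set.range (fun i => algebraMap B E (b i)), IsIntegral L x := by
    rintro _ ⟨i, rfl⟩
    exact ((Algebra.IsIntegral.isIntegral (R := P) (b i)).map (IsScalarTower.toAlgHom P B E)).tower_top
  have hfg : S.toSubmodule.FG := fg_adjoin_of_finite (Set.finite_range _) hint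
  haveI : Module.Finite L S := Module.Finite.iff_fg.2 hfg
  have hB : ∀ x : B, algebraMap B E x ∈ S := by
    intro x
    obtain ⟨c, rfl⟩ := (Submodule.mem_span_range_iff_exists_fun P).1 (hb ▸ (Submodule.mem_top : x ∈ ⊤))
    rw [map_sum]
    refine sum_mem fun i _ => ?_
    rw [Algebra.smul_def, map_mul, ← IsScalarTower.algebraMap_apply, IsScalarTower.algebraMap_apply P L E]
    exact mul_mem (S.algebraMap_mem _) (Algebra.subset_adjoin ⟨i, rfl⟩)
  have htop : ∀ e : E, e ∈ S := by
    intro e
    obtain ⟨x, y, -, rfl⟩ := IsFractionRing.div_surjective (A := B) e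
    have hy : IsAlgebraic L (algebraMap B E y) :=
      ((Algebra.IsIntegral.isIntegral (R := L) (⟨_, hB y⟩ : S)).map S.val).isAlgebraic
    rw [div_eq_mul_inv]
    exact mul_mem (hB x) (Subalgebra.inv_mem_of_algebraic S (x := ⟨_, hB y⟩) hy)
  exact Module.Finite.of_surjective S.val.toLinearMap fun e => ⟨⟨e, htop e⟩, rfl⟩

/-- The key space: of dimension at least `r`, receiving a derivation with finite range. -/
theorem exists_rank_space {k : Type u} [Field k] (r : ℕ) (B : Type u) [CommRing B] [IsDomain B] [Algebra k B]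
    [Algebra (MvPowerSeries (Fin r) k) B] [IsScalarTower k (MvPowerSeries (Fin r) k) B]
    [Module.Finite (MvPowerSeries (Fin r) k) B]
    (hinj : Function.Injective (algebraMap (MvPowerSeries (Fin r) k) B)) :
    ∃ (V : Type u) (_ : AddCommGroup V) (_ : Module (FractionRing B) V) (_ : Module B V) (_ : Module k V)
      (_ : IsScalarTower B (FractionRing B) V) (_ : IsScalarTower k B V) (D : Derivation k B V) (N : Submodule B V),
      Module.Finite (FractionRing B) V ∧ r ≤ Module.finrank (FractionRing B) V ∧ N.FG ∧ (∀ b, D b ∈ N) ∧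
      Submodule.span (FractionRing B) (Set.range D) = ⊤ := by
  classical
  haveI : IsDomain (MvPowerSeries (Fin r) k) := hinj.isDomain
  haveI : FaithfulSMul (MvPowerSeries (Fin r) k) B := (faithfulSMul_iff_algebraMap_injective _ _).2 hinj
  let L := FractionRing (MvPowerSeries (Fin r) k)
  let E := FractionRing B
  letI : Algebra L E := FractionRing.liftAlgebra (MvPowerSeries (Fin r) k) E
  haveI : IsScalarTower k L E := IsScalarTower.of_algebraMap_eq fun c => by
    rw [IsScalarTower.algebraMap_apply k (MvPowerSeries (Fin r) k) L,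
      ← IsScalarTower.algebraMap_apply (MvPowerSeries (Fin r) k) L E, ← IsScalarTower.algebraMap_apply]
  haveI : Module.Finite L E := finite_fractionField (MvPowerSeries (Fin r) k) B L E
  haveI : Algebra.EssFiniteType L E := inferInstance
  obtain ⟨hΩ, hH, heq⟩ := CartierEq4.finrank_kaehler_eq L E
  obtain ⟨hker, hker'⟩ := CartierEq4.finite_imperfection k L E
  let g := KaehlerDifferential.mapBaseChange k L E
  let f₀ : Ω[MvPowerSeries (Fin r) k⁄k] →ₗ[MvPowerSeries (Fin r) k] (Fin r → L) :=
    LinearMap.pi fun i => Algebra.linearMap (MvPowerSeries (Fin r) k) L ∘ₗ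
      (MvPowerSeries.pderiv k i).liftKaehlerDifferential
  let m₀ := KaehlerDifferential.map k k (MvPowerSeries (Fin r) k) L
  let S := nonZeroDivisors (MvPowerSeries (Fin r) k)
  have hu : ∀ x : S, IsUnit (algebraMap (MvPowerSeries (Fin r) k) (Module.End (MvPowerSeries (Fin r) k) (Fin r → L)) x) := by
    intro x
    rw [Module.End.isUnit_iff]
    have hx : algebraMap (MvPowerSeries (Fin r) k) L x ≠ 0 := (IsLocalization.map_units L x).ne_zero
    constructor
    · intro a b hab
      funext i
      have := congrFun hab i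
      simp only [Module.algebraMap_end_apply, Pi.smul_apply, Algebra.smul_def] at this
      exact mul_left_cancel₀ hx this
    · intro a
      refine ⟨fun i => (algebraMap (MvPowerSeries (Fin r) k) L x)⁻¹ * a i, ?_⟩
      funext i
      simp only [Module.algebraMap_end_apply, Pi.smul_apply, Algebra.smul_def]
      rw [← mul_assoc, mul_inv_cancel₀ hx, one_mul]
  let f₁ : Ω[L⁄k] →ₗ[L] (Fin r → L) :=
    LinearMap.extendScalarsOfIsLocalization S L (IsLocalizedModule.lift S m₀ f₀ hu)
  let ι : (Fin r → L) →ₗ[L] (Fin r → E) := LinearMap.pi fun i => Algebra.linearMap L E ∘ₗ LinearMap.proj i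
  let δ : E ⊗[L] Ω[L⁄k] →ₗ[E] (Fin r → E) := LinearMap.liftBaseChange E (ι ∘ₗ f₁)
  have hδ : ∀ (e : E) (a : MvPowerSeries (Fin r) k) (j : Fin r),
      δ (e ⊗ₜ KaehlerDifferential.D k L (algebraMap _ L a)) j =
        e * algebraMap (MvPowerSeries (Fin r) k) E (MvPowerSeries.pderiv k j a) := by
    intro e a j
    have h1 : f₁ (KaehlerDifferential.D k L (algebraMap _ L a)) = f₀ (KaehlerDifferential.D k _ a) := by
      rw [← KaehlerDifferential.map_D k k]
      exact IsLocalizedModule.lift_apply S m₀ f₀ hu _
    rw [LinearMap.liftBaseChange_tmul, Pi.smul_apply, smul_eq_mul, LinearMap.comp_apply, h1]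
    show e * algebraMap L E (algebraMap _ L ((MvPowerSeries.pderiv k j).liftKaehlerDifferential _)) = _
    rw [Derivation.liftKaehlerDifferential_comp_D, ← IsScalarTower.algebraMap_apply]
  let T : Fin r → E ⊗[L] Ω[L⁄k] := fun i =>
    1 ⊗ₜ KaehlerDifferential.D k L (algebraMap (MvPowerSeries (Fin r) k) L (MvPowerSeries.X i))
  have hT : ∀ i, δ (T i) = Pi.single i 1 := fun i => by
    funext j
    rw [hδ, one_mul, MvPowerSeries.pderiv_X]
    by_cases h : i = j
    · subst h; simp
    · simp [Ne.symm h, h]
  have hδs : Function.Surjective δ := fun c => ⟨∑ i, c i • T i, by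
    rw [map_sum]
    simp only [map_smul, hT]
    funext j
    simp [Finset.sum_apply, Pi.single_apply]⟩
  let W := LinearMap.ker δ
  let V := (Ω[E⁄k]) ⧸ Submodule.map g W
  let q : Ω[E⁄k] →ₗ[E] V := (Submodule.map g W).mkQ
  let ψ : E ⊗[L] Ω[L⁄k] →ₗ[E] V := q ∘ₗ g
  have hW : W ≤ LinearMap.ker ψ := fun w hw =>
    (Submodule.Quotient.mk_eq_zero _).2 (Submodule.mem_map_of_mem hw)
  let ψ' := W.liftQ ψ hW
  haveI : Module.Finite E ((E ⊗[L] Ω[L⁄k]) ⧸ W) := Module.Finite.equiv (δ.quotKerEquivOfSurjective hδs).symm
  have hWr : Module.finrank E ((E ⊗[L] Ω[L⁄k]) ⧸ W) = r := by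
    rw [(δ.quotKerEquivOfSurjective hδs).finrank_eq, Module.finrank_fin_fun]
  let h : V →ₗ[E] Ω[E⁄L] := (Submodule.map g W).liftQ (KaehlerDifferential.map k L E E) (by
    rintro _ ⟨w, -, rfl⟩
    exact ((KaehlerDifferential.exact_mapBaseChange_map k L E) (g w)).2 ⟨w, rfl⟩)
  have hhs : LinearMap.range h = ⊤ := by
    rw [Submodule.range_liftQ]
    exact LinearMap.range_eq_top.2 (KaehlerDifferential.map_surjective k L E)
  have hhk : LinearMap.ker h = LinearMap.range ψ' := by
    rw [Submodule.range_liftQ, Submodule.ker_liftQ, LinearMap.range_comp,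
      (KaehlerDifferential.exact_mapBaseChange_map k L E).linearMap_ker_eq]
  haveI : Module.Finite E V := by
    refine ⟨Submodule.fg_of_fg_map_of_fg_inf_ker h (IsNoetherian.noetherian _) ?_⟩
    rw [top_inf_eq, hhk]
    exact (Submodule.fg_top _).1 (Module.Finite.range ψ').fg_top
  have e1 := h.finrank_range_add_finrank_ker
  rw [hhs, finrank_top, hhk] at e1
  have e2 := ψ'.finrank_range_add_finrank_ker
  rw [hWr] at e2
  have e3 : Module.finrank E (LinearMap.ker ψ') ≤ Module.finrank E (LinearMap.ker g) := by
    have hle : LinearMap.ker ψ' ≤ Submodule.map W.mkQ (LinearMap.ker g) := by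
      intro z hz
      obtain ⟨z, rfl⟩ := W.mkQ_surjective z
      have hz' : g z ∈ Submodule.map g W := (Submodule.Quotient.mk_eq_zero _).1 hz
      obtain ⟨w, hw, hwz⟩ := hz'
      refine ⟨z - w, ?_, ?_⟩
      · rw [SetLike.mem_coe, LinearMap.mem_ker, map_sub, hwz, sub_self]
      · rw [map_sub, sub_eq_self, Submodule.mkQ_apply, Submodule.Quotient.mk_eq_zero]
        exact hw
    haveI : Module.Finite E (LinearMap.ker g) := hker
    exact (Submodule.finrank_mono hle).trans (Submodule.finrank_map_le _ _)
  have e4 : Module.finrank E (LinearMap.ker g) ≤ Module.finrank E (Algebra.H1Cotangent L E) := hker'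
  have hr : r ≤ Module.finrank E V := by omega
  -- the derivation
  let DE : Derivation k E V := q.compDer (KaehlerDifferential.D k E)
  let D : Derivation k B V := DE.compAlgebraMap B
  obtain ⟨m, b, hb⟩ := Submodule.fg_iff_exists_fin_generating_family.1
    (Module.Finite.fg_top (R := MvPowerSeries (Fin r) k) (M := B))
  let t : Fin r → V := fun i => D (algebraMap (MvPowerSeries (Fin r) k) B (MvPowerSeries.X i))
  let N : Submodule B V := Submodule.span B (Set.range t ∪ Set.range fun j => D (b j))
  have hP : ∀ a : MvPowerSeries (Fin r) k, D (algebraMap _ B a) =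
      ∑ i, algebraMap (MvPowerSeries (Fin r) k) B (MvPowerSeries.pderiv k i a) • t i := by
    intro a
    have hmem : (1 : E) ⊗ₜ[L] KaehlerDifferential.D k L (algebraMap _ L a) -
        ∑ i, algebraMap (MvPowerSeries (Fin r) k) E (MvPowerSeries.pderiv k i a) • T i ∈ W := by
      rw [LinearMap.mem_ker, map_sub, map_sum]
      simp only [map_smul, hT]
      funext j
      rw [Pi.sub_apply, hδ, one_mul]
      simp [Finset.sum_apply, Pi.single_apply, Algebra.smul_def]
    have h0 : ψ _ = 0 := hW hmem
    rw [map_sub, map_sum, sub_eq_zero] at h0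
    have hψ : ∀ x : MvPowerSeries (Fin r) k,
        ψ (1 ⊗ₜ KaehlerDifferential.D k L (algebraMap _ L x)) = D (algebraMap _ B x) := by
      intro x
      show q (g _) = q (KaehlerDifferential.D k E (algebraMap B E (algebraMap _ B x)))
      rw [KaehlerDifferential.mapBaseChange_tmul, one_smul, KaehlerDifferential.map_D,
        ← IsScalarTower.algebraMap_apply, ← IsScalarTower.algebraMap_apply]
    rw [← hψ, h0]
    refine Finset.sum_congr rfl fun i _ => ?_
    rw [map_smul, hψ, IsScalarTower.algebraMap_apply (MvPowerSeries (Fin r) k) B E, algebraMap_smul]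
  have hN : ∀ x, D x ∈ N := by
    intro x
    obtain ⟨c, rfl⟩ := (Submodule.mem_span_range_iff_exists_fun (MvPowerSeries (Fin r) k)).1
      (hb ▸ (Submodule.mem_top : x ∈ ⊤))
    rw [map_sum]
    refine sum_mem fun j _ => ?_
    rw [Algebra.smul_def, Derivation.leibniz, hP]
    exact add_mem (N.smul_mem _ (Submodule.subset_span (Or.inr ⟨j, rfl⟩)))
      (N.smul_mem _ (sum_mem fun i _ => N.smul_mem _ (Submodule.subset_span (Or.inl ⟨i, rfl⟩))))
  refine ⟨V, inferInstance, inferInstance, inferInstance, inferInstance, inferInstance, inferInstance, D, N,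
    inferInstance, hr, Submodule.fg_span ((Set.finite_range _).union (Set.finite_range _)), hN, ?_⟩
  rw [eq_top_iff, ← (LinearMap.range_eq_top.2 (Submodule.map g W).mkQ_surjective), LinearMap.range_eq_map,
    ← KaehlerDifferential.span_range_derivation, Submodule.map_span, Submodule.span_le]
  rintro _ ⟨_, ⟨e, rfl⟩, rfl⟩
  obtain ⟨x, y, hy, rfl⟩ := IsFractionRing.div_surjective (A := B) e
  have hy' : algebraMap B E y ≠ 0 := IsFractionRing.to_map_ne_zero_of_mem_nonZeroDivisors hy
  have h1 : D x = (algebraMap B E y) • DE (algebraMap B E x / algebraMap B E y) +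
      (algebraMap B E x / algebraMap B E y) • D y := by
    show DE (algebraMap B E x) = _ + _ • DE (algebraMap B E y)
    rw [← Derivation.leibniz, mul_div_cancel₀ _ hy']
  have h2 : DE (algebraMap B E x / algebraMap B E y) =
      (algebraMap B E y)⁻¹ • (D x - (algebraMap B E x / algebraMap B E y) • D y) := by
    rw [h1, add_sub_cancel_right, smul_smul, inv_mul_cancel₀ hy', one_smul]
  show DE (algebraMap B E x / algebraMap B E y) ∈ _
  rw [h2]
  exact Submodule.smul_mem _ _ (sub_mem (Submodule.subset_span ⟨x, rfl⟩)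
    (Submodule.smul_mem _ _ (Submodule.subset_span ⟨y, rfl⟩)))

end Groth.Agent.CplKaehler4
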