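import Mathlib

/-!
Generation of a module at a prime.
-/

namespace Groth.Agent.CplKaehler4

open TensorProduct

variable {A : Type*} [CommRing A] (p : Ideal A) [p.IsPrime] {M : Type*} [AddCommGroup M] [Module A M]
  {ι : Type*}

/-- `s` generates `M` at `p`. -/
def GenAt (s : ι → M) : Prop :=
  ∀ y : M, ∃ c ∉ p, c • y ∈ Submodule.span A (Set.range s)

theorem genAt_iff_localized (s : ι → M) : GenAt p s ↔
    Submodule.span (Localization.AtPrime p)
      (Set.range fun i => LocalizedModule.mkLinearMap p.primeCompl M (s i)) = ⊤ := by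
  constructor
  · intro h
    refine eq_top_iff.2 fun y hy0 => ?_
    clear hy0
    induction y using LocalizedModule.induction_on with
    | h m t =>
      obtain ⟨c, hc, hm⟩ := h m
      have h1 := Submodule.mem_map_of_mem (f := LocalizedModule.mkLinearMap p.primeCompl M) hm
      rw [Submodule.map_span, ← Set.range_comp] at h1
      have h2 := Submodule.span_le_restrictScalars A (Localization.AtPrime p) _ h1
      have e : LocalizedModule.mk m t = Localization.mk 1 (⟨c, hc⟩ * t) •
          LocalizedModule.mkLinearMap p.primeCompl M (c • m) := by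
        rw [LocalizedModule.mkLinearMap_apply, LocalizedModule.mk_smul_mk, one_smul, mul_one,
          LocalizedModule.mk_eq]
        exact ⟨1, by simp [Submonoid.smul_def, mul_smul, smul_comm c]⟩
      rw [e]
      exact Submodule.smul_mem _ _ h2
  · intro h y
    have hy : LocalizedModule.mkLinearMap p.primeCompl M y ∈ Submodule.span (Localization.AtPrime p)
      (Set.range fun i => LocalizedModule.mkLinearMap p.primeCompl M (s i)) := h ▸ trivial
    rw [show (Set.range fun i => LocalizedModule.mkLinearMap p.primeCompl M (s i)) =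
      LocalizedModule.mkLinearMap p.primeCompl M '' Set.range s from Set.range_comp _ _,
      IsLocalization.mem_span_iff p.primeCompl] at hy
    obtain ⟨z, hz, t, ht⟩ := hy
    rw [← Submodule.map_span] at hz
    obtain ⟨m, hm, rfl⟩ := hz
    have h1 : LocalizedModule.mkLinearMap p.primeCompl M ((t : A) • y) =
        LocalizedModule.mkLinearMap p.primeCompl M m := by
      rw [map_smul, ht, ← algebraMap_smul (Localization.AtPrime p) (t : A), smul_smul,
        IsLocalization.mk'_spec' (Localization.AtPrime p), map_one, one_smul]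
    obtain ⟨u, hu⟩ := IsLocalizedModule.exists_of_eq (S := p.primeCompl) h1
    refine ⟨(u : A) * t, fun hmem => (u * t).2 hmem, ?_⟩
    rw [mul_smul, ← Submonoid.smul_def, hu]
    exact Submodule.smul_mem _ _ hm

theorem genAt_fibre {s : ι → M} (h : GenAt p s) :
    Submodule.span p.ResidueField (Set.range fun i => (1 : p.ResidueField) ⊗ₜ[A] s i) = ⊤ := by
  refine eq_top_iff.2 fun y hy0 => ?_
  clear hy0
  induction y using TensorProduct.induction_on with
  | zero => exact Submodule.zero_mem _
  | add x y hx hy => exact Submodule.add_mem _ hx hy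
  | tmul r m =>
    obtain ⟨c, hc, hm⟩ := h m
    have h1 := Submodule.mem_map_of_mem (f := TensorProduct.mk A p.ResidueField M 1) hm
    rw [Submodule.map_span, ← Set.range_comp] at h1
    have h2 := Submodule.span_le_restrictScalars A p.ResidueField _ h1
    have hne : algebraMap A p.ResidueField c ≠ 0 := by
      rwa [Ne, Ideal.algebraMap_residueField_eq_zero]
    have e : r ⊗ₜ[A] m = (r * (algebraMap A p.ResidueField c)⁻¹) • ((1 : p.ResidueField) ⊗ₜ[A] (c • m)) := by
      rw [TensorProduct.tmul_smul, TensorProduct.smul_tmul', TensorProduct.smul_tmul', Algebra.smul_def c, mul_one,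
        smul_eq_mul, mul_assoc, inv_mul_cancel₀ hne, mul_one]
    rw [e]
    exact Submodule.smul_mem _ _ h2

theorem genAt_of_fibre [Module.Finite A M] {s : ι → M}
    (h : Submodule.span p.ResidueField (Set.range fun i => (1 : p.ResidueField) ⊗ₜ[A] s i) = ⊤) :
    GenAt p s := by
  let Q := M ⧸ Submodule.span A (Set.range s)
  let q : M →ₗ[A] Q := (Submodule.span A (Set.range s)).mkQ
  have hsub : Subsingleton (p.ResidueField ⊗[A] Q) := by
    refine subsingleton_of_forall_eq 0 fun z => ?_
    obtain ⟨w, rfl⟩ := LinearMap.lTensor_surjective p.ResidueField (g := q) (Submodule.mkQ_surjective _) z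
    have hw : w ∈ Submodule.span p.ResidueField (Set.range fun i => (1 : p.ResidueField) ⊗ₜ[A] s i) := h ▸ trivial
    show q.baseChange p.ResidueField w = 0
    refine (Submodule.span_le (p := LinearMap.ker (q.baseChange p.ResidueField))).2 ?_ hw
    rintro _ ⟨i, rfl⟩
    rw [SetLike.mem_coe, LinearMap.mem_ker, LinearMap.baseChange_tmul,
      show q (s i) = 0 from (Submodule.Quotient.mk_eq_zero _).2 (Submodule.subset_span ⟨i, rfl⟩), tmul_zero]
  let e := TensorProduct.AlgebraTensorModule.cancelBaseChange A (Localization.AtPrime p) p.ResidueField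
    p.ResidueField Q
  have hsub' : Subsingleton (Localization.AtPrime p ⊗[A] Q) :=
    (IsLocalRing.subsingleton_tensorProduct (R := Localization.AtPrime p)).1 e.toEquiv.subsingleton
  have hQ : Subsingleton (LocalizedModule p.primeCompl Q) :=
    (LocalizedModule.equivTensorProduct p.primeCompl Q).toEquiv.subsingleton
  intro y
  obtain ⟨c, hc, hc'⟩ := (LocalizedModule.subsingleton_iff.1 hQ) (q y)
  refine ⟨c, hc, ?_⟩
  rwa [← map_smul, Submodule.mkQ_apply, Submodule.Quotient.mk_eq_zero] at hc'

theorem exists_genAt [Module.Finite A M] :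
    ∃ s : Fin (Module.finrank p.ResidueField (p.ResidueField ⊗[A] M)) → M, GenAt p s := by
  have hspan : Submodule.span p.ResidueField (Set.range fun y : M => (1 : p.ResidueField) ⊗ₜ[A] y) = ⊤ := by
    refine eq_top_iff.2 fun z hz0 => ?_
    clear hz0
    induction z using TensorProduct.induction_on with
    | zero => exact Submodule.zero_mem _
    | add x y hx hy => exact Submodule.add_mem _ hx hy
    | tmul r m =>
      rw [← mul_one r, ← smul_eq_mul, ← TensorProduct.smul_tmul']
      exact Submodule.smul_mem _ _ (Submodule.subset_span ⟨m, rfl⟩)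
  obtain ⟨t, ht, hbt, hli⟩ := exists_linearIndependent p.ResidueField
    (Set.range fun y : M => (1 : p.ResidueField) ⊗ₜ[A] y)
  rw [hspan] at hbt
  let b := Module.Basis.mk hli (by rw [Subtype.range_coe, hbt])
  let e := (Module.finBasis p.ResidueField (p.ResidueField ⊗[A] M)).indexEquiv b
  choose s hs using fun i => ht (e i).2
  refine ⟨s, genAt_of_fibre p ?_⟩
  rw [show (fun i => (1 : p.ResidueField) ⊗ₜ[A] s i) = fun i => ((e i : t) : p.ResidueField ⊗[A] M) from
    funext hs, show Set.range (fun i => ((e i : t) : p.ResidueField ⊗[A] M)) = t from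
      (e.surjective.range_comp ((↑) : t → p.ResidueField ⊗[A] M)).trans Subtype.range_coe, hbt]

theorem exists_genAt_of_localized {n : ℕ}
    (h : ∃ t : Fin n → LocalizedModule p.primeCompl M, Submodule.span (Localization.AtPrime p) (Set.range t) = ⊤) :
    ∃ s : Fin n → M, GenAt p s := by
  obtain ⟨t, ht⟩ := h
  choose x hx using fun i => IsLocalizedModule.surj p.primeCompl (LocalizedModule.mkLinearMap p.primeCompl M) (t i)
  refine ⟨fun i => (x i).1, (genAt_iff_localized p _).2 (eq_top_iff.2 (ht ▸ Submodule.span_le.2 ?_))⟩
  rintro _ ⟨i, rfl⟩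
  have e : t i = Localization.mk 1 (x i).2 • LocalizedModule.mkLinearMap p.primeCompl M (x i).1 := by
    rw [← hx i, Submonoid.smul_def, ← IsScalarTower.algebraMap_smul (Localization.AtPrime p) ((x i).2 : A) (t i),
      smul_smul, ← Localization.mk_one_eq_algebraMap, Localization.mk_mul, one_mul, mul_one, Localization.mk_self,
      one_smul]
  rw [SetLike.mem_coe, e]
  exact Submodule.smul_mem _ _ (Submodule.subset_span ⟨i, rfl⟩)

theorem finrank_fibre_le {n : ℕ} {s : Fin n → M} (h : GenAt p s) :
    Module.finrank p.ResidueField (p.ResidueField ⊗[A] M) ≤ n := by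
  have h1 := finrank_range_le_card (R := p.ResidueField) fun i => (1 : p.ResidueField) ⊗ₜ[A] s i
  rw [Set.finrank, genAt_fibre p h, finrank_top] at h1
  simpa using h1

end Groth.Agent.CplKaehler4
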