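import Groth.Agent.CplKaehler4.Gen
import Groth.Agent.CplKaehler4.PS
import Groth.Agent.CplKaehler4.Fibre

/-!
Completed differentials of a finite algebra over a power series ring.
-/

namespace Groth.Agent.CplKaehler4

open IsLocalRing

universe u

variable {k : Type u} [Field k] {A : Type u} [CommRing A] [Algebra k A] {r : ℕ}
  [Algebra (MvPowerSeries (Fin r) k) A] [IsScalarTower k (MvPowerSeries (Fin r) k) A]
  [Module.Finite (MvPowerSeries (Fin r) k) A]

local notation "T" => fun i : Fin r => algebraMap (MvPowerSeries (Fin r) k) A (MvPowerSeries.X i)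

theorem derivation_algebraMap {N : Type*} [AddCommGroup N] [Module A N] [Module k N] [IsScalarTower k A N]
    [Module.Finite A N] (D : Derivation k A N) (f : MvPowerSeries (Fin r) k) :
    D (algebraMap (MvPowerSeries (Fin r) k) A f) =
      ∑ i, algebraMap (MvPowerSeries (Fin r) k) A (MvPowerSeries.pderiv k i f) • D (T i) := by
  letI : Module (MvPowerSeries (Fin r) k) N := Module.compHom N (algebraMap (MvPowerSeries (Fin r) k) A)
  have : IsScalarTower (MvPowerSeries (Fin r) k) A N := ⟨fun x y z => by
    show (x • y) • z = algebraMap (MvPowerSeries (Fin r) k) A x • y • z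
    rw [Algebra.smul_def, mul_smul]⟩
  have : IsScalarTower k (MvPowerSeries (Fin r) k) N := ⟨fun x y z => by
    show algebraMap (MvPowerSeries (Fin r) k) A (x • y) • z = x • algebraMap (MvPowerSeries (Fin r) k) A y • z
    rw [Algebra.smul_def, map_mul, ← IsScalarTower.algebraMap_apply, mul_smul, algebraMap_smul]⟩
  have : Module.Finite (MvPowerSeries (Fin r) k) N := Module.Finite.trans A N
  have := isHausdorff_vars (k := k) (n := r) N
  exact derivation_eq_sum (D.compAlgebraMap (MvPowerSeries (Fin r) k)) f

variable [IsLocalRing A] [IsNoetherianRing A] [IsAdicComplete (maximalIdeal A) A]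
  [Module.Finite (ResidueField A) (Ω[ResidueField A⁄k])]

local notation "Om" => AdicCompletion (maximalIdeal A) (Ω[A⁄k])

theorem exists_proj : ∃ π : Om →ₗ[A] Ω[A⁄MvPowerSeries (Fin r) k],
    (∀ a, π (AdicCompletion.of _ _ (KaehlerDifferential.D k A a)) = KaehlerDifferential.D _ A a) ∧
      Function.Surjective π ∧
      LinearMap.ker π = Submodule.span A (Set.range fun i =>
        AdicCompletion.of (maximalIdeal A) (Ω[A⁄k]) (KaehlerDifferential.D k A (T i))) := by
  classical
  have : Algebra.FiniteType (MvPowerSeries (Fin r) k) A := Module.Finite.finiteType A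
  obtain ⟨π, hπ⟩ := exists_lift k A ((KaehlerDifferential.D (MvPowerSeries (Fin r) k) A).restrictScalars k)
  refine ⟨π, hπ, ?_, le_antisymm (fun y hy => ?_) ?_⟩
  · rw [← LinearMap.range_eq_top, eq_top_iff, ← KaehlerDifferential.span_range_derivation, Submodule.span_le]
    rintro _ ⟨a, rfl⟩
    exact ⟨_, hπ a⟩
  · let S := Submodule.span A (Set.range fun i =>
        AdicCompletion.of (maximalIdeal A) (Ω[A⁄k]) (KaehlerDifferential.D k A (T i)))
    let E₀ : Derivation k A (Om ⧸ S) :=
      (S.mkQ ∘ₗ AdicCompletion.of (maximalIdeal A) (Ω[A⁄k])).compDer (KaehlerDifferential.D k A)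
    have hk : ∀ f, E₀ (algebraMap (MvPowerSeries (Fin r) k) A f) = 0 := fun f => by
      have := finite_completion k A
      rw [derivation_algebraMap E₀ f]
      refine Finset.sum_eq_zero fun i _ => ?_
      have : E₀ (T i) = 0 := (Submodule.Quotient.mk_eq_zero _).2 (Submodule.subset_span ⟨i, rfl⟩)
      rw [this, smul_zero]
    let E : Derivation (MvPowerSeries (Fin r) k) A (Om ⧸ S) := Derivation.mk'
      { toFun := E₀
        map_add' := map_add E₀
        map_smul' := fun c x => by
          rw [RingHom.id_apply, Algebra.smul_def, Derivation.leibniz, hk, smul_zero, add_zero, algebraMap_smul] }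
      E₀.leibniz
    have h : E.liftKaehlerDifferential ∘ₗ π = S.mkQ := by
      refine LinearMap.ext_on_range (span_d k A) fun a => ?_
      rw [LinearMap.comp_apply, hπ, Derivation.restrictScalars_apply, Derivation.liftKaehlerDifferential_comp_D]
      rfl
    have := LinearMap.congr_fun h y
    rw [LinearMap.comp_apply, LinearMap.mem_ker.1 hy, map_zero, Submodule.mkQ_apply] at this
    exact (Submodule.Quotient.mk_eq_zero _).1 this.symm
  · rw [Submodule.span_le]
    rintro _ ⟨i, rfl⟩
    rw [SetLike.mem_coe, LinearMap.mem_ker, hπ]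
    exact (KaehlerDifferential.D (MvPowerSeries (Fin r) k) A).map_algebraMap (MvPowerSeries.X i)

/-- The differentials of the variables generate at `p` exactly when the map is unramified at `p`. -/
theorem genAt_iff_unramifiedAt (p : Ideal A) [p.IsPrime] :
    GenAt p (fun i => AdicCompletion.of (maximalIdeal A) (Ω[A⁄k]) (KaehlerDifferential.D k A (T i))) ↔
      Algebra.IsUnramifiedAt (MvPowerSeries (Fin r) k) p := by
  obtain ⟨π, -, hs, hker⟩ := exists_proj (k := k) (A := A) (r := r)
  rw [Algebra.IsUnramifiedAt, Algebra.formallyUnramified_iff]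
  let f := KaehlerDifferential.map (MvPowerSeries (Fin r) k) (MvPowerSeries (Fin r) k) A (Localization.AtPrime p)
  let e : Ω[Localization.AtPrime p⁄MvPowerSeries (Fin r) k] ≃ₗ[A]
      LocalizedModule p.primeCompl (Ω[A⁄MvPowerSeries (Fin r) k]) :=
    (IsLocalizedModule.iso p.primeCompl f).symm
  rw [e.toEquiv.subsingleton_congr, LocalizedModule.subsingleton_iff]
  constructor
  · intro h ω
    obtain ⟨y, rfl⟩ := hs ω
    obtain ⟨c, hc, hy⟩ := h y
    refine ⟨c, hc, ?_⟩
    rw [← map_smul, ← LinearMap.mem_ker, hker]
    exact hy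
  · intro h y
    obtain ⟨c, hc, hy⟩ := h (π y)
    refine ⟨c, hc, ?_⟩
    rw [← hker, LinearMap.mem_ker, map_smul, hy]

end Groth.Agent.CplKaehler4
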