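import Mathlib
import Groth.Agent.AdicLib.Basic

/-!
Completed modules whose reduction is finite, and completed modules of differentials.
-/

namespace Groth.Agent.CplKaehler4

open Submodule IsLocalRing TensorProduct

universe u

variable {R : Type*} [CommRing R] (I : Ideal R) {M : Type*} [AddCommGroup M] [Module R M]

theorem isPrecomplete_pi [IsPrecomplete I R] (n : ℕ) : IsPrecomplete I (Fin n → R) := by
  refine ⟨fun g hg => ?_⟩
  choose L hL using fun i => IsPrecomplete.prec (inferInstance : IsPrecomplete I R)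
    (f := fun m => g m i) (fun {m k} hmk => by
      have := (hg hmk).map (LinearMap.proj i : (Fin n → R) →ₗ[R] R)
      exact this.mono (by rw [Submodule.map_smul'']; exact Submodule.smul_mono le_rfl le_top))
  refine ⟨L, fun m => ?_⟩
  rw [SModEq.sub_mem, ← Finset.univ_sum_single (g m - L)]
  refine Submodule.sum_mem _ fun i _ => ?_
  have h1 : (g m - L) i ∈ I ^ m := by simpa [SModEq.sub_mem] using hL i m
  rw [show (Pi.single i ((g m - L) i) : Fin n → R) = ((g m - L) i) • Pi.single i 1 by
    rw [← Pi.single_smul', smul_eq_mul, mul_one]]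
  exact Submodule.smul_mem_smul h1 mem_top

/-- If `M/IM` is spanned by `v` and `R` is precomplete, then the completion of `M` is spanned by the
images of `v`; in particular `M → M^` is surjective. -/
theorem exists_eq_of_sum [IsPrecomplete I R] {n : ℕ} (v : Fin n → M)
    (hv : Submodule.span R (Set.range v) ⊔ I • ⊤ = ⊤) (y : AdicCompletion I M) :
    ∃ c : Fin n → R, AdicCompletion.of I M (∑ i, c i • v i) = y := by
  let f : (Fin n → R) →ₗ[R] M := Fintype.linearCombination R v
  have h : Function.Surjective ((I • ⊤ : Submodule R M).mkQ ∘ₗ f) := by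
    rw [← LinearMap.range_eq_top, LinearMap.range_comp, Fintype.range_linearCombination,
      Submodule.map_mkQ_eq_top, sup_comm, hv]
  have := isPrecomplete_pi I n
  obtain ⟨z, rfl⟩ := AdicCompletion.map_surjective_of_mkQ_comp_surjective (I := I) h y
  obtain ⟨c, rfl⟩ := AdicCompletion.of_surjective I (Fin n → R) z
  exact ⟨c, (AdicCompletion.map_of I f c).symm⟩

theorem exists_span_sup [Module.Finite R (M ⧸ (I • ⊤ : Submodule R M))] :
    ∃ (n : ℕ) (v : Fin n → M), Submodule.span R (Set.range v) ⊔ I • ⊤ = ⊤ := by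
  obtain ⟨n, g, hg⟩ := Module.Finite.exists_fin (R := R) (M := M ⧸ (I • ⊤ : Submodule R M))
  choose v hv using fun i => (I • ⊤ : Submodule R M).mkQ_surjective (g i)
  refine ⟨n, v, ?_⟩
  rw [sup_comm, ← Submodule.map_mkQ_eq_top, Submodule.map_span, ← Set.range_comp]
  simpa [Function.comp_def, hv] using hg

theorem of_surjective [IsPrecomplete I R] [Module.Finite R (M ⧸ (I • ⊤ : Submodule R M))] :
    Function.Surjective (AdicCompletion.of I M) := by
  obtain ⟨n, v, hv⟩ := exists_span_sup I (M := M)
  intro y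
  obtain ⟨c, rfl⟩ := exists_eq_of_sum I v hv y
  exact ⟨_, rfl⟩

theorem span_eq_top [IsPrecomplete I R] {n : ℕ} (v : Fin n → M)
    (hv : Submodule.span R (Set.range v) ⊔ I • ⊤ = ⊤) :
    Submodule.span R (Set.range fun i => AdicCompletion.of I M (v i)) = ⊤ := by
  refine eq_top_iff.2 fun y _ => ?_
  obtain ⟨c, rfl⟩ := exists_eq_of_sum I v hv y
  rw [map_sum]
  refine Submodule.sum_mem _ fun i _ => ?_
  rw [map_smul]
  exact Submodule.smul_mem _ _ (Submodule.subset_span ⟨i, rfl⟩)

theorem finite [IsPrecomplete I R] [Module.Finite R (M ⧸ (I • ⊤ : Submodule R M))] :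
    Module.Finite R (AdicCompletion I M) := by
  obtain ⟨n, v, hv⟩ := exists_span_sup I (M := M)
  exact ⟨by rw [← span_eq_top I v hv]; exact Submodule.fg_span (Set.finite_range _)⟩

/-- Linear maps out of the completion are determined on the dense image. -/
theorem hom_ext [IsPrecomplete I R] [Module.Finite R (M ⧸ (I • ⊤ : Submodule R M))]
    {N : Type*} [AddCommGroup N] [Module R N] {φ ψ : AdicCompletion I M →ₗ[R] N}
    (h : ∀ x, φ (AdicCompletion.of I M x) = ψ (AdicCompletion.of I M x)) : φ = ψ := by
  refine LinearMap.ext fun y => ?_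
  obtain ⟨x, rfl⟩ := of_surjective I (M := M) y
  exact h x

/-- Extension of a linear map into a complete module to the completion. -/
noncomputable def lift {N : Type*} [AddCommGroup N] [Module R N] [IsAdicComplete I N]
    (f : M →ₗ[R] N) : AdicCompletion I M →ₗ[R] N :=
  (AdicCompletion.ofLinearEquiv I N).symm.toLinearMap ∘ₗ (AdicCompletion.map I f).restrictScalars R

theorem lift_of {N : Type*} [AddCommGroup N] [Module R N] [IsAdicComplete I N]
    (f : M →ₗ[R] N) (x : M) : lift I f (AdicCompletion.of I M x) = f x := by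
  apply (AdicCompletion.ofLinearEquiv I N).injective
  simp [lift, AdicCompletion.map_of, AdicCompletion.ofLinearEquiv_apply]

section Kaehler

variable {A B : Type u} [CommRing A] [CommRing B] [Algebra A B] (J : Ideal B)

/-- `Ω_{B/A}/JΩ_{B/A}` is finite if `Ω_{(B/J)/A}` and `J/J²` are. -/
theorem finite_quot_kaehler [Module.Finite (B ⧸ J) (Ω[B ⧸ J⁄A])]
    [Module.Finite (B ⧸ J) J.Cotangent] :
    Module.Finite B ((Ω[B⁄A]) ⧸ (J • ⊤ : Submodule B (Ω[B⁄A]))) := by
  have hsurj : Function.Surjective (algebraMap B (B ⧸ J)) := Ideal.Quotient.mk_surjective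
  haveI : Module.Finite B (Ω[B ⧸ J⁄A]) := Module.Finite.trans (B ⧸ J) _
  haveI hJ : Module.Finite B J.Cotangent := Module.Finite.trans (B ⧸ J) _
  haveI hJ' : Module.Finite B (RingHom.ker (algebraMap B (B ⧸ J))).Cotangent := by
    rw [Ideal.Quotient.algebraMap_eq, Ideal.mk_ker]
    exact hJ
  haveI : Module.Finite B (TensorProduct B (B ⧸ J) (Ω[B⁄A])) := by
    refine ⟨Submodule.fg_of_fg_map_of_fg_inf_ker
      ((KaehlerDifferential.mapBaseChange A B (B ⧸ J)).restrictScalars B) ?_ ?_⟩
    · rw [Submodule.map_top, LinearMap.range_eq_top.2]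
      · exact Module.Finite.fg_top
      · exact KaehlerDifferential.mapBaseChange_surjective A B (B ⧸ J) hsurj
    · rw [top_inf_eq, LinearMap.ker_restrictScalars,
        ← KaehlerDifferential.range_kerCotangentToTensor A B (B ⧸ J) hsurj, LinearMap.range_eq_map]
      exact Module.Finite.fg_top.map _
  exact Module.Finite.equiv (TensorProduct.quotTensorEquivQuotSMul (Ω[B⁄A]) J)

end Kaehler

end Groth.Agent.CplKaehler4
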