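import Groth.Agent.CplFib6.CTensor
import Groth.Agent.AdicLib.Basic
import Groth.Agent.Synt29.CIBaseChangeLocal
import Mathlib.RingTheory.AdicCompletion.Functoriality

/-!
The completed tensor product of a complete local algebra with a field.
-/

set_option linter.style.haveILetI false

namespace Groth.Agent.CplKaehler4

open IsLocalRing TensorProduct

universe u

attribute [local instance] Algebra.TensorProduct.rightAlgebra

theorem isAdicComplete_field (K : Type u) [Field K] : IsAdicComplete (maximalIdeal K) K := by
  rw [IsLocalRing.maximalIdeal_eq_bot]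
  infer_instance

theorem cTensorIdeal_field (k A K : Type u) [Field k] [CommRing A] [IsLocalRing A] [Algebra k A] [Field K]
    [Algebra k K] : EGA4.cTensorIdeal k A K = (maximalIdeal A).map (algebraMap A (A ⊗[k] K)) := by
  rw [CplFib6.cTensorIdeal_eq, IsLocalRing.maximalIdeal_eq_bot (R := K), Ideal.map_bot, sup_bot_eq]

/-- Localizations at maximal ideals of a complete ring with artinian quotient are quotients. -/
theorem surjective_atPrime {R : Type u} [CommRing R] [IsNoetherianRing R] (J : Ideal R) [IsAdicComplete J R]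
    [IsArtinianRing (R ⧸ J)] (M : Ideal R) [M.IsMaximal] :
    Function.Surjective (algebraMap R (Localization.AtPrime M)) := by
  let S := Localization.AtPrime M
  have hJM : J ≤ M := (IsAdicComplete.le_jacobson_bot J).trans (sInf_le ⟨bot_le, inferInstance⟩)
  haveI : IsHausdorff J S := by
    haveI : IsNoetherianRing S := IsLocalization.isNoetherianRing M.primeCompl S inferInstance
    have hle : J.map (algebraMap R S) ≤ maximalIdeal S :=
      (Ideal.map_mono hJM).trans Localization.AtPrime.map_eq_maximalIdeal.le
    haveI : IsHausdorff (maximalIdeal S) S :=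
      IsHausdorff.of_le_jacobson _ _ (maximalIdeal_le_jacobson _)
    refine ⟨fun x hx => IsHausdorff.haus (I := maximalIdeal S) inferInstance x fun n => ?_⟩
    have := SModEq.zero.1 (hx n)
    rw [Ideal.smul_top_eq_map, Submodule.restrictScalars_mem, Ideal.map_pow] at this
    rw [SModEq.zero, smul_eq_mul, Ideal.mul_top]
    exact Ideal.pow_right_mono hle n this
  refine surjective_of_mkQ_comp_surjective (I := J) (f := (Algebra.linearMap R S)) fun y => ?_
  obtain ⟨y, rfl⟩ := Submodule.Quotient.mk_surjective _ y
  obtain ⟨a, s, rfl⟩ := IsLocalization.exists_mk'_eq M.primeCompl y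
  haveI : (M.map (Ideal.Quotient.mk J)).IsMaximal :=
    (Ideal.map_eq_top_or_isMaximal_of_surjective _ Ideal.Quotient.mk_surjective ‹M.IsMaximal›).resolve_left fun h => by
      have := congrArg (Ideal.comap (Ideal.Quotient.mk J)) h
      rw [Ideal.comap_map_of_surjective _ Ideal.Quotient.mk_surjective, ← RingHom.ker_eq_comap_bot, Ideal.mk_ker,
        sup_of_le_left hJM, Ideal.comap_top] at this
      exact Ideal.IsMaximal.ne_top ‹_› this
  let Mb := M.map (Ideal.Quotient.mk J)
  have hsM : Ideal.Quotient.mk J (s : R) ∉ Mb := fun h => by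
    refine s.2 ?_
    have := Ideal.mem_comap.2 h
    rwa [Ideal.comap_map_of_surjective _ Ideal.Quotient.mk_surjective, ← RingHom.ker_eq_comap_bot, Ideal.mk_ker,
      sup_of_le_left hJM] at this
  obtain ⟨z, hz⟩ := IsArtinianRing.localization_surjective Mb.primeCompl (Localization.AtPrime Mb)
    (IsLocalization.mk' _ (Ideal.Quotient.mk J a) (⟨_, hsM⟩ : Mb.primeCompl))
  obtain ⟨z, rfl⟩ := Ideal.Quotient.mk_surjective z
  rw [IsLocalization.eq_mk'_iff_mul_eq, ← map_mul, IsLocalization.eq_iff_exists Mb.primeCompl] at hz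
  obtain ⟨⟨c, hc⟩, hcz⟩ := hz
  obtain ⟨c, rfl⟩ := Ideal.Quotient.mk_surjective c
  rw [← map_mul, ← map_mul, ← map_mul, Ideal.Quotient.eq] at hcz
  have hcM : c ∉ M := fun h => hc (Ideal.mem_map_of_mem _ h)
  refine ⟨z, ?_⟩
  rw [LinearMap.comp_apply, Submodule.mkQ_apply, Submodule.Quotient.eq, Ideal.smul_top_eq_map,
    Submodule.restrictScalars_mem, Algebra.linearMap_apply]
  have hu : IsUnit (algebraMap R S (c * s)) := IsLocalization.map_units S (⟨c, hcM⟩ * s : M.primeCompl)
  refine (Ideal.mul_unit_mem_iff_mem _ hu).1 ?_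
  rw [sub_mul, ← map_mul, map_mul (algebraMap R S) c, mul_comm (algebraMap R S c), ← mul_assoc (IsLocalization.mk' S a s),
    IsLocalization.mk'_spec, ← map_mul, ← map_sub]
  refine Ideal.mem_map_of_mem _ ?_
  have e : z * (c * s) - a * c = c * (z * s) - c * a := by ring
  exact e ▸ hcz

/-- Localizations at maximal ideals of a complete ring with artinian quotient are complete. -/
theorem isAdicComplete_atPrime {R : Type u} [CommRing R] [IsNoetherianRing R] (J : Ideal R) [IsAdicComplete J R]
    [IsArtinianRing (R ⧸ J)] (M : Ideal R) [M.IsMaximal] :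
    IsAdicComplete (maximalIdeal (Localization.AtPrime M)) (Localization.AtPrime M) ∧
      IsArtinianRing (Localization.AtPrime M ⧸ J.map (algebraMap R (Localization.AtPrime M))) := by
  let S := Localization.AtPrime M
  have hs := surjective_atPrime J M
  haveI : Module.Finite R S := Module.Finite.of_surjective (Algebra.linearMap R S) hs
  haveI : IsAdicComplete J S := AdicLib.isAdicComplete_of_finite J S
  haveI hc : IsAdicComplete (J.map (algebraMap R S)) S :=
    (IsAdicComplete.map_algebraMap_iff (S := S) J S).mpr inferInstance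
  have hJM : J ≤ M := (IsAdicComplete.le_jacobson_bot J).trans (sInf_le ⟨bot_le, inferInstance⟩)
  let g : R ⧸ J →+* S ⧸ J.map (algebraMap R S) := Ideal.quotientMap _ (algebraMap R S) Ideal.le_comap_map
  have hg : Function.Surjective g := Ideal.quotientMap_surjective hs
  haveI hart : IsArtinianRing (S ⧸ J.map (algebraMap R S)) := hg.isArtinianRing
  refine ⟨?_, hart⟩
  have hle : J.map (algebraMap R S) ≤ maximalIdeal S :=
    (Ideal.map_mono hJM).trans Localization.AtPrime.map_eq_maximalIdeal.le
  haveI : IsNoetherianRing S := IsLocalization.isNoetherianRing M.primeCompl S inferInstance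
  haveI : Nontrivial (S ⧸ J.map (algebraMap R S)) :=
    Ideal.Quotient.nontrivial_iff.2 (ne_top_of_le_ne_top (maximalIdeal.isMaximal S).ne_top hle)
  haveI : IsLocalRing (S ⧸ J.map (algebraMap R S)) := .of_surjective' (Ideal.Quotient.mk _) Ideal.Quotient.mk_surjective
  obtain ⟨N, hN⟩ := (isArtinianRing_iff_isNilpotent_maximalIdeal (S ⧸ J.map (algebraMap R S))).1 hart
  have hpow : maximalIdeal S ^ (N + 1) ≤ J.map (algebraMap R S) := by
    refine (Ideal.pow_le_pow_right N.le_succ).trans ?_
    rw [← Ideal.mk_ker (I := J.map (algebraMap R S)), ← Ideal.map_eq_bot_iff_le_ker, Ideal.map_pow,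
      map_maximalIdeal_of_surjective (Ideal.Quotient.mk _) Ideal.Quotient.mk_surjective, hN, Ideal.zero_eq_bot]
  exact (AdicLib.iff_of_pow_le (I := J.map (algebraMap R S)) (J := maximalIdeal S) one_pos N.succ_pos
    (by rw [pow_one]; exact hle) hpow).1 hc

section

variable (k A K : Type u) [Field k] [CommRing A] [IsNoetherianRing A] [IsLocalRing A] [Algebra k A]
  [Module.Finite k (ResidueField A)] [Field K] [Algebra k K]

theorem isArtinianRing_quot : IsArtinianRing
    (EGA4.CTensor k A K ⧸ (maximalIdeal A).map (algebraMap A (EGA4.CTensor k A K))) := by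
  haveI := isAdicComplete_field K
  obtain ⟨e, -⟩ := CplFib6.exists_quot_equiv (k := k) (A := A) (B := K) 1
  haveI := (CplFib6.finite_and_flat_trunc (k := k) (A := A) (B := K) 1).1
  haveI : IsArtinianRing ((A ⊗[k] K) ⧸ CplFib6.trunc k A K 1) := IsArtinianRing.of_finite K _
  haveI : IsArtinianRing (EGA4.CTensor k A K ⧸ (maximalIdeal A ^ 1).map (algebraMap A (EGA4.CTensor k A K))) :=
    e.toRingEquiv.surjective.isArtinianRing (f := e.toRingEquiv.toRingHom)
  let q := Ideal.quotEquivOfEq (show (maximalIdeal A ^ 1).map (algebraMap A (EGA4.CTensor k A K)) =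
    (maximalIdeal A).map (algebraMap A (EGA4.CTensor k A K)) by rw [pow_one])
  exact q.surjective.isArtinianRing (f := q.toRingHom)

theorem isAdicComplete_cTensor : IsAdicComplete ((maximalIdeal A).map (algebraMap A (EGA4.CTensor k A K)))
    (EGA4.CTensor k A K) := by
  haveI := isAdicComplete_field K
  have h := AdicCompletion.isAdicComplete_self (EGA4.cTensorIdeal k A K) (CplFib6.fg_cTensorIdeal (k := k) (A := A) (B := K))
  have e : (EGA4.cTensorIdeal k A K).map (algebraMap (A ⊗[k] K) (EGA4.CTensor k A K)) =
      (maximalIdeal A).map (algebraMap A (EGA4.CTensor k A K)) := by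
    refine (congrArg (Ideal.map (algebraMap (A ⊗[k] K) (EGA4.CTensor k A K))) (cTensorIdeal_field k A K)).trans ?_
    rw [Ideal.map_map, ← IsScalarTower.algebraMap_eq]
  exact e ▸ h

theorem atPrime_props (M : Ideal (EGA4.CTensor k A K)) [M.IsMaximal] :
    IsAdicComplete (maximalIdeal (Localization.AtPrime M)) (Localization.AtPrime M) ∧
      Module.FaithfullyFlat A (Localization.AtPrime M) ∧
      ringKrullDim (Localization.AtPrime M) = ringKrullDim A := by
  haveI := isAdicComplete_field K
  haveI := isAdicComplete_cTensor k A K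
  haveI := isArtinianRing_quot k A K
  haveI : IsNoetherianRing (EGA4.CTensor k A K) := CplFib6.isNoetherianRing_cTensor
  let R := EGA4.CTensor k A K
  let S := Localization.AtPrime M
  obtain ⟨hc, hart⟩ := isAdicComplete_atPrime ((maximalIdeal A).map (algebraMap A R)) M
  haveI : IsNoetherianRing S := IsLocalization.isNoetherianRing M.primeCompl S inferInstance
  haveI : Module.Flat A R := CplFib6.flat_left
  haveI : Module.Flat A S := Module.Flat.trans A R S
  have hmap : ((maximalIdeal A).map (algebraMap A R)).map (algebraMap R S) =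
      (maximalIdeal A).map (algebraMap A S) := by
    rw [Ideal.map_map, ← IsScalarTower.algebraMap_eq]
  have hle : (maximalIdeal A).map (algebraMap A S) ≤ maximalIdeal S := by
    rw [← hmap]
    refine (Ideal.map_mono ?_).trans Localization.AtPrime.map_eq_maximalIdeal.le
    exact (IsAdicComplete.le_jacobson_bot _).trans (sInf_le ⟨bot_le, inferInstance⟩)
  haveI : IsLocalHom (algebraMap A S) :=
    ((local_hom_TFAE (algebraMap A S)).out 3 0).1 (Ideal.map_le_iff_le_comap.1 hle)
  refine ⟨hc, Module.FaithfullyFlat.of_flat_of_isLocalHom, ?_⟩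
  rw [Synt29.ringKrullDim_eq_add_of_hasGoingDown (A := A) (A' := S)]
  haveI : IsArtinianRing (S ⧸ (maximalIdeal A).map (algebraMap A S)) :=
    (Ideal.quotEquivOfEq hmap).surjective.isArtinianRing (f := (Ideal.quotEquivOfEq hmap).toRingHom)
  haveI : Nontrivial (S ⧸ (maximalIdeal A).map (algebraMap A S)) :=
    Ideal.Quotient.nontrivial_iff.2 (ne_top_of_le_ne_top (maximalIdeal.isMaximal S).ne_top hle)
  rw [(ringKrullDimZero_iff_ringKrullDim_eq_zero (R := S ⧸ (maximalIdeal A).map (algebraMap A S))).1 inferInstance, add_zero]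

end

end Groth.Agent.CplKaehler4
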