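import Groth.Agent.CplKaehler4.Domain
import Groth.Agent.LC.CompleteCatenary

/-!
Freeness of the completed differentials at a point from the bound on the fibre.
-/

set_option linter.style.haveILetI false

namespace Groth.Agent.CplKaehler4

open IsLocalRing TensorProduct

universe u

/-- At a prime with domain localization the minimal prime below dies in the localization. -/
theorem algebraMap_atPrime_eq_zero {A : Type u} [CommRing A] (P : Ideal A) [P.IsPrime]
    [IsDomain (Localization.AtPrime P)] {q : Ideal A} (hq : q ∈ minimalPrimes A) (hqP : q ≤ P) {a : A}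
    (ha : a ∈ q) : algebraMap A (Localization.AtPrime P) a = 0 := by
  have hle : RingHom.ker (algebraMap A (Localization.AtPrime P)) ≤ q := by
    intro x hx
    obtain ⟨⟨c, hc⟩, hcx⟩ := (IsLocalization.map_eq_zero_iff P.primeCompl _ x).1 hx
    exact (hq.1.1.mem_or_mem (hcx ▸ q.zero_mem : c * x ∈ q)).resolve_left fun h => hc (hqP h)
  haveI : (RingHom.ker (algebraMap A (Localization.AtPrime P))).IsPrime := RingHom.ker_isPrime _
  exact hq.2 ⟨inferInstance, bot_le⟩ hle ha

/-- The dimension of the localization at a point. -/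
theorem ringKrullDim_quot_eq {A : Type u} [CommRing A] [IsLocalRing A] [IsNoetherianRing A]
    [IsAdicComplete (maximalIdeal A) A] (P : Ideal A) [P.IsPrime] [IsDomain (Localization.AtPrime P)]
    {q : Ideal A} (hq : q ∈ minimalPrimes A) (hqP : q ≤ P) :
    ringKrullDim (A ⧸ q) = ringKrullDim (A ⧸ P) + ringKrullDim (Localization.AtPrime P) := by
  haveI : q.IsPrime := hq.1.1
  rw [LC.dim_quot_eq_add_height q P hqP]
  congr 1
  let pb : Ideal (A ⧸ q) := P.map (Ideal.Quotient.mk q)
  haveI : pb.IsPrime := Ideal.map_isPrime_of_surjective Ideal.Quotient.mk_surjective (by rwa [Ideal.mk_ker])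
  have hpb : pb.comap (Ideal.Quotient.mk q) = P := by
    rw [Ideal.comap_map_of_surjective _ Ideal.Quotient.mk_surjective, ← RingHom.ker_eq_comap_bot, Ideal.mk_ker,
      sup_eq_left.2 hqP]
  rw [← IsLocalization.AtPrime.ringKrullDim_eq_height pb (Localization.AtPrime pb)]
  let f := Localization.localRingHom P pb (Ideal.Quotient.mk q) hpb.symm
  have hs : Function.Surjective f := by
    intro z
    obtain ⟨⟨a, s⟩, rfl⟩ := IsLocalization.mk'_surjective pb.primeCompl z
    obtain ⟨a, rfl⟩ := Ideal.Quotient.mk_surjective a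
    obtain ⟨t, ht⟩ := Ideal.Quotient.mk_surjective (s : A ⧸ q)
    have htP : t ∈ P.primeCompl := fun h => s.2 (ht ▸ Ideal.mem_map_of_mem _ h)
    refine ⟨IsLocalization.mk' _ a ⟨t, htP⟩, ?_⟩
    rw [Localization.localRingHom_mk']
    congr 1
    exact Subtype.ext ht
  have hi : Function.Injective f := by
    rw [injective_iff_map_eq_zero]
    intro z hz
    obtain ⟨⟨a, s⟩, rfl⟩ := IsLocalization.mk'_surjective P.primeCompl z
    rw [Localization.localRingHom_mk', IsLocalization.mk'_eq_zero_iff] at hz
    obtain ⟨⟨c, hc⟩, hca⟩ := hz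
    obtain ⟨c, rfl⟩ := Ideal.Quotient.mk_surjective c
    rw [← map_mul, Ideal.Quotient.eq_zero_iff_mem] at hca
    have hcq : c ∉ q := fun h => hc (Ideal.mem_map_of_mem _ (hqP h))
    have haq : a ∈ q := (Ideal.IsPrime.mem_or_mem ‹_› hca).resolve_left hcq
    rw [IsLocalization.mk'_eq_iff_eq_mul, zero_mul]
    exact algebraMap_atPrime_eq_zero P hq hqP haq
  exact (ringKrullDim_eq_of_ringEquiv (RingEquiv.ofBijective f ⟨hi, hs⟩)).symm

variable (k A : Type u) [Field k] [CommRing A] [IsLocalRing A] [IsNoetherianRing A] [Algebra k A]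
  [IsAdicComplete (maximalIdeal A) A] [Module.Finite k (ResidueField A)]

local notation "Om" => AdicCompletion (maximalIdeal A) (Ω[A⁄k])

theorem free_of_finrank_le (P : Ideal A) [P.IsPrime] [IsDomain (Localization.AtPrime P)]
    {q : Ideal A} (hq : q ∈ minimalPrimes A) (hqP : q ≤ P) {n : ℕ} (hn : ringKrullDim (A ⧸ q) = n)
    (hle : Module.finrank P.ResidueField (P.ResidueField ⊗[A] Om) ≤ n) :
    Module.Free (Localization.AtPrime P) (LocalizedModule P.primeCompl Om) ∧
      Module.finrank (Localization.AtPrime P) (LocalizedModule P.primeCompl Om) = n := by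
  classical
  haveI := finite_completion k A
  haveI : q.IsPrime := hq.1.1
  obtain ⟨s, hs⟩ := exists_genAt P (M := Om)
  let m := Module.finrank P.ResidueField (P.ResidueField ⊗[A] Om)
  have h1 := dim_quot_le_of_genAt k A P q hqP s hs
  rw [hn, Nat.cast_le] at h1
  have hmn : m = n := le_antisymm hle h1
  have hsq : GenAt q s := fun y => (hs y).imp fun c h => ⟨fun hc => h.1 (hqP hc), h.2⟩
  have hspanq := genAt_fibre q hsq
  have hfq : n ≤ Module.finrank q.ResidueField (q.ResidueField ⊗[A] Om) := by
    obtain ⟨t, ht⟩ := exists_genAt q (M := Om)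
    have h := dim_quot_le_of_genAt k A q q le_rfl t ht
    rwa [hn, Nat.cast_le] at h
  have hliq : LinearIndependent q.ResidueField fun i => (1 : q.ResidueField) ⊗ₜ[A] s i := by
    refine linearIndependent_of_top_le_span_of_card_eq_finrank hspanq.ge ?_
    rw [Fintype.card_fin]
    exact le_antisymm (le_of_eq_of_le hmn hfq) (finrank_fibre_le q hsq)
  let Ap := Localization.AtPrime P
  let mk := LocalizedModule.mkLinearMap P.primeCompl Om
  have hli : LinearIndependent Ap fun i => mk (s i) := by
    rw [Fintype.linearIndependent_iff]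
    intro c hc i
    obtain ⟨t, ht⟩ := IsLocalization.exist_integer_multiples_of_finite P.primeCompl c
    choose a ha using ht
    have ha' : ∀ j, algebraMap A Ap (a j) = (t : A) • c j := ha
    have hsum : mk (∑ j, a j • s j) = 0 := by
      rw [map_sum]
      have e : ∀ j ∈ Finset.univ, mk (a j • s j) = (t : A) • (c j • mk (s j)) := fun j _ => by
        rw [map_smul, ← algebraMap_smul Ap (a j) (mk (s j)), ha', smul_assoc]
      rw [Finset.sum_congr rfl e, ← Finset.smul_sum, hc, smul_zero]
    obtain ⟨u, hu⟩ := IsLocalizedModule.exists_of_eq (S := P.primeCompl) (hsum.trans (map_zero mk).symm)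
    rw [Submonoid.smul_def, Submonoid.smul_def, smul_zero, Finset.smul_sum] at hu
    have hu' := congrArg (fun y => (1 : q.ResidueField) ⊗ₜ[A] y) hu
    simp only [TensorProduct.tmul_sum, TensorProduct.tmul_zero, smul_smul, TensorProduct.tmul_smul] at hu'
    have h0 := Fintype.linearIndependent_iff.1 hliq (fun j => algebraMap A q.ResidueField ((u : A) * a j))
      (by rw [← hu']; exact Finset.sum_congr rfl fun j _ => algebraMap_smul q.ResidueField _ _) i
    rw [Ideal.algebraMap_residueField_eq_zero] at h0
    have haq : a i ∈ q := (Ideal.IsPrime.mem_or_mem ‹q.IsPrime› h0).resolve_left fun h => u.2 (hqP h)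
    have hz := ha' i
    rw [algebraMap_atPrime_eq_zero P hq hqP haq, Algebra.smul_def] at hz
    exact ((IsLocalization.map_units Ap t).mul_right_eq_zero).1 hz.symm
  let b := Module.Basis.mk hli ((genAt_iff_localized P s).1 hs).ge
  exact ⟨Module.Free.of_basis b, by rw [Module.finrank_eq_card_basis b, Fintype.card_fin]; exact hmn⟩

end Groth.Agent.CplKaehler4
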