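import Groth.Agent.CplKaehler4.Domain
import Groth.Agent.RegLoc6.Normal

/-!
Upper bound on the fibre of the completed differentials at a separable point, in particular in characteristic zero.
-/

set_option linter.style.haveILetI false

namespace Groth.Agent.CplKaehler4

open IsLocalRing TensorProduct

universe u

variable (k A : Type u) [Field k] [CommRing A] [IsLocalRing A] [IsNoetherianRing A] [Algebra k A]
  [IsAdicComplete (maximalIdeal A) A] [Module.Finite k (ResidueField A)]

local notation "Om" => AdicCompletion (maximalIdeal A) (Ω[A⁄k])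
local notation "dd" => fun a : A => AdicCompletion.of (maximalIdeal A) (Ω[A⁄k]) (KaehlerDifferential.D k A a)

/-- Generators of the prime and parameters modulo it span the fibre of the completed differentials,
when the point is separable over the parameters. -/
theorem exists_span_fibre_of_separable (P : Ideal A) [P.IsPrime] {s : ℕ} [Algebra (MvPowerSeries (Fin s) k) (A ⧸ P)]
    [IsScalarTower k (MvPowerSeries (Fin s) k) (A ⧸ P)] [Module.Finite (MvPowerSeries (Fin s) k) (A ⧸ P)]
    (hX : ∀ i, ∃ y ∈ maximalIdeal A, Ideal.Quotient.mk P y = algebraMap (MvPowerSeries (Fin s) k) (A ⧸ P) (MvPowerSeries.X i))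
    (hder : ∀ b : A ⧸ P, Polynomial.aeval b (minpoly (MvPowerSeries (Fin s) k) b).derivative ≠ 0)
    {e : ℕ} (x : Fin e → A) (hx : ∀ z ∈ P, ∃ c ∉ P, c * z ∈ Ideal.span (Set.range x))
    (hxP : ∀ i, x i ∈ P) :
    ∃ Y : Fin s → A, Submodule.span P.ResidueField (Set.range (Sum.elim
      (fun i => (1 : P.ResidueField) ⊗ₜ[A] dd (x i)) fun i => (1 : P.ResidueField) ⊗ₜ[A] dd (Y i))) = ⊤ := by
  classical
  haveI := finite_completion k A
  let B := A ⧸ P
  haveI : IsLocalRing B := .of_surjective' (Ideal.Quotient.mk P) Ideal.Quotient.mk_surjective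
  haveI := isAdicComplete_quot P
  haveI : IsLocalHom (Ideal.Quotient.mk P) := .of_surjective _ Ideal.Quotient.mk_surjective
  choose Y hYm hY using hX
  obtain ⟨φ, hφ⟩ := PSLib.exists_algHom (R := k) (maximalIdeal A) Y hYm
  let R := MvPowerSeries (Fin s) k
  have hψeq : (Ideal.Quotient.mkₐ k P).comp φ = IsScalarTower.toAlgHom k R B :=
    PSLib.algHom_ext (I := maximalIdeal B) _ _
      (fun i => by show Ideal.Quotient.mk P (φ _) ∈ _; rw [hφ]; exact (Ideal.mem_comap (f := Ideal.Quotient.mk P)).1 ((maximalIdeal_comap (Ideal.Quotient.mk P)).symm ▸ hYm i))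
      (fun i => by show Ideal.Quotient.mk P (φ _) = _; rw [hφ, hY]; rfl)
  -- differentials of the image of power series
  letI : Algebra R A := φ.toRingHom.toAlgebra
  haveI : IsScalarTower k R A := IsScalarTower.of_algebraMap_eq fun c => (φ.commutes c).symm
  let π : A →ₐ[R] B := { Ideal.Quotient.mk P with commutes' := fun c => AlgHom.congr_fun hψeq c }
  haveI : IsHausdorff (PSLib.vars s k) Om := by
    haveI : IsHausdorff (maximalIdeal A) Om :=
      IsHausdorff.of_le_jacobson _ _ (IsAdicComplete.le_jacobson_bot _)
    refine ⟨fun z hz => IsHausdorff.haus (I := maximalIdeal A) inferInstance z fun j => ?_⟩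
    have h := SModEq.zero.1 (hz j)
    rw [SModEq.zero]
    refine Submodule.smul_induction_on h (fun c hc w _ => ?_) fun a b ha hb => add_mem ha hb
    rw [← algebraMap_smul A c w]
    refine Submodule.smul_mem_smul ?_ Submodule.mem_top
    have hmap : (PSLib.vars s k).map (algebraMap R A) ≤ maximalIdeal A := by
      rw [PSLib.vars, Ideal.map_span, Ideal.span_le]
      rintro _ ⟨_, ⟨i, rfl⟩, rfl⟩
      show φ _ ∈ _
      rw [hφ]
      exact hYm i
    exact Ideal.pow_right_mono hmap j (Ideal.map_pow (algebraMap R A) _ j ▸ Ideal.mem_map_of_mem _ hc)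
  let F := P.ResidueField ⊗[A] Om
  let v : Fin e ⊕ Fin s → F := Sum.elim (fun i => 1 ⊗ₜ dd (x i)) fun i => 1 ⊗ₜ dd (Y i)
  let S := Submodule.span P.ResidueField (Set.range v)
  let d : A → F := fun a => (1 : P.ResidueField) ⊗ₜ[A] dd a
  have hd_mul : ∀ a b, d (a * b) =
      algebraMap A P.ResidueField a • d b + algebraMap A P.ResidueField b • d a := fun a b => by
    simp [d, Derivation.leibniz, map_add, TensorProduct.tmul_add, algebraMap_smul, TensorProduct.tmul_smul]
  have hzero : ∀ z ∈ P, algebraMap A P.ResidueField z = 0 := fun z hz => Ideal.algebraMap_residueField_eq_zero.2 hz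
  have hPS : ∀ z ∈ P, d z ∈ S := by
    intro z hz
    obtain ⟨c, hc, hcz⟩ := hx z hz
    obtain ⟨w, hw⟩ := Ideal.mem_span_range_iff_exists_fun.1 hcz
    have h1 : d (c * z) ∈ S := by
      rw [← hw]
      have hd0 : ∀ i, d (w i * x i) ∈ S := fun i => by
        rw [hd_mul, hzero _ (hxP i), zero_smul, add_zero]
        exact S.smul_mem _ (Submodule.subset_span ⟨Sum.inl i, rfl⟩)
      have : d (∑ i, w i * x i) = ∑ i, d (w i * x i) := by
        simp [d, map_sum, TensorProduct.tmul_sum]
      rw [this]
      exact sum_mem fun i _ => hd0 i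
    rw [hd_mul, hzero _ hz, zero_smul, add_zero] at h1
    refine (Submodule.smul_mem_iff S ?_).1 h1
    rwa [Ne, Ideal.algebraMap_residueField_eq_zero]
  have hR : ∀ f : R, d (algebraMap R A f) ∈ S := by
    intro f
    let D : Derivation k R Om :=
      ((AdicCompletion.of (maximalIdeal A) (Ω[A⁄k])).compDer (KaehlerDifferential.D k A)).compAlgebraMap R
    have h := derivation_eq_sum D f
    show (1 : P.ResidueField) ⊗ₜ[A] D f ∈ S
    rw [h, TensorProduct.tmul_sum]
    refine sum_mem fun i _ => ?_
    rw [← algebraMap_smul A (MvPowerSeries.pderiv k i f), TensorProduct.tmul_smul, ← algebraMap_smul P.ResidueField]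
    refine S.smul_mem _ (Submodule.subset_span ⟨Sum.inr i, ?_⟩)
    show _ = (1 : P.ResidueField) ⊗ₜ[A] dd (algebraMap R A (MvPowerSeries.X i))
    rw [show algebraMap R A (MvPowerSeries.X i) = Y i from hφ i]
    rfl
  have hall : ∀ a : A, d a ∈ S := by
    intro a
    let F₀ := minpoly R (π a)
    have hint : IsIntegral R (π a) := Algebra.IsIntegral.isIntegral _
    have hmemP : Polynomial.aeval a F₀ ∈ P := by
      rw [← Ideal.Quotient.eq_zero_iff_mem]
      exact (Polynomial.aeval_algHom_apply π a F₀).symm.trans (minpoly.aeval R _)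
    have hnotP : Polynomial.aeval a F₀.derivative ∉ P := by
      intro h
      rw [← Ideal.Quotient.eq_zero_iff_mem] at h
      exact hder (π a) ((Polynomial.aeval_algHom_apply π a _).trans h)
    -- chain rule
    have hchain : ∀ G : Polynomial R,
        d (Polynomial.aeval a G) - algebraMap A P.ResidueField (Polynomial.aeval a G.derivative) • d a ∈ S := by
      intro G
      induction G using Polynomial.induction_on with
      | C c => simpa using hR c
      | add f g hf hg =>
        have e : d (Polynomial.aeval a (f + g)) = d (Polynomial.aeval a f) + d (Polynomial.aeval a g) := by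
          simp [d, map_add, TensorProduct.tmul_add]
        rw [e, Polynomial.derivative_add, map_add, map_add, add_smul, add_sub_add_comm]
        exact add_mem hf hg
      | monomial m c hm =>
        rw [pow_succ, ← mul_assoc]
        generalize Polynomial.C c * Polynomial.X ^ m = G at hm ⊢
        rw [Polynomial.derivative_mul, Polynomial.derivative_X, mul_one, map_mul, map_add, map_mul,
          Polynomial.aeval_X, hd_mul, map_add, map_mul, add_smul,
          mul_comm (algebraMap A P.ResidueField _) (algebraMap A P.ResidueField a), mul_smul]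
        convert S.smul_mem (algebraMap A P.ResidueField a) hm using 1
        rw [smul_sub]
        abel
    have h1 := hchain F₀
    have h2 := (Submodule.sub_mem_iff_right S (hPS _ hmemP)).1 h1
    refine (Submodule.smul_mem_iff S ?_).1 h2
    rwa [Ne, Ideal.algebraMap_residueField_eq_zero]
  have htop : S = ⊤ := by
    refine eq_top_iff.2 fun z hz => ?_
    clear hz
    induction z using TensorProduct.induction_on with
    | zero => exact zero_mem _
    | add a b ha hb => exact add_mem ha hb
    | tmul c w =>
      rw [← mul_one c, ← smul_eq_mul, ← TensorProduct.smul_tmul']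
      refine S.smul_mem _ ?_
      have hw : w ∈ Submodule.span A (Set.range dd) := (span_d k A).symm ▸ Submodule.mem_top
      have h1 := Submodule.mem_map_of_mem (f := TensorProduct.mk A P.ResidueField Om 1) hw
      rw [Submodule.map_span] at h1
      refine (Submodule.span_le (p := S.restrictScalars A)).2 ?_ h1
      rintro _ ⟨_, ⟨a, rfl⟩, rfl⟩
      exact hall a
  exact ⟨Y, htop⟩

/-- Generators of the prime and parameters modulo it span the fibre of the completed differentials. -/
theorem exists_span_fibre_of_charZero [CharZero k] (P : Ideal A) [P.IsPrime] {s : ℕ} (hs : ringKrullDim (A ⧸ P) = s)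
    {e : ℕ} (x : Fin e → A) (hx : ∀ z ∈ P, ∃ c ∉ P, c * z ∈ Ideal.span (Set.range x))
    (hxP : ∀ i, x i ∈ P) :
    ∃ Y : Fin s → A, Submodule.span P.ResidueField (Set.range (Sum.elim
      (fun i => (1 : P.ResidueField) ⊗ₜ[A] dd (x i)) fun i => (1 : P.ResidueField) ⊗ₜ[A] dd (Y i))) = ⊤ := by
  classical
  haveI := finite_completion k A
  let B := A ⧸ P
  haveI : IsLocalRing B := .of_surjective' (Ideal.Quotient.mk P) Ideal.Quotient.mk_surjective
  haveI := isAdicComplete_quot P
  haveI : IsLocalHom (Ideal.Quotient.mk P) := .of_surjective _ Ideal.Quotient.mk_surjective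
  haveI : Module.Finite k (ResidueField B) := by
    let g : ResidueField A →ₐ[k] ResidueField B :=
      { ResidueField.map (Ideal.Quotient.mk P) with commutes' := fun c => rfl }
    refine Module.Finite.of_surjective g.toLinearMap fun z => ?_
    obtain ⟨b, rfl⟩ := residue_surjective z
    obtain ⟨a, rfl⟩ := Ideal.Quotient.mk_surjective b
    exact ⟨residue A a, rfl⟩
  obtain ⟨r, y, hy, hr, hrad⟩ := CohenLib.exists_fin_sop B
  obtain rfl : s = r := by exact_mod_cast hs.symm.trans hr
  choose Y hY using fun i => Ideal.Quotient.mk_surjective (y i)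
  obtain ⟨ψ, hψ, hfin, -⟩ := exists_algHom_finite k y hy hrad
  let R := MvPowerSeries (Fin s) k
  letI : Algebra R B := ψ.toRingHom.toAlgebra
  haveI : IsScalarTower k R B := IsScalarTower.of_algebraMap_eq fun c => (ψ.commutes c).symm
  haveI : Module.Finite R B := hfin
  haveI : IsDomain R := NoZeroDivisors.to_isDomain _
  haveI : CharZero R := charZero_of_injective_ringHom (algebraMap k R).injective
  haveI := PSLib.isRegularLocalRing (K := k) (n := s)
  haveI : IsIntegrallyClosed R := RegLoc6.isIntegrallyClosed_of_isRegularLocalRing R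
  have hinj : Function.Injective (algebraMap R B) :=
    CohenLib.injective_of_finite ψ.toRingHom hfin hr (PSLib.ringKrullDim_eq k s).le
  haveI : FaithfulSMul R B := (faithfulSMul_iff_algebraMap_injective _ _).2 hinj
  haveI : Algebra.IsIntegral R B := Algebra.IsIntegral.of_finite _ _
  refine exists_span_fibre_of_separable k A P (fun i => ⟨Y i, ?_, (hY i).trans (hψ i).symm⟩) (fun b h => ?_) x hx hxP
  · rw [mem_maximalIdeal, mem_nonunits_iff]
    intro hu
    exact (mem_maximalIdeal _).1 (hy i) (hY i ▸ hu.map (Ideal.Quotient.mk P))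
  · have hint : IsIntegral R b := Algebra.IsIntegral.isIntegral _
    have hdvd := (minpoly.isIntegrallyClosed_dvd_iff hint _).1 h
    have hdeg : 0 < (minpoly R b).natDegree := minpoly.natDegree_pos hint
    have hne : (minpoly R b).derivative ≠ 0 := fun h0 => by
      have := Polynomial.natDegree_eq_zero_of_derivative_eq_zero h0
      omega
    exact absurd (Polynomial.natDegree_le_of_dvd hdvd hne)
      (not_le.2 (Polynomial.natDegree_derivative_lt hdeg.ne'))

theorem finrank_fibre_le_of_charZero [CharZero k] (P : Ideal A) [P.IsPrime] {s : ℕ} (hs : ringKrullDim (A ⧸ P) = s)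
    {e : ℕ} (x : Fin e → A) (hx : ∀ z ∈ P, ∃ c ∉ P, c * z ∈ Ideal.span (Set.range x))
    (hxP : ∀ i, x i ∈ P) :
    Module.finrank P.ResidueField (P.ResidueField ⊗[A] Om) ≤ e + s := by
  obtain ⟨Y, hY⟩ := exists_span_fibre_of_charZero k A P hs x hx hxP
  have h := finrank_range_le_card (R := P.ResidueField) (Sum.elim
    (fun i => (1 : P.ResidueField) ⊗ₜ[A] dd (x i)) fun i => (1 : P.ResidueField) ⊗ₜ[A] dd (Y i))
  rw [Set.finrank, hY, finrank_top] at h
  simpa using h

end Groth.Agent.CplKaehler4
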