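import Groth.Agent.CplKaehler4.Base
import Groth.Agent.CplKaehler4.Rank
import Groth.Agent.CplKaehler4.Finite

/-!
Lower bound for the number of generators of the completed differentials at a prime.
-/

set_option linter.style.haveILetI false

namespace Groth.Agent.CplKaehler4

open IsLocalRing

universe u

theorem isAdicComplete_quot {R : Type u} [CommRing R] [IsLocalRing R] [IsNoetherianRing R]
    [IsAdicComplete (maximalIdeal R) R] (P : Ideal R) [IsLocalRing (R ⧸ P)] :
    IsAdicComplete (maximalIdeal (R ⧸ P)) (R ⧸ P) := by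
  have h := AdicLib.isAdicComplete_of_finite (maximalIdeal R) (R ⧸ P)
  rw [← IsLocalRing.map_maximalIdeal_of_surjective (Ideal.Quotient.mk P) Ideal.Quotient.mk_surjective]
  exact (IsAdicComplete.map_algebraMap_iff (S := R ⧸ P) (maximalIdeal R) (R ⧸ P)).mpr h

variable (k A : Type u) [Field k] [CommRing A] [IsLocalRing A] [IsNoetherianRing A] [Algebra k A]
  [IsAdicComplete (maximalIdeal A) A] [Module.Finite k (ResidueField A)]

theorem dim_quot_le_of_genAt (p q : Ideal A) [p.IsPrime] [q.IsPrime] (hqp : q ≤ p) {n : ℕ}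
    (s : Fin n → AdicCompletion (maximalIdeal A) (Ω[A⁄k])) (hs : GenAt p s) :
    ringKrullDim (A ⧸ q) ≤ n := by
  classical
  let B := A ⧸ q
  haveI : IsLocalRing B := .of_surjective' (Ideal.Quotient.mk q) Ideal.Quotient.mk_surjective
  haveI := isAdicComplete_quot q
  haveI : IsLocalHom (Ideal.Quotient.mk q) := .of_surjective _ Ideal.Quotient.mk_surjective
  haveI : Module.Finite k (ResidueField B) := by
    let g : ResidueField A →ₐ[k] ResidueField B :=
      { ResidueField.map (Ideal.Quotient.mk q) with commutes' := fun c => rfl }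
    refine Module.Finite.of_surjective g.toLinearMap fun z => ?_
    obtain ⟨x, rfl⟩ := residue_surjective z
    obtain ⟨a, rfl⟩ := Ideal.Quotient.mk_surjective x
    exact ⟨residue A a, rfl⟩
  obtain ⟨r, x, hx, hr, hrad⟩ := CohenLib.exists_fin_sop B
  obtain ⟨ψ, hψ, hfin, hloc⟩ := exists_algHom_finite k x hx hrad
  letI : Algebra (MvPowerSeries (Fin r) k) B := ψ.toRingHom.toAlgebra
  haveI : IsScalarTower k (MvPowerSeries (Fin r) k) B := IsScalarTower.of_algebraMap_eq fun c => (ψ.commutes c).symm
  haveI : Module.Finite (MvPowerSeries (Fin r) k) B := hfin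
  haveI : IsDomain (MvPowerSeries (Fin r) k) := NoZeroDivisors.to_isDomain _
  have hinj : Function.Injective ψ.toRingHom :=
    CohenLib.injective_of_finite ψ.toRingHom hfin hr (PSLib.ringKrullDim_eq k r).le
  obtain ⟨V, hV1, hV2, hV3, hV4, hV5, hV6, D, N, hfinV, hrV, hNfg, hDN, hspan⟩ :=
    exists_rank_space (k := k) r B hinj
  letI : Module A N := Module.compHom N (Ideal.Quotient.mk q)
  letI : Module A V := Module.compHom V (Ideal.Quotient.mk q)
  haveI : IsScalarTower A B N := ⟨fun a b v => by
    show (a • b) • v = (Ideal.Quotient.mk q a) • b • v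
    rw [Algebra.smul_def, mul_smul]; rfl⟩
  haveI : IsScalarTower k A N := ⟨fun c a v => by
    show (Ideal.Quotient.mk q (c • a)) • v = c • (Ideal.Quotient.mk q a) • v
    rw [show Ideal.Quotient.mk q (c • a) = c • Ideal.Quotient.mk q a from rfl, smul_assoc]⟩
  haveI : Module.Finite B N := Module.Finite.iff_fg.2 hNfg
  haveI : Module.Finite A N := Module.Finite.trans B N
  let D' : Derivation k A N := Derivation.mk'
    { toFun := fun a => ⟨D (Ideal.Quotient.mk q a), hDN _⟩
      map_add' := fun a b => Subtype.ext (by simp)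
      map_smul' := fun c a => Subtype.ext (by
        show D (Ideal.Quotient.mk q (c • a)) = c • D (Ideal.Quotient.mk q a)
        rw [show Ideal.Quotient.mk q (c • a) = c • Ideal.Quotient.mk q a from rfl]
        exact D.map_smul c _) }
    fun a b => Subtype.ext (by
      show D (Ideal.Quotient.mk q (a * b)) = _
      rw [map_mul, Derivation.leibniz]
      rfl)
  obtain ⟨φ, hφ⟩ := exists_lift k A D'
  let Φ : AdicCompletion (maximalIdeal A) (Ω[A⁄k]) →+ V :=
    (N.subtype.toAddMonoidHom).comp φ.toAddMonoidHom
  have hΦs : ∀ (a : A) y, Φ (a • y) = algebraMap B (FractionRing B) (Ideal.Quotient.mk q a) • Φ y := by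
    intro a y
    rw [algebraMap_smul]
    show ((φ (a • y) : N) : V) = _
    rw [map_smul]
    rfl
  let S := Submodule.span (FractionRing B) (Set.range fun i => Φ (s i))
  have hS : ∀ y, Φ y ∈ S := by
    intro y
    obtain ⟨c, hc, hy⟩ := hs y
    obtain ⟨a, ha⟩ := (Submodule.mem_span_range_iff_exists_fun A).1 hy
    have h1 : algebraMap B (FractionRing B) (Ideal.Quotient.mk q c) • Φ y ∈ S := by
      rw [← hΦs, ← ha, map_sum]
      exact sum_mem fun i _ => by rw [hΦs]; exact S.smul_mem _ (Submodule.subset_span ⟨i, rfl⟩)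
    refine (Submodule.smul_mem_iff S ?_).1 h1
    rw [Ne, IsFractionRing.to_map_eq_zero_iff, Ideal.Quotient.eq_zero_iff_mem]
    exact fun h => hc (hqp h)
  have htop : S = ⊤ := by
    rw [eq_top_iff, ← hspan, Submodule.span_le]
    rintro _ ⟨b, rfl⟩
    obtain ⟨a, rfl⟩ := Ideal.Quotient.mk_surjective b
    have := hS (AdicCompletion.of _ _ (KaehlerDifferential.D k A a))
    rwa [show Φ (AdicCompletion.of _ _ (KaehlerDifferential.D k A a)) = D (Ideal.Quotient.mk q a) from
      congrArg Subtype.val (hφ a)] at this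
  have hle : Module.finrank (FractionRing B) V ≤ n := by
    have h1 := finrank_range_le_card (R := FractionRing B) fun i => Φ (s i)
    rw [Set.finrank, show Submodule.span (FractionRing B) (Set.range fun i => Φ (s i)) = ⊤ from htop,
      finrank_top] at h1
    simpa using h1
  rw [hr]
  exact Nat.cast_le.2 (hrV.trans hle)

end Groth.Agent.CplKaehler4
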