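import Groth.Agent.CartierEq4.Imperf

/-!
Imperfection modules in a tower with separable-like bottom step, and the resulting rank bound.
-/

set_option linter.style.haveILetI false

universe u

open TensorProduct KaehlerDifferential

namespace Groth.Agent.CplKaehler4

variable (k L E : Type u) [Field k] [Field L] [Field E] [Algebra k L] [Algebra L E] [Algebra k E]
  [IsScalarTower k L E]

theorem finrank_imperfection_add [Algebra.EssFiniteType L E]
    (hinj : Function.Injective (mapBaseChange ℤ k L)) :
    Module.Finite E (LinearMap.ker (mapBaseChange ℤ k E)) ∧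
      Module.Finite E (LinearMap.ker (mapBaseChange k L E)) ∧
      Module.finrank E (LinearMap.ker (mapBaseChange k L E)) +
          Module.finrank E (LinearMap.ker (mapBaseChange ℤ k E)) =
        Module.finrank E (Algebra.H1Cotangent L E) := by
  haveI hG : Module.Finite E (LinearMap.ker (mapBaseChange ℤ L E)) :=
    (CartierEq4.finite_imperfection ℤ L E).1
  have hGd : Module.finrank E (LinearMap.ker (mapBaseChange ℤ L E)) =
      Module.finrank E (Algebra.H1Cotangent L E) := CartierEq4.finrank_imperfection_int L E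
  let c := TensorProduct.AlgebraTensorModule.cancelBaseChange k L E E (Ω[k⁄ℤ])
  let j : E ⊗[k] Ω[k⁄ℤ] →ₗ[E] E ⊗[L] Ω[L⁄ℤ] := (mapBaseChange ℤ k L).baseChange E ∘ₗ c.symm.toLinearMap
  have hj : Function.Injective j := by
    have h : Function.Injective ((mapBaseChange ℤ k L).baseChange E) :=
      Module.Flat.lTensor_preserves_injective_linearMap _ hinj
    exact h.comp c.symm.injective
  let π : E ⊗[L] Ω[L⁄ℤ] →ₗ[E] E ⊗[L] Ω[L⁄k] := (KaehlerDifferential.map ℤ k L L).baseChange E
  have hπs : Function.Surjective π :=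
    LinearMap.lTensor_surjective E (KaehlerDifferential.map_surjective ℤ k L)
  have hπ : ∀ z, π z = 0 ↔ ∃ w, j w = z := by
    intro z
    have hex := lTensor_exact E (exact_mapBaseChange_map ℤ k L) (KaehlerDifferential.map_surjective ℤ k L)
    refine ((hex z).trans ⟨?_, ?_⟩ : _)
    · rintro ⟨w, rfl⟩
      exact ⟨c w, by show (mapBaseChange ℤ k L).baseChange E (c.symm (c w)) = _; rw [c.symm_apply_apply]; rfl⟩
    · rintro ⟨w, rfl⟩
      exact ⟨c.symm w, rfl⟩
  have h1 : ∀ w, mapBaseChange ℤ L E (j w) = mapBaseChange ℤ k E w := by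
    intro w
    induction w using TensorProduct.induction_on with
    | zero => simp
    | add a b ha hb => rw [map_add, map_add, map_add, ha, hb]
    | tmul e ω =>
      have key : ∀ y : Ω[k⁄ℤ], KaehlerDifferential.map ℤ ℤ L E (KaehlerDifferential.map ℤ ℤ k L y) =
          KaehlerDifferential.map ℤ ℤ k E y := by
        intro y
        have hy : y ∈ Submodule.span k (Set.range (D ℤ k)) := span_range_derivation ℤ k ▸ Submodule.mem_top
        induction hy using Submodule.span_induction with
        | mem y hy =>
          obtain ⟨x, rfl⟩ := hy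
          rw [map_D, map_D, map_D, ← IsScalarTower.algebraMap_apply]
        | zero => simp
        | add a b _ _ ha hb => rw [map_add, map_add, map_add, ha, hb]
        | smul a z _ hz =>
          rw [map_smul, LinearMap.map_smul_of_tower, map_smul, hz]
      have hc : j (e ⊗ₜ[k] ω) = e ⊗ₜ[L] mapBaseChange ℤ k L ((1 : L) ⊗ₜ[k] ω) := by
        simp [j, c]
      rw [hc, mapBaseChange_tmul, mapBaseChange_tmul, mapBaseChange_tmul, one_smul, key]
  have h2 : ∀ z, mapBaseChange k L E (π z) = KaehlerDifferential.map ℤ k E E (mapBaseChange ℤ L E z) := by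
    intro z
    induction z using TensorProduct.induction_on with
    | zero => simp
    | add a b ha hb => rw [map_add, map_add, map_add, map_add, ha, hb]
    | tmul e ω =>
      have hω : ω ∈ Submodule.span L (Set.range (D ℤ L)) := span_range_derivation ℤ L ▸ Submodule.mem_top
      rw [show π (e ⊗ₜ[L] ω) = e ⊗ₜ[L] KaehlerDifferential.map ℤ k L L ω from rfl, mapBaseChange_tmul,
        mapBaseChange_tmul, map_smul]
      congr 1
      induction hω using Submodule.span_induction with
      | mem y hy =>
        obtain ⟨x, rfl⟩ := hy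
        rw [map_D, map_D, map_D, map_D]
        rfl
      | zero => simp
      | add a b _ _ ha hb => rw [map_add, map_add, map_add, map_add, ha, hb]
      | smul a y _ hy =>
        rw [map_smul, map_smul, map_smul, hy, ← algebraMap_smul E a (KaehlerDifferential.map ℤ ℤ L E y), map_smul,
          algebraMap_smul]
  let p : (LinearMap.ker (mapBaseChange ℤ L E)) →ₗ[E] LinearMap.ker (mapBaseChange k L E) := LinearMap.codRestrict _ (π ∘ₗ (LinearMap.ker (mapBaseChange ℤ L E)).subtype) fun z => by
    rw [LinearMap.mem_ker, LinearMap.comp_apply, h2, Submodule.subtype_apply, LinearMap.mem_ker.1 z.2, map_zero]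
  have hp : Function.Surjective p := by
    rintro ⟨z, hz⟩
    obtain ⟨y, rfl⟩ := hπs z
    rw [LinearMap.mem_ker, h2] at hz
    obtain ⟨w, hw⟩ := (exact_mapBaseChange_map ℤ k E _).1 hz
    refine ⟨⟨y - j w, ?_⟩, Subtype.ext ?_⟩
    · rw [LinearMap.mem_ker, map_sub, h1, hw, sub_self]
    · show π (y - j w) = π y
      rw [map_sub, (hπ _).2 ⟨w, rfl⟩, sub_zero]
  let i : LinearMap.ker (mapBaseChange ℤ k E) →ₗ[E] LinearMap.ker p := LinearMap.codRestrict _
    (LinearMap.codRestrict (LinearMap.ker (mapBaseChange ℤ L E)) (j ∘ₗ Submodule.subtype _) fun w => by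
      rw [LinearMap.mem_ker, LinearMap.comp_apply, h1]
      exact LinearMap.mem_ker.1 w.2) fun w => by
    rw [LinearMap.mem_ker]
    exact Subtype.ext ((hπ _).2 ⟨w.1, rfl⟩)
  have hi : Function.Bijective i := by
    refine ⟨fun a b hab => Subtype.ext (hj ?_), fun z => ?_⟩
    · exact congrArg (fun t : LinearMap.ker p => ((t : (LinearMap.ker (mapBaseChange ℤ L E))) : E ⊗[L] Ω[L⁄ℤ])) hab
    · have hz : π z.1.1 = 0 := congrArg Subtype.val (LinearMap.mem_ker.1 z.2)
      obtain ⟨w, hw⟩ := (hπ _).1 hz
      refine ⟨⟨w, ?_⟩, Subtype.ext (Subtype.ext hw)⟩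
      rw [LinearMap.mem_ker, ← h1, hw]
      exact LinearMap.mem_ker.1 z.1.2
  let e := LinearEquiv.ofBijective i hi
  haveI : Module.Finite E (LinearMap.ker (mapBaseChange k L E)) := Module.Finite.of_surjective p hp
  haveI := isNoetherian_of_isNoetherianRing_of_finite E ↥(LinearMap.ker (mapBaseChange ℤ L E))
  haveI : Module.Finite E (LinearMap.ker p) := Module.Finite.of_fg (IsNoetherian.noetherian _)
  refine ⟨Module.Finite.equiv e.symm, inferInstance, ?_⟩
  rw [e.finrank_eq, ← hGd]
  have h := LinearMap.finrank_range_add_finrank_ker (K := E) (V := ↥(LinearMap.ker (mapBaseChange ℤ L E)))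
    (V₂ := ↥(LinearMap.ker (mapBaseChange k L E))) p
  rwa [LinearMap.range_eq_top.2 hp, finrank_top] at h

/-- Lower bound for the differentials of a finite extension. -/
theorem rank_kaehler_ge [Module.Finite L E] (hinj : Function.Injective (mapBaseChange ℤ k L)) {r : ℕ}
    (δ : Ω[L⁄k] →ₗ[L] (Fin r → L)) (hδ : Function.Surjective δ) :
    Module.Finite E (LinearMap.ker (mapBaseChange ℤ k E)) ∧
      (r : Cardinal.{u}) + Module.rank E (LinearMap.ker (mapBaseChange ℤ k E)) ≤ Module.rank E (Ω[E⁄k]) := by
  obtain ⟨hY, hΓ, hsum⟩ := finrank_imperfection_add k L E hinj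
  obtain ⟨hΩ, -, heq⟩ := CartierEq4.finrank_kaehler_eq L E
  refine ⟨hY, ?_⟩
  have htr : Algebra.trdeg L E = 0 := trdeg_eq_zero
  rw [htr, map_zero, zero_add] at heq
  let g := mapBaseChange k L E
  have e1 := g.rank_range_add_rank_ker
  have e2 := (KaehlerDifferential.map k L E E).rank_range_add_rank_ker
  rw [LinearMap.range_eq_top.2 (KaehlerDifferential.map_surjective k L E), rank_top,
    (exact_mapBaseChange_map k L E).linearMap_ker_eq] at e2
  have e3 : (r : Cardinal.{u}) ≤ Module.rank E (E ⊗[L] Ω[L⁄k]) := by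
    rw [Module.rank_baseChange, Cardinal.lift_id]
    have h := LinearMap.rank_le_of_surjective δ hδ
    rwa [rank_fin_fun] at h
  rw [← e1] at e3
  rw [← e2, ← Module.finrank_eq_rank E (Ω[E⁄L]), heq, ← hsum, Nat.cast_add, Module.finrank_eq_rank,
    Module.finrank_eq_rank]
  refine le_trans (add_le_add_left e3 _) (le_of_eq ?_)
  show _ = _ + Module.rank E (LinearMap.range g)
  ring

/-- Equality when the bottom differentials have dimension `r`. -/
theorem finrank_kaehler_eq_of_finrank [Module.Finite L E] (hinj : Function.Injective (mapBaseChange ℤ k L))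
    [Module.Finite L (Ω[L⁄k])] :
    Module.finrank E (Ω[E⁄k]) =
      Module.finrank L (Ω[L⁄k]) + Module.finrank E (LinearMap.ker (mapBaseChange ℤ k E)) := by
  obtain ⟨hY, hΓ, hsum⟩ := finrank_imperfection_add k L E hinj
  obtain ⟨hΩ, -, heq⟩ := CartierEq4.finrank_kaehler_eq L E
  have htr : Algebra.trdeg L E = 0 := trdeg_eq_zero
  rw [htr, map_zero, zero_add] at heq
  haveI : Module.Finite E (Ω[E⁄k]) := by
    refine ⟨Submodule.fg_of_fg_map_of_fg_inf_ker (KaehlerDifferential.map k L E E) (IsNoetherian.noetherian _) ?_⟩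
    rw [top_inf_eq, (exact_mapBaseChange_map k L E).linearMap_ker_eq]
    exact (Submodule.fg_top _).1 (Module.Finite.range (mapBaseChange k L E)).fg_top
  have e1 := (mapBaseChange k L E).finrank_range_add_finrank_ker
  have e2 := (KaehlerDifferential.map k L E E).finrank_range_add_finrank_ker
  rw [LinearMap.range_eq_top.2 (KaehlerDifferential.map_surjective k L E), finrank_top,
    (exact_mapBaseChange_map k L E).linearMap_ker_eq] at e2
  rw [Module.finrank_baseChange] at e1
  omega

end Groth.Agent.CplKaehler4
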