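import Groth.Agent.CplKaehler4.PS
import Mathlib.RingTheory.MvPowerSeries.Expand
import Mathlib.RingTheory.Etale.Kaehler
import Mathlib.RingTheory.MvPolynomial.Basic
import Mathlib.Algebra.CharP.Lemmas

/-!
Differentials of power series over fields, absolute and relative.
-/

set_option linter.style.haveILetI false

universe u

open TensorProduct KaehlerDifferential

namespace Groth.Agent.CplKaehler4

attribute [local instance 10000] Ring.toIntAlgebra

theorem exists_gen_of_finite {R S : Type u} [CommRing R] [CommRing S] (f : R →+* S) (hf : f.Finite) :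
    ∃ (N : ℕ) (c : Fin N → S), ∀ x : S, ∃ b : Fin N → R, x = ∑ j, f (b j) * c j := by
  letI := f.toAlgebra
  haveI : Module.Finite R S := hf
  obtain ⟨N, c, hc⟩ := Submodule.fg_iff_exists_fin_generating_family.1 (Module.Finite.fg_top (R := R) (M := S))
  refine ⟨N, c, fun x => ?_⟩
  obtain ⟨b, hb⟩ := (Submodule.mem_span_range_iff_exists_fun R).1 (hc ▸ (Submodule.mem_top : x ∈ ⊤))
  exact ⟨b, hb.symm.trans (Finset.sum_congr rfl fun j _ => Algebra.smul_def (b j) (c j))⟩

variable (k : Type u) [Field k] (n : ℕ)

local notation "P" => MvPowerSeries (Fin n) k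
local notation "L" => FractionRing (MvPowerSeries (Fin n) k)

theorem isUnit_algebraMap_end (M : Type u) [AddCommGroup M] [Module L M] [Module P M] [IsScalarTower P L M]
    (x : nonZeroDivisors P) : IsUnit (algebraMap P (Module.End P M) x) := by
  obtain ⟨v, hv⟩ := IsLocalization.map_units L x
  rw [Module.End.isUnit_iff]
  constructor
  · intro a b hab
    simp only [Module.algebraMap_end_apply, ← algebraMap_smul L (x : P), ← hv] at hab
    exact v.isUnit.smul_left_cancel.1 hab
  · intro a
    refine ⟨(↑v⁻¹ : L) • a, ?_⟩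
    simp only [Module.algebraMap_end_apply, ← algebraMap_smul L (x : P), ← hv, smul_smul, Units.mul_inv, one_smul]

/-- The continuous partial derivatives on the fraction field. -/
theorem exists_delta : ∃ δ : Ω[L⁄k] →ₗ[L] (Fin n → L), Function.Surjective δ ∧
    ∀ (a : P) (j : Fin n), δ (D k L (algebraMap P L a)) j = algebraMap P L (MvPowerSeries.pderiv k j a) := by
  classical
  let f₀ : Ω[P⁄k] →ₗ[P] (Fin n → L) :=
    LinearMap.pi fun i => Algebra.linearMap P L ∘ₗ (MvPowerSeries.pderiv k i).liftKaehlerDifferential
  let m₀ := KaehlerDifferential.map k k P L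
  let δ : Ω[L⁄k] →ₗ[L] (Fin n → L) := LinearMap.extendScalarsOfIsLocalization (nonZeroDivisors P) L
    (IsLocalizedModule.lift (nonZeroDivisors P) m₀ f₀ (isUnit_algebraMap_end k n _))
  have h : ∀ (a : P) (j : Fin n), δ (D k L (algebraMap P L a)) j = algebraMap P L (MvPowerSeries.pderiv k j a) := by
    intro a j
    have h1 : δ (D k L (algebraMap P L a)) = f₀ (D k _ a) := by
      rw [← KaehlerDifferential.map_D k k]
      exact IsLocalizedModule.lift_apply _ m₀ f₀ (isUnit_algebraMap_end k n _) _
    rw [h1]
    show algebraMap P L ((MvPowerSeries.pderiv k j).liftKaehlerDifferential _) = _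
    rw [Derivation.liftKaehlerDifferential_comp_D]
  refine ⟨δ, fun c => ⟨∑ i, c i • D k L (algebraMap P L (MvPowerSeries.X i)), ?_⟩, h⟩
  funext j
  rw [map_sum, Finset.sum_apply]
  simp only [map_smul, Pi.smul_apply, h, MvPowerSeries.pderiv_X, smul_eq_mul]
  rw [Finset.sum_eq_single j (fun i _ hij => by simp [hij, Ne.symm hij]) (fun hj => absurd (Finset.mem_univ j) hj)]
  simp

/-- Derivations of the field extend coefficientwise, so no imperfection occurs in `k((T))`. -/
theorem injective_mapBaseChange_int : Function.Injective (mapBaseChange ℤ k L) := by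
  classical
  let b := Module.Free.chooseBasis k (Ω[k⁄ℤ])
  rw [injective_iff_map_eq_zero]
  intro z hz
  let B := b.baseChange L
  refine B.repr.injective (Finsupp.ext fun i => ?_)
  rw [map_zero, Finsupp.zero_apply]
  let Dk : Derivation ℤ k k := (b.coord i).compDer (D ℤ k)
  let φ : P →+ P :=
    { toFun := fun g m => Dk (MvPowerSeries.coeff m g)
      map_zero' := by ext m; simp; rfl
      map_add' := fun f g => by
        funext m
        show Dk (MvPowerSeries.coeff m (f + g)) = Dk (MvPowerSeries.coeff m f) + Dk (MvPowerSeries.coeff m g)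
        rw [map_add, map_add] }
  let DP : Derivation ℤ P P := Derivation.mk' φ.toIntLinearMap fun f g => by
    ext m
    show Dk (MvPowerSeries.coeff m (f * g)) = MvPowerSeries.coeff m (f * φ g + g * φ f)
    rw [map_add, mul_comm g (φ f), MvPowerSeries.coeff_mul, MvPowerSeries.coeff_mul, MvPowerSeries.coeff_mul,
      map_sum, ← Finset.sum_add_distrib]
    refine Finset.sum_congr rfl fun x _ => ?_
    rw [Derivation.leibniz, smul_eq_mul, smul_eq_mul]
    show _ = _ * Dk (MvPowerSeries.coeff x.2 g) + Dk (MvPowerSeries.coeff x.1 f) * _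
    ring
  have hC : ∀ c : k, DP (MvPowerSeries.C c) = MvPowerSeries.C (Dk c) := by
    intro c
    refine MvPowerSeries.ext fun m => ?_
    show Dk (MvPowerSeries.coeff m (MvPowerSeries.C c)) = _
    rw [MvPowerSeries.coeff_C, MvPowerSeries.coeff_C]
    split_ifs <;> simp
  let f₀ : Ω[P⁄ℤ] →ₗ[P] L := Algebra.linearMap P L ∘ₗ DP.liftKaehlerDifferential
  let m₀ := KaehlerDifferential.map ℤ ℤ P L
  let DL : Ω[L⁄ℤ] →ₗ[L] L := LinearMap.extendScalarsOfIsLocalization (nonZeroDivisors P) L
    (IsLocalizedModule.lift (nonZeroDivisors P) m₀ f₀ (isUnit_algebraMap_end k n _))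
  have hDL : ∀ c : k, DL (D ℤ L (algebraMap k L c)) = algebraMap k L (Dk c) := by
    intro c
    rw [IsScalarTower.algebraMap_apply k P L, ← KaehlerDifferential.map_D ℤ ℤ]
    refine (IsLocalizedModule.lift_apply _ m₀ f₀ (isUnit_algebraMap_end k n _) _).trans ?_
    show algebraMap P L (DP.liftKaehlerDifferential _) = _
    rw [Derivation.liftKaehlerDifferential_comp_D, show algebraMap k P c = MvPowerSeries.C c from rfl, hC,
      IsScalarTower.algebraMap_apply k P L]
    rfl
  have key : ∀ w : L ⊗[k] Ω[k⁄ℤ], DL (mapBaseChange ℤ k L w) = B.repr w i := by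
    intro w
    induction w using TensorProduct.induction_on with
    | zero => simp
    | add x y hx hy => rw [map_add, map_add, map_add, hx, hy, Finsupp.add_apply]
    | tmul e ω =>
      rw [mapBaseChange_tmul, map_smul, show B.repr (e ⊗ₜ[k] ω) i = b.repr ω i • e from
        Module.Basis.baseChange_repr_tmul _ _ _ _ _, smul_eq_mul, Algebra.smul_def, mul_comm]
      congr 1
      have hω : ω ∈ Submodule.span k (Set.range (D ℤ k)) := span_range_derivation ℤ k ▸ Submodule.mem_top
      induction hω using Submodule.span_induction with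
      | mem y hy =>
        obtain ⟨x, rfl⟩ := hy
        rw [map_D, hDL]
        rfl
      | zero => simp
      | add x y _ _ hx hy => rw [map_add, map_add, map_add, Finsupp.add_apply, map_add, hx, hy]
      | smul a y _ hy =>
        rw [map_smul, LinearMap.map_smul_of_tower, map_smul, Finsupp.smul_apply, smul_eq_mul, map_mul, hy,
          Algebra.smul_def]
  rw [← key, hz, map_zero]

variable (p : ℕ) [Fact p.Prime] [CharP k p]

/-- Over an `F`-finite field the differentials of power series are spanned by those of the variables. -/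
theorem span_dX_eq_top (hk : (frobenius k p).Finite) :
    Submodule.span P (Set.range fun i : Fin n => D k P (MvPowerSeries.X i)) = ⊤ := by
  classical
  have hp : p.Prime := Fact.out
  obtain ⟨N, c, hc⟩ := exists_gen_of_finite (frobenius k p) hk
  set S := Submodule.span P (Set.range fun i : Fin n => D k P (MvPowerSeries.X i)) with hS
  have hpoly : ∀ q : MvPolynomial (Fin n) k, D k P (q : P) ∈ S := by
    intro q
    induction q using MvPolynomial.induction_on with
    | C a =>
      rw [MvPolynomial.coe_C, show (MvPowerSeries.C a : P) = algebraMap k _ a from rfl, Derivation.map_algebraMap]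
      exact S.zero_mem
    | add f g hf hg => rw [MvPolynomial.coe_add, map_add]; exact add_mem hf hg
    | mul_X f i hf =>
      rw [MvPolynomial.coe_mul, MvPolynomial.coe_X, Derivation.leibniz]
      exact add_mem (S.smul_mem _ (Submodule.subset_span ⟨i, rfl⟩)) (S.smul_mem _ hf)
  rw [eq_top_iff, ← span_range_derivation, Submodule.span_le]
  rintro _ ⟨f, rfl⟩
  choose b hb using fun m => hc (MvPowerSeries.coeff m f)
  let ev : (Fin n → Fin p) → (Fin n →₀ ℕ) := fun α => Finsupp.equivFunOnFinite.symm fun i => (α i : ℕ)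
  let g : (Fin n → Fin p) → Fin N → P := fun α j m => b (p • m + ev α) j
  have hgp : ∀ α j m, MvPowerSeries.coeff (p • m) (g α j ^ p) = b (p • m + ev α) j ^ p := by
    intro α j m
    rw [← MvPowerSeries.map_frobenius_expand p hp.ne_zero, MvPowerSeries.coeff_map, MvPowerSeries.coeff_expand_smul]
    rfl
  have hgp0 : ∀ α j (m : Fin n →₀ ℕ), (∃ i, ¬ p ∣ m i) → MvPowerSeries.coeff m (g α j ^ p) = 0 := by
    rintro α j m ⟨i, hi⟩
    rw [← MvPowerSeries.map_frobenius_expand p hp.ne_zero, MvPowerSeries.coeff_map,
      MvPowerSeries.coeff_expand_of_not_dvd p hp.ne_zero _ hi, map_zero]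
  have hf : f = ∑ α, ∑ j, MvPowerSeries.monomial (ev α) (c j) * g α j ^ p := by
    refine MvPowerSeries.ext fun m => ?_
    simp only [map_sum, MvPowerSeries.coeff_monomial_mul]
    let α₀ : Fin n → Fin p := fun i => ⟨m i % p, Nat.mod_lt _ hp.pos⟩
    let m₀ : Fin n →₀ ℕ := Finsupp.equivFunOnFinite.symm fun i => m i / p
    have hm : m = p • m₀ + ev α₀ := by
      ext i
      simp [m₀, ev, α₀, Nat.div_add_mod]
    rw [Finset.sum_eq_single α₀ (fun α _ hα => ?_) fun h => absurd (Finset.mem_univ _) h]
    · rw [hb m]
      refine Finset.sum_congr rfl fun j _ => ?_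
      have hle : ev α₀ ≤ m := hm ▸ le_add_self
      rw [if_pos hle, hm, add_tsub_cancel_right, hgp, mul_comm, frobenius_def]
    · refine Finset.sum_eq_zero fun j _ => ?_
      split_ifs with hle
      · rw [hgp0, mul_zero]
        by_contra hcon
        push Not at hcon
        refine hα (funext fun i => Fin.ext ?_)
        obtain ⟨t, ht⟩ := hcon i
        have h1 : (α i : ℕ) ≤ m i := hle i
        have h2 : (m - ev α) i = m i - (α i : ℕ) := by simp [ev]
        rw [h2] at ht
        show (α i : ℕ) = m i % p
        rw [show m i = (α i : ℕ) + p * t by omega, Nat.add_mul_mod_self_left, Nat.mod_eq_of_lt (α i).2]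
      · rfl
  rw [SetLike.mem_coe, hf, map_sum]
  refine sum_mem fun α _ => ?_
  rw [map_sum]
  refine sum_mem fun j _ => ?_
  rw [Derivation.leibniz, Derivation.leibniz_pow, ← Nat.cast_smul_eq_nsmul k, CharP.cast_eq_zero, zero_smul,
    smul_zero, zero_add, ← MvPolynomial.coe_monomial]
  exact S.smul_mem _ (hpoly _)

end Groth.Agent.CplKaehler4
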