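import Groth.Agent.CplKaehler4.Smooth
import Groth.Agent.CplKaehler4.Domain
import Groth.Agent.S5988
import Groth.Agent.S5989

/-!
Upper bound on the fibre of the completed differentials over an `F`-finite field.
-/

set_option linter.style.haveILetI false

namespace Groth.Agent.CplKaehler4

open IsLocalRing TensorProduct Algebra

universe u

/-- The fibre of the differentials of a formally smooth local algebra. -/
theorem finrank_fibre_add_h1 {k R : Type u} [Field k] [CommRing R] [IsLocalRing R] [IsNoetherianRing R]
    [Algebra k R] [Module.Finite (ResidueField R) (Ω[ResidueField R⁄k])]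
    (hfs : CAlgX.IsAdicFormallySmooth k R (maximalIdeal R)) :
    Module.Finite (ResidueField R) (ResidueField R ⊗[R] Ω[R⁄k]) ∧
      ∃ c : ℕ, (c : WithBot ℕ∞) = ringKrullDim R ∧
        Module.finrank (ResidueField R) (ResidueField R ⊗[R] Ω[R⁄k]) +
          Module.finrank (ResidueField R) (Algebra.H1Cotangent k (ResidueField R)) =
        c + Module.finrank (ResidueField R) (Ω[ResidueField R⁄k]) := by
  obtain ⟨eH⟩ := h1_equiv hfs
  haveI := FlatLoc6.isRegularRing_of_geometricallyRegular (RegFS6.geometricallyRegular_of_fs hfs)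
  haveI : IsRegularLocalRing R := IsRegularLocalRing.of_isRegularRing_of_isLocalRing R
  let P := resExt k R
  have hker : P.ker = maximalIdeal R := IsLocalRing.ker_residue
  haveI : Module.Finite R P.ker := Module.Finite.of_fg (IsNoetherian.noetherian _)
  haveI : Module.Finite P.Ring P.Cotangent := .of_surjective _ Algebra.Extension.Cotangent.mk_surjective
  haveI : Module.Finite (ResidueField R) P.Cotangent := Module.Finite.of_restrictScalars_finite P.Ring _ _
  have hc : (Module.finrank (ResidueField R) P.Cotangent : WithBot ℕ∞) = ringKrullDim R := by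
    have h1 := (IsRegularLocalRing.iff_finrank_cotangentSpace R).1 inferInstance
    let j : CotangentSpace R ≃+ P.Cotangent :=
      ((Ideal.Cotangent.equivOfEq _ _ hker.symm).toAddEquiv).trans (Algebra.Extension.cotangentEquivCotangentKer (P := P)).symm.toAddEquiv
    have hj : ∀ (r : (ResidueField R)) (m : CotangentSpace R), j (r • m) = r • j m := by
      intro r m
      obtain ⟨r, rfl⟩ := residue_surjective r
      rw [show residue R r • m = r • m from algebraMap_smul (ResidueField R) r m]
      show (Algebra.Extension.cotangentEquivCotangentKer (P := P)).symm ((Ideal.Cotangent.equivOfEq _ _ hker.symm) (r • m)) = _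
      rw [map_smul, map_smul]
      exact (algebraMap_smul (ResidueField R) r _).symm
    rw [← h1]
    exact congrArg (fun c : ℕ => (c : WithBot ℕ∞))
      (LinearEquiv.finrank_eq ({ j with map_smul' := hj } : CotangentSpace R ≃ₗ[ResidueField R] P.Cotangent)).symm
  haveI : Module.Finite (ResidueField R) (LinearMap.range P.cotangentComplex) := Module.Finite.range _
  haveI : Module.Finite (ResidueField R) P.CotangentSpace := by
    refine ⟨Submodule.fg_of_fg_map_of_fg_inf_ker P.toKaehler (IsNoetherian.noetherian _) ?_⟩
    rw [top_inf_eq, P.exact_cotangentComplex_toKaehler.linearMap_ker_eq]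
    exact Module.Finite.iff_fg.1 inferInstance
  have h1 := P.cotangentComplex.finrank_range_add_finrank_ker
  have h2 := P.toKaehler.finrank_range_add_finrank_ker
  rw [LinearMap.range_eq_top.2 P.toKaehler_surjective, finrank_top] at h2
  rw [← P.exact_cotangentComplex_toKaehler.linearMap_ker_eq] at h1
  have e2 : Module.finrank (ResidueField R) (LinearMap.ker P.cotangentComplex) =
      Module.finrank (ResidueField R) (Algebra.H1Cotangent k (ResidueField R)) := eH.finrank_eq
  refine ⟨‹Module.Finite (ResidueField R) P.CotangentSpace›, _, hc, ?_⟩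
  show Module.finrank (ResidueField R) P.CotangentSpace + _ = _
  omega

/-- The first cotangent homology of a field extension is the absolute imperfection module. -/
theorem finrank_h1_eq_imperfection (k K : Type u) [Field k] [Field K] [Algebra k K] :
    Module.finrank K (Algebra.H1Cotangent k K) =
      Module.finrank K (LinearMap.ker (KaehlerDifferential.mapBaseChange ℤ k K)) := by
  have hinj : Function.Injective (Algebra.H1Cotangent.δ ℤ k K) := by
    rw [injective_iff_map_eq_zero]
    intro x hx
    obtain ⟨y, rfl⟩ := (Algebra.H1Cotangent.exact_map_δ ℤ k K x).1 hx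
    exact CartierEq4.map_int_eq_zero y
  rw [← (LinearMap.exact_iff.1 (Algebra.H1Cotangent.exact_δ_mapBaseChange ℤ k K)).symm]
  exact (LinearMap.finrank_range_of_inj hinj).symm

theorem finrank_fibre_le_of_fFinite (p : ℕ) [Fact p.Prime] (k A : Type u) [Field k] [CharP k p]
    (hk : (frobenius k p).Finite) [CommRing A] [IsLocalRing A] [IsNoetherianRing A] [Algebra k A]
    [IsAdicComplete (maximalIdeal A) A] [Module.Finite k (ResidueField A)] (P : Ideal A) [P.IsPrime]
    (hP : CAlg.IsGeometricallyRegular k (Localization.AtPrime P)) {s c : ℕ}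
    (hs : ringKrullDim (A ⧸ P) = s) (hc : ringKrullDim (Localization.AtPrime P) = c) :
    Module.finrank P.ResidueField (P.ResidueField ⊗[A] AdicCompletion (maximalIdeal A) (Ω[A⁄k])) ≤ s + c := by
  let B := A ⧸ P
  haveI : IsLocalRing B := .of_surjective' (Ideal.Quotient.mk P) Ideal.Quotient.mk_surjective
  haveI := isAdicComplete_quot P
  haveI : IsLocalHom (Ideal.Quotient.mk P) := .of_surjective _ Ideal.Quotient.mk_surjective
  haveI : Module.Finite k (ResidueField B) := by
    let g : ResidueField A →ₐ[k] ResidueField B :=
      { ResidueField.map (Ideal.Quotient.mk P) with commutes' := fun c => rfl }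
    refine Module.Finite.of_surjective g.toLinearMap fun z => ?_
    obtain ⟨b, rfl⟩ := residue_surjective z
    obtain ⟨a, rfl⟩ := Ideal.Quotient.mk_surjective b
    exact ⟨residue A a, rfl⟩
  let K := P.ResidueField
  haveI : IsScalarTower k B K := IsScalarTower.of_algebraMap_eq fun c => by
    rw [IsScalarTower.algebraMap_apply k A K, IsScalarTower.algebraMap_apply k A B,
      IsScalarTower.algebraMap_apply A B K]
  have hY := (S5988.result p k B K s hs).1
  obtain ⟨hΩ, hΩC⟩ := S5989.result p k B K hk s hs
  haveI : Module.Finite K (Ω[K⁄k]) := by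
    classical
    obtain ⟨t, ht⟩ := hΩC.fg_top
    refine ⟨⟨t.image (KaehlerDifferential.map k k B K), ?_⟩⟩
    rw [Finset.coe_image]
    exact span_eq_top_of_isLocalizedModule K (nonZeroDivisors B) (KaehlerDifferential.map k k B K) ht
  have hH := finrank_h1_eq_imperfection k K
  haveI : Module.Finite (ResidueField (Localization.AtPrime P)) (Ω[ResidueField (Localization.AtPrime P)⁄k]) :=
    ‹Module.Finite K (Ω[K⁄k])›
  obtain ⟨hfin, c', hc', heq⟩ := finrank_fibre_add_h1 (RegFS6.fs_iff_geometricallyRegular.2 hP)
  obtain rfl : c' = c := by exact_mod_cast hc'.trans hc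
  let Ap := Localization.AtPrime P
  haveI : Algebra.FormallyEtale A Ap := .of_isLocalization P.primeCompl
  let e : K ⊗[Ap] Ω[Ap⁄k] ≃ₗ[K] K ⊗[A] Ω[A⁄k] :=
    (TensorProduct.AlgebraTensorModule.congr (LinearEquiv.refl K K)
      (KaehlerDifferential.tensorKaehlerEquivOfFormallyEtale k A Ap).symm) ≪≫ₗ
    TensorProduct.AlgebraTensorModule.cancelBaseChange A Ap K K (Ω[A⁄k])
  haveI : Module.Finite K (K ⊗[Ap] Ω[Ap⁄k]) := hfin
  haveI : Module.Finite K (K ⊗[A] Ω[A⁄k]) := Module.Finite.equiv e
  let f := (AdicCompletion.of (maximalIdeal A) (Ω[A⁄k])).baseChange K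
  have hf : Function.Surjective f := LinearMap.lTensor_surjective K (of_surj k A)
  have h1 := f.finrank_range_le
  rw [LinearMap.range_eq_top.2 hf, finrank_top, ← e.finrank_eq] at h1
  have heq' : Module.finrank K (K ⊗[Ap] Ω[Ap⁄k]) + Module.finrank K (Algebra.H1Cotangent k K) =
      c' + Module.finrank K (Ω[K⁄k]) := heq
  rw [hΩ, hH] at heq'
  show Module.finrank K (K ⊗[A] _) ≤ _
  omega

end Groth.Agent.CplKaehler4
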