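import Groth.Agent.CplKaehler4.CTensorUniv
import Groth.Agent.CplKaehler4.CTensorField
import Groth.Agent.CplKaehler4.PointFree
import Groth.Agent.CplKaehler4.Fibre
import Groth.Agent.CplFib6.Quot
import Groth.Agent.RegLoc6.FlatDescent
import Groth.Agent.S5074

/-!
Descent of regularity from the completed tensor product with a perfect field.
-/

set_option linter.style.haveILetI false

namespace Groth.Agent.CplKaehler4

open IsLocalRing TensorProduct

universe u

attribute [local instance] Algebra.TensorProduct.rightAlgebra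

theorem geometricallyRegular_of_perfect (K A : Type u) [Field K] [PerfectField K] [CommRing A] [Algebra K A]
    [IsRegularRing A] : CAlg.IsGeometricallyRegular K A := by
  intro L _ _ hfin
  haveI : Algebra.IsSeparable K L := inferInstance
  haveI : Algebra.FormallyEtale K L := Algebra.FormallyEtale.of_isSeparable K L
  haveI : Algebra.FinitePresentation K L := Algebra.FinitePresentation.of_finiteType.1 inferInstance
  haveI : Algebra.Etale K L := ⟨inferInstance, inferInstance⟩
  haveI : IsRegularRing (A ⊗[K] L) := GeomReg.isRegularRing_of_smooth A _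
  exact IsRegularRing.of_ringEquiv (R := A ⊗[K] L) (Algebra.TensorProduct.comm K A L).toRingEquiv

/-- Derivations of a scalar extension killing a second ring. -/
theorem exists_tensor_derivation (k A K : Type u) [Field k] [CommRing A] [IsNoetherianRing A] [IsLocalRing A]
    [Algebra k A] [Module.Finite k (ResidueField A)] [Field K] [Algebra k K]
    (M : Ideal (EGA4.CTensor k A K)) [M.IsMaximal]
    {N : Type u} [AddCommGroup N] [Module (Localization.AtPrime M) N] [Module.Finite (Localization.AtPrime M) N]
    [Module A N] [IsScalarTower A (Localization.AtPrime M) N] [Module k N] [IsScalarTower k A N]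
    [Module K N] [IsScalarTower K (Localization.AtPrime M) N]
    (d : Derivation k A N) :
    ∃ D : Derivation K (Localization.AtPrime M) N, ∀ a, D (algebraMap A (Localization.AtPrime M) a) = d a := by
  haveI := isAdicComplete_field K
  let R := EGA4.CTensor k A K
  let S := Localization.AtPrime M
  haveI : IsNoetherianRing R := CplFib6.isNoetherianRing_cTensor
  haveI : IsNoetherianRing S := IsLocalization.isNoetherianRing M.primeCompl S inferInstance
  let J : Ideal R := (maximalIdeal A).map (algebraMap A R)
  haveI : IsAdicComplete J R := isAdicComplete_cTensor k A K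
  haveI : IsArtinianRing (R ⧸ J) := isArtinianRing_quot k A K
  let JS : Ideal S := (maximalIdeal A).map (algebraMap A S)
  have hJS : JS = J.map (algebraMap R S) := by rw [Ideal.map_map, ← IsScalarTower.algebraMap_eq]
  haveI : Module.Finite R S := Module.Finite.of_surjective (Algebra.linearMap R S) (surjective_atPrime J M)
  haveI : IsAdicComplete JS S := by
    rw [hJS]
    have h1 : IsAdicComplete J S := AdicLib.isAdicComplete_of_finite J S
    exact (IsAdicComplete.map_algebraMap_iff (S := S) J S).mpr h1
  letI : Module Sᵐᵒᵖ N := Module.compHom N ((RingHom.id S).fromOpposite mul_comm)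
  haveI : IsCentralScalar S N := ⟨fun _ _ => rfl⟩
  let T := TrivSqZeroExt S N
  have halg : ∀ r : S, algebraMap S (TrivSqZeroExt S N) r = TrivSqZeroExt.inl r := fun r => rfl
  haveI : Module.Finite S T := inferInstanceAs (Module.Finite S (S × N))
  haveI : IsNoetherianRing T := IsNoetherianRing.of_finite S T
  let KT : Ideal T := JS.comap (TrivSqZeroExt.fstHom S S N).toRingHom
  haveI : IsAdicComplete KT T := by
    have h1 : IsAdicComplete JS T := AdicLib.isAdicComplete_of_finite JS T
    have h2 : IsAdicComplete (JS.map (algebraMap S T)) T := (IsAdicComplete.map_algebraMap_iff (S := T) JS T).mpr h1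
    refine (AdicLib.iff_of_pow_le (I := JS.map (algebraMap S T)) (J := KT) one_pos two_pos ?_ ?_).1 h2
    · rw [pow_one, Ideal.map_le_iff_le_comap]
      exact fun x hx => hx
    · rw [pow_two, Ideal.mul_le]
      intro x hx y hy
      have key : ∀ x y : TrivSqZeroExt S N, x * y = algebraMap S _ (x.fst * y.fst) +
          algebraMap S _ x.fst * TrivSqZeroExt.inr y.snd + algebraMap S _ y.fst * TrivSqZeroExt.inr x.snd := by
        intro x y
        rw [halg, halg, halg, TrivSqZeroExt.inl_mul_inr, TrivSqZeroExt.inl_mul_inr]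
        refine TrivSqZeroExt.ext ?_ ?_
        · simp only [TrivSqZeroExt.fst_mul, TrivSqZeroExt.fst_add, TrivSqZeroExt.fst_inl, TrivSqZeroExt.fst_inr, add_zero]
        · simp only [TrivSqZeroExt.snd_mul, TrivSqZeroExt.snd_add, TrivSqZeroExt.snd_inl, TrivSqZeroExt.snd_inr,
            op_smul_eq_smul, zero_add]
      have e := key x y
      rw [e]
      exact add_mem (add_mem (Ideal.mem_map_of_mem _ (JS.mul_mem_right _ hx))
        (Ideal.mul_mem_right _ _ (Ideal.mem_map_of_mem _ hx))) (Ideal.mul_mem_right _ _ (Ideal.mem_map_of_mem _ hy))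
  let fA : A →+* TrivSqZeroExt S N :=
    { toFun := fun a => TrivSqZeroExt.inl (algebraMap A S a) + TrivSqZeroExt.inr (d a)
      map_one' := by rw [map_one, Derivation.map_one_eq_zero, TrivSqZeroExt.inr_zero, add_zero, TrivSqZeroExt.inl_one]
      map_zero' := by simp
      map_add' := fun a b => by rw [map_add, TrivSqZeroExt.inl_add, map_add, TrivSqZeroExt.inr_add]; abel
      map_mul' := fun a b => by
        refine TrivSqZeroExt.ext ?_ ?_
        · simp only [TrivSqZeroExt.fst_mul, TrivSqZeroExt.fst_add, TrivSqZeroExt.fst_inl, TrivSqZeroExt.fst_inr, add_zero, map_mul]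
        · simp only [TrivSqZeroExt.snd_mul, TrivSqZeroExt.snd_add, TrivSqZeroExt.snd_inl, TrivSqZeroExt.snd_inr,
            TrivSqZeroExt.fst_add, TrivSqZeroExt.fst_inl, TrivSqZeroExt.fst_inr, add_zero,
            op_smul_eq_smul, zero_add, Derivation.leibniz, algebraMap_smul] }
  obtain ⟨F₀, hFA, hFK⟩ := exists_tensor_hom (P := k) fA ((algebraMap S T).comp (algebraMap K S)) (RingHom.ext fun c => by
    show TrivSqZeroExt.inl (algebraMap A S (algebraMap k A c)) + TrivSqZeroExt.inr (d (algebraMap k A c)) =
      algebraMap S T (algebraMap K S (algebraMap k K c))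
    rw [d.map_algebraMap, TrivSqZeroExt.inr_zero, add_zero, IsScalarTower.algebraMap_apply A (A ⊗[k] K) S,
      IsScalarTower.algebraMap_apply K (A ⊗[k] K) S, TrivSqZeroExt.algebraMap_eq_inl]
    exact congrArg (fun z => TrivSqZeroExt.inl (algebraMap (A ⊗[k] K) S z))
      (((Algebra.TensorProduct.includeLeft : A →ₐ[k] A ⊗[k] K).commutes c).trans
          ((Algebra.TensorProduct.includeRight : K →ₐ[k] A ⊗[k] K).commutes c).symm))
  let π : T →+* S := (TrivSqZeroExt.fstHom S S N).toRingHom
  have hπ : π.comp F₀ = algebraMap (A ⊗[k] K) S := by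
    refine RingHom.ext fun z => ?_
    induction z using TensorProduct.induction_on with
    | zero => rw [map_zero, map_zero]
    | add x y hx hy => rw [map_add, map_add, hx, hy]
    | tmul x y =>
      have e : x ⊗ₜ[k] y = (x ⊗ₜ[k] (1 : K)) * ((1 : A) ⊗ₜ[k] y) := by
        rw [Algebra.TensorProduct.tmul_mul_tmul, mul_one, one_mul]
      rw [RingHom.comp_apply, e, map_mul, map_mul, map_mul, hFA, hFK]
      congr 1
      show (TrivSqZeroExt.inl (algebraMap A S x) + TrivSqZeroExt.inr (d x)).fst = _
      simp [IsScalarTower.algebraMap_apply A (A ⊗[k] K) S x]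

  have hI : (EGA4.cTensorIdeal k A K).map (algebraMap (A ⊗[k] K) S) = JS := by
    refine (congrArg (Ideal.map (algebraMap (A ⊗[k] K) S)) (cTensorIdeal_field k A K)).trans ?_
    rw [Ideal.map_map, ← IsScalarTower.algebraMap_eq]
  obtain ⟨F, hF⟩ := exists_completion_lift (EGA4.cTensorIdeal k A K) KT F₀ (by
    rw [Ideal.map_le_iff_le_comap, ← Ideal.map_le_iff_le_comap]
    refine Ideal.map_le_iff_le_comap.2 ?_
    show _ ≤ (JS.comap π).comap F₀
    rw [Ideal.comap_comap, hπ, ← Ideal.map_le_iff_le_comap, hI])
  have hπF : π.comp F = algebraMap R S := by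
    have h0 : (π.comp F).comp (algebraMap (A ⊗[k] K) R) = (algebraMap R S).comp (algebraMap (A ⊗[k] K) R) := by
      rw [RingHom.comp_assoc, hF, hπ, ← IsScalarTower.algebraMap_eq]
    refine completion_hom_ext _ CplFib6.fg_cTensorIdeal JS _ _ h0 ?_
    rw [h0, ← IsScalarTower.algebraMap_eq, hI]
  have hu : ∀ m : M.primeCompl, IsUnit (F m) := fun m => by
    rw [TrivSqZeroExt.isUnit_iff_isUnit_fst]
    show IsUnit (π (F m))
    rw [show π (F m) = algebraMap R S m from RingHom.congr_fun hπF m]
    exact IsLocalization.map_units S m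
  let G : S →+* T := IsLocalization.lift hu
  have hG : ∀ x, (G x).fst = x := by
    have h : π.comp G = RingHom.id S := IsLocalization.ringHom_ext M.primeCompl (RingHom.ext fun x => by
      show π (G (algebraMap R S x)) = algebraMap R S x
      rw [IsLocalization.lift_eq]
      exact RingHom.congr_fun hπF x)
    exact RingHom.congr_fun h
  have hGK : ∀ c : K, G (algebraMap K S c) = algebraMap S T (algebraMap K S c) := fun c => by
    rw [IsScalarTower.algebraMap_apply K R S c, IsLocalization.lift_eq, IsScalarTower.algebraMap_apply K (A ⊗[k] K) R c,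
      show F (algebraMap (A ⊗[k] K) R _) = F₀ _ from RingHom.congr_fun hF _]
    refine (hFK c).trans ?_
    rw [RingHom.comp_apply, IsScalarTower.algebraMap_apply K R S c, IsScalarTower.algebraMap_apply K (A ⊗[k] K) R c]
  refine ⟨Derivation.mk'
    { toFun := fun x => (G x).snd
      map_add' := fun x y => by rw [map_add, TrivSqZeroExt.snd_add]
      map_smul' := fun c x => by
        rw [RingHom.id_apply, Algebra.smul_def, map_mul, TrivSqZeroExt.snd_mul, hGK, TrivSqZeroExt.algebraMap_eq_inl,
          TrivSqZeroExt.snd_inl, TrivSqZeroExt.fst_inl, op_smul_eq_smul, smul_zero, add_zero, algebraMap_smul] }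
    fun x y => by
      show (G (x * y)).snd = x • (G y).snd + y • (G x).snd
      rw [map_mul, TrivSqZeroExt.snd_mul, hG, hG, op_smul_eq_smul], fun a => ?_⟩
  show (G (algebraMap A S a)).snd = d a
  rw [IsScalarTower.algebraMap_apply A R S, IsLocalization.lift_eq, IsScalarTower.algebraMap_apply A (A ⊗[k] K) R,
    show F (algebraMap (A ⊗[k] K) R _) = F₀ _ from RingHom.congr_fun hF _]
  refine (congrArg TrivSqZeroExt.snd (hFA a)).trans ?_
  show (TrivSqZeroExt.inl (algebraMap A S a) + TrivSqZeroExt.inr (d a) : TrivSqZeroExt S N).snd = d a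
  rw [TrivSqZeroExt.snd_add, TrivSqZeroExt.snd_inl, TrivSqZeroExt.snd_inr, zero_add]

variable (k A K : Type u) [Field k] [CommRing A] [IsNoetherianRing A] [IsLocalRing A] [Algebra k A]
  [IsAdicComplete (maximalIdeal A) A] [Module.Finite k (ResidueField A)] [Field K] [Algebra k K]

local notation "Om" => AdicCompletion (maximalIdeal A) (Ω[A⁄k])

theorem finrank_fibre_le_of_regular [PerfectField K] (p : Ideal A) [p.IsPrime] (n : ℕ)
    (hn₁ : ∀ q ∈ minimalPrimes A, q ≤ p → ringKrullDim (A ⧸ q) ≤ n)
    (p' : Ideal (EGA4.CTensor k A K)) [p'.IsPrime]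
    (hp' : p'.comap (algebraMap A (EGA4.CTensor k A K)) = p)
    (hreg : IsRegularLocalRing (Localization.AtPrime p')) :
    IsRegularLocalRing (Localization.AtPrime p) ∧
      Module.finrank p.ResidueField (p.ResidueField ⊗[A] Om) ≤ n := by
  classical
  haveI := isAdicComplete_field K
  let R := EGA4.CTensor k A K
  haveI : IsNoetherianRing R := CplFib6.isNoetherianRing_cTensor
  haveI : Module.Flat A R := CplFib6.flat_left
  have hregp : IsRegularLocalRing (Localization.AtPrime p) := RegLoc6.regular_under_of_flat p' p hp' hreg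
  haveI := hregp
  haveI := RegLoc6.isDomain_of_isRegularLocalRing (Localization.AtPrime p)
  refine ⟨hregp, ?_⟩
  obtain ⟨M, hM, hpM⟩ := Ideal.exists_le_maximal p' (Ideal.IsPrime.ne_top ‹_›)
  let S := Localization.AtPrime M
  obtain ⟨hSc, hSff, -⟩ := atPrime_props k A K M
  haveI := hSc
  haveI := hSff
  haveI : IsNoetherianRing S := IsLocalization.isNoetherianRing M.primeCompl S inferInstance
  let P'' : Ideal S := p'.map (algebraMap R S)
  have hdisj : Disjoint (M.primeCompl : Set R) (p' : Set R) :=
    Set.disjoint_left.2 fun x hx hx' => hx (hpM hx')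
  haveI : P''.IsPrime := IsLocalization.isPrime_of_isPrime_disjoint M.primeCompl _ _ ‹_› hdisj
  have hover : p' = P''.comap (algebraMap R S) :=
    (IsLocalization.under_map_of_isPrime_disjoint M.primeCompl S ‹_› hdisj).symm
  have hPp : P''.comap (algebraMap A S) = p := by
    rw [IsScalarTower.algebraMap_eq A R S, ← Ideal.comap_comap, ← hover, hp']
  haveI : IsRegularLocalRing (Localization.AtPrime P'') := by
    haveI : IsLocalization.AtPrime (Localization.AtPrime P'') p' := by
      have h := IsLocalization.isLocalization_isLocalization_atPrime_isLocalization M.primeCompl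
        (Localization.AtPrime P'') P''
      convert h using 2
    haveI := hreg
    exact IsRegularLocalRing.of_ringEquiv (R := Localization.AtPrime p')
      (IsLocalization.algEquiv p'.primeCompl (Localization.AtPrime p') (Localization.AtPrime P'')).toRingEquiv
  haveI : IsRegularRing (Localization.AtPrime P'') := RegLoc6.isRegularRing_of_isRegularLocalRing _
  have hgeo := geometricallyRegular_of_perfect K (Localization.AtPrime P'')
  -- residue field
  let J : Ideal R := (maximalIdeal A).map (algebraMap A R)
  haveI := isAdicComplete_cTensor k A K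
  haveI := isArtinianRing_quot k A K
  have hJM : J ≤ M := (IsAdicComplete.le_jacobson_bot J).trans (sInf_le ⟨bot_le, inferInstance⟩)
  haveI : Module.Finite K (ResidueField S) := by
    obtain ⟨e, -⟩ := CplFib6.exists_quot_equiv (k := k) (A := A) (B := K) 1
    haveI := (CplFib6.finite_and_flat_trunc (k := k) (A := A) (B := K) 1).1
    haveI : Module.Finite K (R ⧸ (maximalIdeal A ^ 1).map (algebraMap A R)) := Module.Finite.equiv e.toLinearEquiv
    let g : R →ₐ[K] ResidueField S := IsScalarTower.toAlgHom K R (ResidueField S)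
    have hg : Function.Surjective g := fun z => by
      obtain ⟨z, rfl⟩ := residue_surjective z
      obtain ⟨z, rfl⟩ := surjective_atPrime J M z
      exact ⟨z, IsScalarTower.algebraMap_apply R S (ResidueField S) z⟩
    have hk : ∀ x ∈ (maximalIdeal A ^ 1).map (algebraMap A R), g x = 0 := by
      intro x hx
      rw [pow_one] at hx
      show algebraMap R (ResidueField S) x = 0
      rw [IsScalarTower.algebraMap_apply R S (ResidueField S)]
      exact (residue_eq_zero_iff _).2 ((IsLocalization.AtPrime.to_map_mem_maximal_iff S M x).2 (hJM hx))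
    refine Module.Finite.of_surjective (Ideal.Quotient.liftₐ _ g hk).toLinearMap fun z => ?_
    obtain ⟨x, rfl⟩ := hg z
    exact ⟨Ideal.Quotient.mk _ x, rfl⟩
  -- the minimal prime
  obtain ⟨q'', hq'', hq''P⟩ := Ideal.exists_minimalPrimes_le (bot_le : (⊥ : Ideal S) ≤ P'')
  haveI := hq''.1.1
  haveI : Module.Flat A S := inferInstance
  let q : Ideal A := q''.comap (algebraMap A S)
  have hqp : q ≤ p := hPp ▸ Ideal.comap_mono hq''P
  have hqmin : q ∈ minimalPrimes A := by
    obtain ⟨q₀, hq₀, hq₀le⟩ := Ideal.exists_minimalPrimes_le (bot_le : (⊥ : Ideal A) ≤ q)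
    haveI := hq₀.1.1
    haveI : q''.LiesOver q := ⟨rfl⟩
    obtain ⟨Q₀, hQ₀le, hQ₀p, hQ₀over⟩ := Ideal.exists_ideal_le_liesOver_of_le (S := S) q'' hq₀le
    have h1 : q'' ≤ Q₀ := hq''.2 ⟨hQ₀p, bot_le⟩ hQ₀le
    have e : q = q₀ := le_antisymm (hQ₀over.over.symm ▸ Ideal.comap_mono h1) hq₀le
    exact e ▸ hq₀
  let a : Ideal S := q.map (algebraMap A S)
  have ha : a ≤ q'' := Ideal.map_le_iff_le_comap.2 le_rfl
  haveI : IsLocalHom (algebraMap A S) := by
    haveI : IsLocalHom (algebraMap A S) := ((local_hom_TFAE (algebraMap A S)).out 3 0).1 (Ideal.map_le_iff_le_comap.1 (by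
      rw [IsScalarTower.algebraMap_eq A R S, ← Ideal.map_map]
      exact (Ideal.map_mono hJM).trans Localization.AtPrime.map_eq_maximalIdeal.le))
    infer_instance
  obtain ⟨n'', hn''⟩ : ∃ m : ℕ, ringKrullDim (S ⧸ q'') = m := by
    haveI : Nontrivial (S ⧸ q'') := Ideal.Quotient.nontrivial_iff.2 (Ideal.IsPrime.ne_top inferInstance)
    haveI : IsLocalRing (S ⧸ q'') := .of_surjective' (Ideal.Quotient.mk q'') Ideal.Quotient.mk_surjective
    obtain ⟨r, -, -, hr, -⟩ := CohenLib.exists_fin_sop (S ⧸ q'')
    exact ⟨r, hr⟩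
  have hle : n'' ≤ n := by
    have h1 : ringKrullDim (S ⧸ q'') ≤ ringKrullDim (S ⧸ a) :=
      ringKrullDim_le_of_surjective (Ideal.Quotient.factor ha) (Ideal.Quotient.factor_surjective ha)
    have hqm : q ≤ maximalIdeal A := le_maximalIdeal hqmin.1.1.ne_top
    obtain ⟨hl1, hl2⟩ := CplFib6.isLocalRing_quots (D := S) q hqm
    haveI := hl1
    haveI := hl2
    haveI := CplFib6.isLocalHom_quot (D := S) q
    haveI := CplFib6.flat_quot (D := S) q
    have h2 := Synt29.ringKrullDim_eq_add_of_hasGoingDown (A := A ⧸ q) (A' := S ⧸ a)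
    haveI hartq : IsArtinianRing ((S ⧸ a) ⧸ (maximalIdeal (A ⧸ q)).map (algebraMap (A ⧸ q) (S ⧸ a))) := by
      obtain ⟨-, hart⟩ := isAdicComplete_atPrime J M
      haveI := hart
      let g : S ⧸ J.map (algebraMap R S) →+* (S ⧸ a) ⧸ (maximalIdeal (A ⧸ q)).map (algebraMap (A ⧸ q) (S ⧸ a)) :=
        Ideal.Quotient.lift _ ((Ideal.Quotient.mk _).comp (Ideal.Quotient.mk a)) fun x hx => by
          rw [RingHom.comp_apply, Ideal.Quotient.eq_zero_iff_mem]
          rw [Ideal.map_map, ← IsScalarTower.algebraMap_eq] at hx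
          have h := Ideal.mem_map_of_mem (Ideal.Quotient.mk a) hx
          rw [Ideal.map_map] at h
          rw [← map_maximalIdeal_of_surjective (Ideal.Quotient.mk q) Ideal.Quotient.mk_surjective, Ideal.map_map]
          exact h
      refine Function.Surjective.isArtinianRing (f := g) fun z => ?_
      obtain ⟨z, rfl⟩ := Ideal.Quotient.mk_surjective z
      obtain ⟨z, rfl⟩ := Ideal.Quotient.mk_surjective z
      exact ⟨Ideal.Quotient.mk _ z, rfl⟩
    haveI : Nontrivial ((S ⧸ a) ⧸ (maximalIdeal (A ⧸ q)).map (algebraMap (A ⧸ q) (S ⧸ a))) :=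
      Ideal.Quotient.nontrivial_iff.2 (ne_top_of_le_ne_top (maximalIdeal.isMaximal _).ne_top (map_maximalIdeal_le _))
    haveI : Ring.KrullDimLE 0 ((S ⧸ a) ⧸ (maximalIdeal (A ⧸ q)).map (algebraMap (A ⧸ q) (S ⧸ a))) :=
      ((isArtinianRing_iff_isNoetherianRing_krullDimLE_zero (R := (S ⧸ a) ⧸ (maximalIdeal (A ⧸ q)).map (algebraMap (A ⧸ q) (S ⧸ a)))).1 hartq).2
    rw [(ringKrullDimZero_iff_ringKrullDim_eq_zero
      (R := (S ⧸ a) ⧸ (maximalIdeal (A ⧸ q)).map (algebraMap (A ⧸ q) (S ⧸ a)))).1 inferInstance, add_zero] at h2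
    rw [h2, hn''] at h1
    exact_mod_cast h1.trans (hn₁ q hqmin hqp)
  -- the differentials
  obtain ⟨e, he⟩ := ExpChar.exists K
  haveI := he
  haveI : PerfectRing K e := PerfectField.toPerfectRing e
  have hfrob : (frobenius K e).Finite := RingHom.Finite.of_surjective _ (bijective_frobenius K e).2
  obtain ⟨hfree, hrk⟩ := S5074.result e K S hfrob P'' hgeo q'' hq'' hq''P n'' hn''
  haveI := hfree
  haveI := finite_completion K S
  let b := Module.finBasisOfFinrankEq (Localization.AtPrime P'')
    (LocalizedModule P''.primeCompl (AdicCompletion (maximalIdeal S) (Ω[S⁄K]))) hrk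
  obtain ⟨s, hs⟩ := exists_genAt_of_localized P'' (M := AdicCompletion (maximalIdeal S) (Ω[S⁄K])) ⟨b, b.span_eq⟩
  haveI := finite_completion k A
  let N := S ⊗[A] Om
  let d : Derivation k A N := ((TensorProduct.mk A S Om 1).comp (AdicCompletion.of (maximalIdeal A) (Ω[A⁄k]))).compDer
    (KaehlerDifferential.D k A)
  obtain ⟨D, hD⟩ := exists_tensor_derivation k A K M d
  obtain ⟨φ, hφ⟩ := exists_lift K S D
  have hφs : Function.Surjective φ := by
    rw [← LinearMap.range_eq_top, eq_top_iff]
    intro z hz
    clear hz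
    induction z using TensorProduct.induction_on with
    | zero => exact zero_mem _
    | add x y hx hy => exact add_mem hx hy
    | tmul x w =>
      rw [show x ⊗ₜ[A] w = x • ((1 : S) ⊗ₜ[A] w) by rw [TensorProduct.smul_tmul', smul_eq_mul, mul_one]]
      refine Submodule.smul_mem _ _ ?_
      have hw : w ∈ Submodule.span A (Set.range fun a => AdicCompletion.of (maximalIdeal A) (Ω[A⁄k])
        (KaehlerDifferential.D k A a)) := (span_d k A).symm ▸ Submodule.mem_top
      induction hw using Submodule.span_induction with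
      | mem y hy =>
        obtain ⟨y, rfl⟩ := hy
        exact ⟨_, (hφ _).trans (hD y)⟩
      | zero => rw [tmul_zero]; exact zero_mem _
      | add y z _ _ hy hz => rw [tmul_add]; exact add_mem hy hz
      | smul c y _ hy =>
        rw [tmul_smul, ← algebraMap_smul S c]
        exact Submodule.smul_mem _ _ hy
  have hgen : GenAt P'' (φ ∘ s) := by
    intro z
    obtain ⟨y, rfl⟩ := hφs z
    obtain ⟨c, hc, hy⟩ := hs y
    refine ⟨c, hc, ?_⟩
    rw [← map_smul, Set.range_comp, ← Submodule.map_span]
    exact Submodule.mem_map_of_mem hy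
  have h1 := (finrank_fibre_le P'' hgen).trans hle
  haveI : P''.LiesOver p := ⟨hPp.symm⟩
  letI : Algebra p.ResidueField P''.ResidueField := (Ideal.ResidueField.map p P'' (algebraMap A S) hPp.symm).toAlgebra
  haveI : IsScalarTower A p.ResidueField P''.ResidueField := IsScalarTower.of_algebraMap_eq fun x => by
    rw [RingHom.algebraMap_toAlgebra, Ideal.ResidueField.map_algebraMap, ← IsScalarTower.algebraMap_apply]
  have h2 : Module.finrank P''.ResidueField (P''.ResidueField ⊗[S] N) =
      Module.finrank p.ResidueField (p.ResidueField ⊗[A] Om) := by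
    rw [(AlgebraTensorModule.cancelBaseChange A S P''.ResidueField P''.ResidueField Om).finrank_eq,
      ← (AlgebraTensorModule.cancelBaseChange A p.ResidueField P''.ResidueField P''.ResidueField Om).finrank_eq,
      Module.finrank_baseChange]
  exact h2 ▸ h1

end Groth.Agent.CplKaehler4
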