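import Groth.Agent.GeomReg.Basic

/-!
Unramified at a prime over a regular ring with the right dimension is étale there.
-/

set_option linter.style.haveILetI false

namespace Groth.Agent.CplKaehler4

open IsLocalRing

universe u

variable {P A : Type u} [CommRing P] [CommRing A] [Algebra P A] [IsRegularRing P]

theorem ringKrullDim_le_of_unramifiedAt [IsNoetherianRing A] [Algebra.EssFiniteType P A] (Q : Ideal A) [Q.IsPrime]
    [Algebra.IsUnramifiedAt P Q] :
    ringKrullDim (Localization.AtPrime Q) ≤ ringKrullDim (Localization.AtPrime (Q.under P)) := by
  let := Localization.AtPrime.algebraOfLiesOver (Q.under P) Q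
  have hmap := ((Algebra.isUnramifiedAt_iff_map_eq P (Q.under P) Q).mp ‹_›).2
  refine (ringKrullDim_le_spanFinrank_maximalIdeal _).trans ?_
  rw [← hmap, IsScalarTower.algebraMap_eq P (Localization.AtPrime (Q.under P)) (Localization.AtPrime Q),
    ← Ideal.map_map, Localization.AtPrime.map_eq_maximalIdeal,
    ← ((isRegularLocalRing_iff (Localization.AtPrime (Q.under P))).mp inferInstance)]
  have fg := (maximalIdeal (Localization.AtPrime (Q.under P))).fg_of_isNoetherianRing
  have fin := Submodule.FG.finite_generators fg
  conv_lhs => rw [← (maximalIdeal (Localization.AtPrime (Q.under P))).span_generators,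
    show Submodule.span _ _ = Ideal.span _ from rfl, Ideal.map_span]
  exact_mod_cast (Submodule.spanFinrank_span_le_ncard_of_finite (fin.image _)).trans
    ((Set.ncard_image_le fin).trans (Submodule.FG.generators_ncard fg).le)

/-- Criterion for being étale at a prime. -/
theorem isEtaleAt_of_unramifiedAt [Algebra.FiniteType P A] (p : Ideal A) [p.IsPrime]
    [Algebra.IsUnramifiedAt P p]
    (hdim : ringKrullDim (Localization.AtPrime (p.under P)) ≤ ringKrullDim (Localization.AtPrime p)) :
    Algebra.IsEtaleAt P p := by
  classical
  obtain ⟨f, hf, S, φ, hφ⟩ := Algebra.IsUnramifiedAt.exists_hasStandardEtaleSurjectionOn (R := P) p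
  let Af := Localization.Away f
  let pf : Ideal Af := p.map (algebraMap A Af)
  have hdisj : Disjoint (Submonoid.powers f : Set A) (p : Set A) :=
    (Ideal.disjoint_powers_iff_notMem_of_isPrime _).mpr hf
  haveI : pf.IsPrime := IsLocalization.isPrime_of_isPrime_disjoint (.powers f) _ _ ‹_› hdisj
  haveI : pf.LiesOver p := ⟨(IsLocalization.under_map_of_isPrime_disjoint (.powers f) Af ‹_› hdisj).symm⟩
  let C := S.Ring
  let q : Ideal C := pf.comap φ.toRingHom
  haveI : IsRegularRing C := GeomReg.isRegularRing_of_smooth P C
  haveI : Algebra.FormallyEtale C (Localization.AtPrime q) := .of_isLocalization q.primeCompl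
  haveI hCet : Algebra.FormallyEtale P (Localization.AtPrime q) := .comp P C _
  haveI : Algebra.IsUnramifiedAt P q := (inferInstance : Algebra.FormallyUnramified P (Localization.AtPrime q))
  -- the two localizations of `A`
  let e : Localization.AtPrime p ≃ₐ[A] Localization.AtPrime pf :=
    letI := Localization.AtPrime.algebraOfLiesOver p pf
    haveI : IsLocalization.AtPrime (Localization.AtPrime pf) p := by
      have h := IsLocalization.isLocalization_isLocalization_atPrime_isLocalization (.powers f)
        (Localization.AtPrime pf) pf
      convert h using 2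
      exact Ideal.LiesOver.over (p := p) (P := pf)
    IsLocalization.algEquiv p.primeCompl _ _
  have hsurj := RingHom.surjective_localRingHom_of_surjective φ.toRingHom hφ pf
  let g : Localization.AtPrime q →ₐ[P] Localization.AtPrime pf :=
    { Localization.localRingHom q pf φ.toRingHom rfl with
      commutes' := fun c => by
        show Localization.localRingHom q pf φ.toRingHom rfl (algebraMap P _ c) = _
        rw [IsScalarTower.algebraMap_apply P C, Localization.localRingHom_to_map,
          IsScalarTower.algebraMap_apply P Af (Localization.AtPrime pf)]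
        congr 1
        exact φ.commutes c }
  let g' : Localization.AtPrime q →ₐ[P] Localization.AtPrime p := (e.symm.toAlgHom.restrictScalars P).comp g
  have hg' : Function.Surjective g' := e.symm.surjective.comp hsurj
  haveI : IsRegularLocalRing (Localization.AtPrime q) := IsRegularRing.isRegularLocalRing_localization _
  haveI : IsDomain (Localization.AtPrime q) := RegLoc6.isDomain_of_isRegularLocalRing _
  have hq : q.under P = p.under P := by
    ext c
    rw [Ideal.mem_comap, Ideal.mem_comap, show algebraMap P S.Ring c = algebraMap P C c from rfl]
    show φ.toRingHom (algebraMap P C c) ∈ pf ↔ _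
    rw [show φ.toRingHom (algebraMap P C c) = algebraMap A Af (algebraMap P A c) from
      (φ.commutes c).trans (IsScalarTower.algebraMap_apply P A Af c)]
    exact (Ideal.mem_of_liesOver pf p _).symm
  have hinj : Function.Injective g' := by
    rw [injective_iff_map_eq_zero]
    intro x hx
    by_contra hx0
    have h1 := ringKrullDim_succ_le_of_surjective g'.toRingHom hg' (mem_nonZeroDivisors_of_ne_zero hx0) hx
    haveI : IsNoetherianRing A := Algebra.FiniteType.isNoetherianRing P A
    have h2 := ringKrullDim_le_of_unramifiedAt (P := P) q
    have h3 : ringKrullDim (Localization.AtPrime p) + 1 ≤ ringKrullDim (Localization.AtPrime p) := by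
      refine h1.trans (h2.trans ?_)
      rw [IsLocalization.AtPrime.ringKrullDim_eq_height (q.under P) (Localization.AtPrime (q.under P)), hq,
        ← IsLocalization.AtPrime.ringKrullDim_eq_height (p.under P) (Localization.AtPrime (p.under P))]
      exact hdim
    haveI : FiniteRingKrullDim (Localization.AtPrime p) := inferInstance
    obtain ⟨n, hn⟩ : ∃ n : ℕ, ringKrullDim (Localization.AtPrime p) = n := by
      cases h : ringKrullDim (Localization.AtPrime p) with
      | bot => exact absurd h ringKrullDim_ne_bot
      | coe a => cases a with
        | top => exact absurd h ringKrullDim_ne_top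
        | coe n => exact ⟨n, rfl⟩
    rw [hn] at h3
    have h4 : n + 1 ≤ n := by exact_mod_cast h3
    omega
  exact Algebra.FormallyEtale.of_equiv (AlgEquiv.ofBijective g' ⟨hinj, hg'⟩)

end Groth.Agent.CplKaehler4
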