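import Groth.Agent.CplKaehler4.Base
import Groth.Agent.CplKaehler4.EtaleAt
import Groth.Agent.RegLoc6.Serre
import Groth.Agent.RegLoc6.Normal
import Groth.Agent.PopescuLib.Main
import Groth.Agent.CplFib6.PSRegular
import Groth.Agent.RegFS6.NormalPS
import Groth.Agent.SmoothingLib.GeomRegDiff
import Groth.Agent.EGA41Lib.IntDim
import Groth.Agent.CohenLib.Structure
import Mathlib.RingTheory.IntegralClosure.GoingDown

/-!
Étale points of finite maps from power series.
-/

set_option linter.style.haveILetI false

namespace Groth.Agent.CplKaehler4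

open IsLocalRing TensorProduct

universe u

variable {k : Type u} [Field k]

theorem geometricallyRegular_mvPowerSeries (n : ℕ) :
    CAlg.IsGeometricallyRegular k (MvPowerSeries (Fin n) k) := by
  haveI : IsNoetherianRing (MvPowerSeries (Fin n) k) := by
    haveI := PSLib.isRegularLocalRing (K := k) (n := n)
    infer_instance
  have h := PopescuLib.geometricallyRegular_baseChange
    (CplFib6.isRegularHom_mvPowerSeries (RegFS6.isGRing_field k) n) k
  intro k' _ _ hfin
  haveI := h k' hfin
  exact IsRegularRing.of_ringEquiv (R := k' ⊗[k] (k ⊗[k] MvPowerSeries (Fin n) k))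
    (Algebra.TensorProduct.congr (AlgEquiv.refl : k' ≃ₐ[k] k')
      (Algebra.TensorProduct.lid k (MvPowerSeries (Fin n) k))).toRingEquiv

variable {A : Type u} [CommRing A] [Algebra k A] {n : ℕ}
  [Algebra (MvPowerSeries (Fin n) k) A] [IsScalarTower k (MvPowerSeries (Fin n) k) A]
  [Module.Finite (MvPowerSeries (Fin n) k) A]

theorem geomRegular_of_etaleAt (p : Ideal A) [p.IsPrime] [Algebra.IsEtaleAt (MvPowerSeries (Fin n) k) p] :
    CAlg.IsGeometricallyRegular k (Localization.AtPrime p) := by
  haveI : IsNoetherianRing (MvPowerSeries (Fin n) k) := by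
    haveI := PSLib.isRegularLocalRing (K := k) (n := n)
    infer_instance
  haveI : Algebra.FinitePresentation (MvPowerSeries (Fin n) k) A :=
    Algebra.FinitePresentation.of_finiteType.1 inferInstance
  obtain ⟨f, hf, het⟩ := Algebra.exists_etale_of_isEtaleAt (R := MvPowerSeries (Fin n) k) p
  let Af := Localization.Away f
  haveI : Algebra.Etale (MvPowerSeries (Fin n) k) Af := het
  have hAf : CAlg.IsGeometricallyRegular k Af := by
    intro K _ _ hK
    haveI : IsRegularRing (MvPowerSeries (Fin n) k ⊗[k] K) := by
      have := geometricallyRegular_mvPowerSeries (k := k) n K hK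
      exact IsRegularRing.of_ringEquiv (R := K ⊗[k] MvPowerSeries (Fin n) k) (Algebra.TensorProduct.comm k K _).toRingEquiv
    haveI : IsRegularRing ((MvPowerSeries (Fin n) k ⊗[k] K) ⊗[MvPowerSeries (Fin n) k] Af) :=
      GeomReg.isRegularRing_of_smooth (MvPowerSeries (Fin n) k ⊗[k] K) _
    exact IsRegularRing.of_ringEquiv (R := (MvPowerSeries (Fin n) k ⊗[k] K) ⊗[MvPowerSeries (Fin n) k] Af)
      (((Algebra.TensorProduct.comm (MvPowerSeries (Fin n) k)
      (MvPowerSeries (Fin n) k ⊗[k] K) Af).toRingEquiv.trans
      (Algebra.TensorProduct.cancelBaseChange k (MvPowerSeries (Fin n) k) Af Af K).toRingEquiv).trans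
      (Algebra.TensorProduct.comm k Af K).toRingEquiv)
  let pf : Ideal Af := p.map (algebraMap A Af)
  have hdisj : Disjoint (Submonoid.powers f : Set A) (p : Set A) :=
    (Ideal.disjoint_powers_iff_notMem_of_isPrime _).mpr hf
  haveI : pf.IsPrime := IsLocalization.isPrime_of_isPrime_disjoint (.powers f) _ _ ‹_› hdisj
  have hover : p = pf.comap (algebraMap A Af) :=
    (IsLocalization.under_map_of_isPrime_disjoint (.powers f) Af ‹_› hdisj).symm
  haveI : IsLocalization.AtPrime (Localization.AtPrime pf) p := by
    have h := IsLocalization.isLocalization_isLocalization_atPrime_isLocalization (.powers f)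
      (Localization.AtPrime pf) pf
    convert h using 2
  have h := SmoothingLib.GeomDiff.isGeometricallyRegular_of_isLocalization hAf pf.primeCompl
    (Localization.AtPrime pf)
  let e : Localization.AtPrime p ≃ₐ[A] Localization.AtPrime pf := IsLocalization.algEquiv p.primeCompl _ _
  intro k' _ _ hfin
  haveI := h k' hfin
  exact IsRegularRing.of_ringEquiv (R := k' ⊗[k] Localization.AtPrime pf)
    (Algebra.TensorProduct.congr (AlgEquiv.refl : k' ≃ₐ[k] k') ((e.symm).restrictScalars k)).toRingEquiv

variable [IsLocalRing A] [IsNoetherianRing A]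

/-- Unramified on a top dimensional component means étale. -/
theorem etaleAt_of_unramifiedAt (p q : Ideal A) [p.IsPrime] [q.IsPrime] (hqp : q ≤ p)
    (hq : ringKrullDim (A ⧸ q) = n) [Algebra.IsUnramifiedAt (MvPowerSeries (Fin n) k) p] :
    Algebra.IsEtaleAt (MvPowerSeries (Fin n) k) p := by
  let P := MvPowerSeries (Fin n) k
  haveI := PSLib.isRegularLocalRing (K := k) (n := n)
  haveI : IsRegularRing P := RegLoc6.isRegularRing_of_isRegularLocalRing P
  haveI : IsDomain P := NoZeroDivisors.to_isDomain _
  haveI : IsIntegrallyClosed P := RegLoc6.isIntegrallyClosed_of_isRegularLocalRing P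
  refine isEtaleAt_of_unramifiedAt p ?_
  let B := A ⧸ q
  have hfin : (algebraMap P B).Finite := RingHom.finite_algebraMap.2 inferInstance
  have hinj : Function.Injective (algebraMap P B) :=
    CohenLib.injective_of_finite _ hfin hq (PSLib.ringKrullDim_eq k n).le
  haveI : FaithfulSMul P B := (faithfulSMul_iff_algebraMap_injective _ _).2 hinj
  haveI : Algebra.IsIntegral P B := Algebra.IsIntegral.of_finite _ _
  let pb : Ideal B := p.map (Ideal.Quotient.mk q)
  haveI : pb.IsPrime := Ideal.map_isPrime_of_surjective Ideal.Quotient.mk_surjective (by rwa [Ideal.mk_ker])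
  have hpb : pb.comap (Ideal.Quotient.mk q) = p := by
    rw [Ideal.comap_map_of_surjective _ Ideal.Quotient.mk_surjective, ← RingHom.ker_eq_comap_bot, Ideal.mk_ker,
      sup_eq_left.2 hqp]
  haveI : pb.LiesOver (p.under P) := ⟨by
    conv_lhs => rw [← hpb]
    rfl⟩
  rw [IsLocalization.AtPrime.ringKrullDim_eq_height (p.under P) (Localization.AtPrime (p.under P))]
  have h1 : (p.under P).height ≤ pb.height :=
    (Ideal.height_eq_height_add_of_liesOver_of_hasGoingDown (p.under P) pb).symm ▸ le_self_add
  refine (WithBot.coe_le_coe.2 h1).trans ?_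
  rw [← IsLocalization.AtPrime.ringKrullDim_eq_height pb (Localization.AtPrime pb)]
  have hs := RingHom.surjective_localRingHom_of_surjective (Ideal.Quotient.mk q) Ideal.Quotient.mk_surjective pb
  refine (ringKrullDim_le_of_surjective _ hs).trans (le_of_eq ?_)
  rw [IsLocalization.AtPrime.ringKrullDim_eq_height (pb.comap (Ideal.Quotient.mk q))
      (Localization.AtPrime (pb.comap (Ideal.Quotient.mk q))), hpb,
    ← IsLocalization.AtPrime.ringKrullDim_eq_height p (Localization.AtPrime p)]

variable [IsAdicComplete (maximalIdeal A) A] [Module.Finite (ResidueField A) (Ω[ResidueField A⁄k])]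

local notation "Om" => AdicCompletion (maximalIdeal A) (Ω[A⁄k])

/-- The completed differentials are free at an étale point. -/
theorem free_of_etaleAt (p : Ideal A) [p.IsPrime] [Algebra.IsEtaleAt (MvPowerSeries (Fin n) k) p] :
    Module.Free (Localization.AtPrime p) (LocalizedModule p.primeCompl Om) ∧
      Module.finrank (Localization.AtPrime p) (LocalizedModule p.primeCompl Om) = n := by
  classical
  let P := MvPowerSeries (Fin n) k
  let Ap := Localization.AtPrime p
  haveI := finite_completion k A
  haveI : Algebra.FormallyEtale P Ap := ‹Algebra.IsEtaleAt (MvPowerSeries (Fin n) k) p›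
  haveI : Algebra.IsUnramifiedAt P p := (inferInstance : Algebra.FormallyUnramified P Ap)
  let e := KaehlerDifferential.tensorKaehlerEquivOfFormallyEtale k P Ap
  let D : Fin n → Derivation k A Ap := fun i =>
    (((Algebra.linearMap P Ap ∘ₗ (MvPowerSeries.pderiv k i).liftKaehlerDifferential).liftBaseChange Ap ∘ₗ
      e.symm.toLinearMap).compDer (KaehlerDifferential.D k Ap)).compAlgebraMap A
  have hD : ∀ (i : Fin n) (f : P), D i (algebraMap P A f) = algebraMap P Ap (MvPowerSeries.pderiv k i f) := by
    intro i f
    show (Algebra.linearMap P Ap ∘ₗ (MvPowerSeries.pderiv k i).liftKaehlerDifferential).liftBaseChange Ap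
      (e.symm (KaehlerDifferential.D k Ap (algebraMap A Ap (algebraMap P A f)))) = _
    rw [← IsScalarTower.algebraMap_apply, KaehlerDifferential.tensorKaehlerEquivOfFormallyEtale_symm_D_algebraMap,
      LinearMap.liftBaseChange_tmul, one_smul, LinearMap.comp_apply, Derivation.liftKaehlerDifferential_comp_D]
    rfl
  obtain ⟨m, b, hb⟩ := Submodule.fg_iff_exists_fin_generating_family.1 (Module.Finite.fg_top (R := P) (M := A))
  let N : Submodule A (Fin n → Ap) :=
    Submodule.span A ((Set.range fun j => fun i => D i (b j)) ∪ Set.range fun i => (Pi.single i 1 : Fin n → Ap))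
  let D₀ : A → (Fin n → Ap) := fun a i => D i a
  have hN : ∀ a, D₀ a ∈ N := by
    intro a
    obtain ⟨c, rfl⟩ := (Submodule.mem_span_range_iff_exists_fun P).1 (hb ▸ (Submodule.mem_top : a ∈ ⊤))
    have he : D₀ (∑ j, c j • b j) = ∑ j, (algebraMap P A (c j) • (fun i => D i (b j)) +
        b j • ∑ i, algebraMap P A (MvPowerSeries.pderiv k i (c j)) • (Pi.single i 1 : Fin n → Ap)) := by
      funext l
      simp only [D₀, map_sum, Finset.sum_apply, Pi.add_apply, Pi.smul_apply, Pi.single_apply]
      refine Finset.sum_congr rfl fun j _ => ?_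
      rw [Algebra.smul_def (c j), Derivation.leibniz, hD]
      simp [Algebra.algebraMap_eq_smul_one, IsScalarTower.algebraMap_apply P A Ap]
    rw [he]
    exact sum_mem fun j _ => add_mem (N.smul_mem _ (Submodule.subset_span (Or.inl ⟨j, rfl⟩)))
      (N.smul_mem _ (sum_mem fun i _ => N.smul_mem _ (Submodule.subset_span (Or.inr ⟨i, rfl⟩))))
  haveI : Module.Finite A N := Module.Finite.iff_fg.2
    (Submodule.fg_span ((Set.finite_range _).union (Set.finite_range _)))
  let DN : Derivation k A N := Derivation.mk'
    { toFun := fun a => ⟨D₀ a, hN a⟩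
      map_add' := fun a c => Subtype.ext (funext fun i => map_add (D i) a c)
      map_smul' := fun c a => Subtype.ext (funext fun i => (D i).map_smul c a) }
    fun a c => Subtype.ext (funext fun i => (D i).leibniz a c)
  obtain ⟨φ, hφ⟩ := exists_lift k A DN
  let mk := LocalizedModule.mkLinearMap p.primeCompl Om
  have hu : ∀ x : p.primeCompl, IsUnit (algebraMap A (Module.End A (Fin n → Ap)) x) := by
    intro x
    obtain ⟨v, hv⟩ := IsLocalization.map_units Ap x
    rw [Module.End.isUnit_iff]
    constructor
    · intro a c hac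
      funext i
      have h := congrFun hac i
      simp only [Module.algebraMap_end_apply, Pi.smul_apply, Algebra.smul_def, ← hv] at h
      exact v.isUnit.mul_left_cancel h
    · intro a
      refine ⟨fun i => (↑v⁻¹ : Ap) * a i, funext fun i => ?_⟩
      simp only [Module.algebraMap_end_apply, Pi.smul_apply, Algebra.smul_def, ← hv]
      rw [← mul_assoc, Units.mul_inv, one_mul]
  let Ψ : LocalizedModule p.primeCompl Om →ₗ[Ap] (Fin n → Ap) :=
    LinearMap.extendScalarsOfIsLocalization p.primeCompl Ap
      (IsLocalizedModule.lift p.primeCompl mk (N.subtype ∘ₗ φ) hu)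
  let v : Fin n → LocalizedModule p.primeCompl Om := fun i =>
    mk (AdicCompletion.of _ _ (KaehlerDifferential.D k A (algebraMap P A (MvPowerSeries.X i))))
  have hv : ∀ j, Ψ (v j) = Pi.single j 1 := by
    intro j
    show IsLocalizedModule.lift p.primeCompl mk (N.subtype ∘ₗ φ) hu (mk _) = _
    rw [IsLocalizedModule.lift_apply, LinearMap.comp_apply, hφ]
    funext i
    show D i (algebraMap P A (MvPowerSeries.X j)) = _
    rw [hD, MvPowerSeries.pderiv_X]
    by_cases h : i = j
    · subst h; simp
    · simp [h, Ne.symm h]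
  have hli : LinearIndependent Ap v := by
    refine LinearIndependent.of_comp Ψ ?_
    rw [show Ψ ∘ v = fun j => Pi.single j 1 from funext hv]
    exact Pi.linearIndependent_single_one (Fin n) Ap
  have hsp : Submodule.span Ap (Set.range v) = ⊤ :=
    (genAt_iff_localized p _).1 ((genAt_iff_unramifiedAt (k := k) p).2 inferInstance)
  let bb := Module.Basis.mk hli hsp.ge
  exact ⟨Module.Free.of_basis bb, by rw [Module.finrank_eq_card_basis bb, Fintype.card_fin]⟩

end Groth.Agent.CplKaehler4
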