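import Groth.Agent.CplKaehler4.Unram
import Groth.Agent.CplKaehler4.Etale
import Groth.Agent.CplKaehler4.PointFree
import Groth.Agent.VarDim.Basic

/-!
Passing to the part of the algebra seen by a point, and the étale presentation there.
-/

set_option linter.style.haveILetI false

namespace Groth.Agent.CplKaehler4

open IsLocalRing TensorProduct

universe u

/-- The localization at a prime does not see an ideal killed there. -/
theorem bijective_localRingHom_quot {A : Type u} [CommRing A] (a p : Ideal A) [p.IsPrime]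
    (pb : Ideal (A ⧸ a)) [pb.IsPrime] (hpb : p = pb.comap (Ideal.Quotient.mk a))
    (ha : ∀ x ∈ a, algebraMap A (Localization.AtPrime p) x = 0) :
    Function.Bijective (Localization.localRingHom p pb (Ideal.Quotient.mk a) hpb) := by
  refine ⟨?_, fun z => ?_⟩
  · rw [injective_iff_map_eq_zero]
    intro z hz
    obtain ⟨⟨x, s⟩, rfl⟩ := IsLocalization.mk'_surjective p.primeCompl z
    rw [Localization.localRingHom_mk', IsLocalization.mk'_eq_zero_iff] at hz
    obtain ⟨⟨c, hc⟩, hca⟩ := hz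
    obtain ⟨c, rfl⟩ := Ideal.Quotient.mk_surjective c
    rw [← map_mul, Ideal.Quotient.eq_zero_iff_mem] at hca
    have h := ha _ hca
    rw [map_mul] at h
    have hcp : c ∈ p.primeCompl := fun h => hc (by rw [hpb] at h; exact h)
    rw [IsLocalization.mk'_eq_iff_eq_mul, zero_mul]
    exact (IsLocalization.map_units (Localization.AtPrime p) ⟨c, hcp⟩).mul_right_eq_zero.1 h
  · obtain ⟨⟨x, s⟩, rfl⟩ := IsLocalization.mk'_surjective pb.primeCompl z
    obtain ⟨x, rfl⟩ := Ideal.Quotient.mk_surjective x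
    obtain ⟨t, ht⟩ := Ideal.Quotient.mk_surjective (s : A ⧸ a)
    have htp : t ∈ p.primeCompl := fun h => s.2 (ht ▸ (show t ∈ pb.comap (Ideal.Quotient.mk a) from hpb ▸ h))
    refine ⟨IsLocalization.mk' _ x ⟨t, htp⟩, ?_⟩
    rw [Localization.localRingHom_mk']
    congr 1
    exact Subtype.ext ht

variable (k A : Type u) [Field k] [CommRing A] [IsLocalRing A] [IsNoetherianRing A] [Algebra k A]
  [IsAdicComplete (maximalIdeal A) A] [Module.Finite k (ResidueField A)]

local notation "Om" => AdicCompletion (maximalIdeal A) (Ω[A⁄k])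

/-- A point with at most `n` generators, `n` the dimension at the point, is étale over power series on a
quotient which does not change the local ring. -/
theorem exists_etale_reduced (p : Ideal A) [p.IsPrime] (hp : p ≠ maximalIdeal A) (n : ℕ)
    (hn₁ : ∀ q ∈ minimalPrimes A, q ≤ p → ringKrullDim (A ⧸ q) ≤ n)
    (hn₂ : ∃ q ∈ minimalPrimes A, q ≤ p ∧ ringKrullDim (A ⧸ q) = n)
    (hle : Module.finrank p.ResidueField (p.ResidueField ⊗[A] Om) ≤ n) :
    ∃ (a : Ideal A), (∀ x ∈ a, algebraMap A (Localization.AtPrime p) x = 0) ∧ a ≤ p ∧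
      ∃ (_ : Algebra (MvPowerSeries (Fin n) k) (A ⧸ a)) (_ : IsScalarTower k (MvPowerSeries (Fin n) k) (A ⧸ a))
        (p₁ : Ideal (A ⧸ a)) (_ : p₁.IsPrime),
        p = p₁.comap (Ideal.Quotient.mk a) ∧ Module.Finite (MvPowerSeries (Fin n) k) (A ⧸ a) ∧
        (∀ i, algebraMap (MvPowerSeries (Fin n) k) (A ⧸ a) (MvPowerSeries.X i) ∈
          (maximalIdeal A).map (Ideal.Quotient.mk a)) ∧
        Algebra.IsEtaleAt (MvPowerSeries (Fin n) k) p₁ := by
  classical
  haveI := finite_completion k A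
  let a : Ideal A := RingHom.ker (algebraMap A (Localization.AtPrime p))
  have ha : ∀ x ∈ a, algebraMap A (Localization.AtPrime p) x = 0 := fun x hx => hx
  have hap : a ≤ p := fun x hx => by
    rw [← IsLocalization.AtPrime.to_map_mem_maximal_iff (Localization.AtPrime p) p, ha x hx]
    exact zero_mem _
  haveI : Nontrivial (A ⧸ a) := Ideal.Quotient.nontrivial_iff.2 (ne_top_of_le_ne_top (Ideal.IsPrime.ne_top ‹_›) hap)
  haveI : IsLocalRing (A ⧸ a) := .of_surjective' (Ideal.Quotient.mk a) Ideal.Quotient.mk_surjective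
  haveI := isAdicComplete_quot a
  haveI : IsLocalHom (Ideal.Quotient.mk a) := .of_surjective _ Ideal.Quotient.mk_surjective
  haveI : Module.Finite k (ResidueField (A ⧸ a)) := by
    let g : ResidueField A →ₐ[k] ResidueField (A ⧸ a) :=
      { ResidueField.map (Ideal.Quotient.mk a) with commutes' := fun c => rfl }
    refine Module.Finite.of_surjective g.toLinearMap fun z => ?_
    obtain ⟨b, rfl⟩ := residue_surjective z
    obtain ⟨x, rfl⟩ := Ideal.Quotient.mk_surjective b
    exact ⟨residue A x, rfl⟩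
  let p₁ : Ideal (A ⧸ a) := p.map (Ideal.Quotient.mk a)
  haveI : p₁.IsPrime := Ideal.map_isPrime_of_surjective Ideal.Quotient.mk_surjective (by rwa [Ideal.mk_ker])
  have hp₁ : p = p₁.comap (Ideal.Quotient.mk a) := by
    rw [Ideal.comap_map_of_surjective _ Ideal.Quotient.mk_surjective, ← RingHom.ker_eq_comap_bot, Ideal.mk_ker,
      sup_eq_left.2 hap]
  -- minimal primes of the quotient lie below the point
  have hbelow : ∀ r ∈ minimalPrimes (A ⧸ a), r.comap (Ideal.Quotient.mk a) ∈ minimalPrimes A ∧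
      r.comap (Ideal.Quotient.mk a) ≤ p := by
    intro r hr
    haveI := hr.1.1
    have hinj : Function.Injective (Ideal.Quotient.lift a (algebraMap A (Localization.AtPrime p)) ha) :=
      RingHom.lift_injective_of_ker_le_ideal _ _ le_rfl
    obtain ⟨r', hr', hr''⟩ := Ideal.exists_comap_eq_of_mem_minimalPrimes_of_injective hinj r hr
    have hrp : r.comap (Ideal.Quotient.mk a) ≤ p := by
      intro x hx
      have h : algebraMap A (Localization.AtPrime p) x ∈ r' := by
        have : Ideal.Quotient.mk a x ∈ r'.comap (Ideal.Quotient.lift a (algebraMap A (Localization.AtPrime p)) ha) :=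
          hr''.symm ▸ hx
        exact this
      rw [← IsLocalization.AtPrime.to_map_mem_maximal_iff (Localization.AtPrime p) p]
      exact le_maximalIdeal hr'.ne_top h
    refine ⟨⟨⟨inferInstance, bot_le⟩, fun s hs hsle => ?_⟩, hrp⟩
    haveI := hs.1
    have has : a ≤ s := fun x hx => by
      obtain ⟨⟨c, hc⟩, hcx⟩ := (IsLocalization.map_eq_zero_iff p.primeCompl (Localization.AtPrime p) x).1 hx
      exact (hs.1.mem_or_mem (hcx ▸ s.zero_mem : c * x ∈ s)).resolve_left fun h => hc (hrp (hsle h))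
    have hsmap : (s.map (Ideal.Quotient.mk a)).IsPrime :=
      Ideal.map_isPrime_of_surjective Ideal.Quotient.mk_surjective (by rwa [Ideal.mk_ker])
    have h1 : r ≤ s.map (Ideal.Quotient.mk a) := hr.2 ⟨hsmap, bot_le⟩
      ((Ideal.map_mono hsle).trans Ideal.map_comap_le)
    refine (Ideal.comap_mono h1).trans (le_of_eq ?_)
    rw [Ideal.comap_map_of_surjective _ Ideal.Quotient.mk_surjective, ← RingHom.ker_eq_comap_bot, Ideal.mk_ker,
      sup_eq_left.2 has]
  have hdim : ∀ r ∈ minimalPrimes (A ⧸ a), ringKrullDim ((A ⧸ a) ⧸ r) =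
      ringKrullDim (A ⧸ r.comap (Ideal.Quotient.mk a)) := by
    intro r hr
    have hle' : a ≤ r.comap (Ideal.Quotient.mk a) := fun x hx => by
      rw [Ideal.mem_comap, Ideal.Quotient.eq_zero_iff_mem.2 hx]
      exact zero_mem _
    refine ringKrullDim_eq_of_ringEquiv ?_
    exact (Ideal.quotEquivOfEq (Ideal.map_comap_of_surjective _ Ideal.Quotient.mk_surjective r).symm).trans
      (DoubleQuot.quotQuotEquivQuotOfLE hle')
  obtain ⟨q, hq, hqp, hqn⟩ := hn₂
  have haq : a ≤ q := fun x hx => by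
    obtain ⟨⟨c, hc⟩, hcx⟩ := (IsLocalization.map_eq_zero_iff p.primeCompl (Localization.AtPrime p) x).1 hx
    exact (hq.1.1.mem_or_mem (hcx ▸ q.zero_mem : c * x ∈ q)).resolve_left fun h => hc (hqp h)
  let q₁ : Ideal (A ⧸ a) := q.map (Ideal.Quotient.mk a)
  haveI := hq.1.1
  haveI hq₁p : q₁.IsPrime := Ideal.map_isPrime_of_surjective Ideal.Quotient.mk_surjective (by rwa [Ideal.mk_ker])
  have hq₁ : q₁.comap (Ideal.Quotient.mk a) = q := by
    rw [Ideal.comap_map_of_surjective _ Ideal.Quotient.mk_surjective, ← RingHom.ker_eq_comap_bot, Ideal.mk_ker,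
      sup_eq_left.2 haq]
  have hq₁min : q₁ ∈ minimalPrimes (A ⧸ a) := by
    refine ⟨⟨hq₁p, bot_le⟩, fun s hs hsle => ?_⟩
    haveI := hs.1
    have h1 : q ≤ s.comap (Ideal.Quotient.mk a) := hq.2 ⟨inferInstance, bot_le⟩ (hq₁ ▸ Ideal.comap_mono hsle)
    exact (Ideal.map_mono h1).trans Ideal.map_comap_le
  have hq₁n : ringKrullDim ((A ⧸ a) ⧸ q₁) = n := by rw [hdim q₁ hq₁min, hq₁, hqn]
  have hA₁ : ringKrullDim (A ⧸ a) = n := by
    refine le_antisymm ?_ (hq₁n ▸ ringKrullDim_quotient_le q₁)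
    rw [ringKrullDim, Order.krullDim_eq_iSup_coheight]
    refine iSup_le fun z => ?_
    obtain ⟨z₀, hz₀, hzle⟩ := Ideal.exists_minimalPrimes_le (bot_le : (⊥ : Ideal (A ⧸ a)) ≤ z.asIdeal)
    rw [VarDim.coheight_eq_ringKrullDim_quotient z]
    refine (ringKrullDim_le_of_surjective (Ideal.Quotient.factor hzle) (Ideal.Quotient.factor_surjective hzle)).trans ?_
    obtain ⟨h1, h2⟩ := hbelow z₀ hz₀
    rw [hdim z₀ hz₀]
    exact hn₁ _ h1 h2
  -- generators of the differentials of the quotient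
  obtain ⟨s, hs⟩ := exists_genAt p (M := Om)
  haveI := finite_completion k (A ⧸ a)
  let Om₁ := AdicCompletion (maximalIdeal (A ⧸ a)) (Ω[A ⧸ a⁄k])
  haveI : Module.Finite A Om₁ := Module.Finite.trans (A ⧸ a) Om₁
  let D₁ : Derivation k A Om₁ :=
    ((AdicCompletion.of (maximalIdeal (A ⧸ a)) (Ω[A ⧸ a⁄k])).compDer (KaehlerDifferential.D k (A ⧸ a))).compAlgebraMap A
  obtain ⟨φ, hφ⟩ := exists_lift k A D₁
  have hφs : Function.Surjective φ := by
    rw [← LinearMap.range_eq_top, eq_top_iff]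
    intro z hz
    clear hz
    have hz : z ∈ Submodule.span (A ⧸ a) (Set.range fun b => AdicCompletion.of (maximalIdeal (A ⧸ a)) (Ω[A ⧸ a⁄k])
      (KaehlerDifferential.D k (A ⧸ a) b)) := (span_d k (A ⧸ a)).symm ▸ Submodule.mem_top
    induction hz using Submodule.span_induction with
    | mem y hy =>
      obtain ⟨b, rfl⟩ := hy
      obtain ⟨b, rfl⟩ := Ideal.Quotient.mk_surjective b
      exact ⟨_, hφ b⟩
    | zero => exact zero_mem _
    | add y w _ _ hy hw => exact add_mem hy hw
    | smul c y _ hy =>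
      obtain ⟨c, rfl⟩ := Ideal.Quotient.mk_surjective c
      exact Submodule.smul_mem _ c hy
  let s₁ : Fin n → Om₁ := fun i =>
    if h : (i : ℕ) < Module.finrank p.ResidueField (p.ResidueField ⊗[A] Om) then φ (s ⟨i, h⟩) else 0
  have hs₁ : GenAt p₁ s₁ := by
    intro z
    obtain ⟨y, rfl⟩ := hφs z
    obtain ⟨c, hc, hy⟩ := hs y
    refine ⟨Ideal.Quotient.mk a c, fun h => hc (by rw [hp₁]; exact h), ?_⟩
    obtain ⟨w, hw⟩ := (Submodule.mem_span_range_iff_exists_fun A).1 hy
    show c • φ y ∈ _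
    rw [← map_smul, ← hw, map_sum]
    refine Submodule.sum_mem _ fun i _ => ?_
    rw [map_smul]
    show Ideal.Quotient.mk a (w i) • φ (s i) ∈ _
    refine Submodule.smul_mem _ _ (Submodule.subset_span ⟨⟨i, i.2.trans_le hle⟩, ?_⟩)
    exact dif_pos i.2
  have hp₁m : p₁ ≠ maximalIdeal (A ⧸ a) := fun h => hp (by
    rw [hp₁, h]
    exact maximalIdeal_comap (Ideal.Quotient.mk a))
  obtain ⟨i1, i2, hloc, hfin, hu⟩ := exists_unramified p₁ hp₁m
    ⟨q₁, hq₁min, Ideal.map_mono hqp, hq₁n.trans hA₁.symm⟩ s₁ hs₁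
  haveI := hu
  refine ⟨a, ha, hap, i1, i2, p₁, inferInstance, hp₁, hfin, fun i => ?_,
    etaleAt_of_unramifiedAt p₁ q₁ (Ideal.map_mono hqp) hq₁n⟩
  rw [map_maximalIdeal_of_surjective (Ideal.Quotient.mk a) Ideal.Quotient.mk_surjective, mem_maximalIdeal, mem_nonunits_iff]
  intro h
  have h' := hloc.map_nonunit _ h
  rw [MvPowerSeries.isUnit_iff_constantCoeff, MvPowerSeries.constantCoeff_X] at h'
  exact not_isUnit_zero h'

end Groth.Agent.CplKaehler4
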