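import Groth.Agent.CplKaehler4.CTensorUniv
import Groth.Agent.CplKaehler4.CTensorField
import Groth.Agent.CplKaehler4.Reduced
import Groth.Agent.PSLib.Regular

/-!
Regularity of the completed tensor product with a field over an étale point.
-/

set_option linter.style.haveILetI false

namespace Groth.Agent.CplKaehler4

open IsLocalRing TensorProduct

universe u

attribute [local instance] Algebra.TensorProduct.rightAlgebra

variable (k A K : Type u) [Field k] [CommRing A] [IsNoetherianRing A] [IsLocalRing A] [Algebra k A]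
  [Module.Finite k (ResidueField A)] [Field K] [Algebra k K] {n : ℕ}

theorem isRegularLocalRing_cTensor_of_etale (a p : Ideal A) [p.IsPrime]
    (ha : ∀ x ∈ a, algebraMap A (Localization.AtPrime p) x = 0) (hap : a ≤ p)
    [Algebra (MvPowerSeries (Fin n) k) (A ⧸ a)] [IsScalarTower k (MvPowerSeries (Fin n) k) (A ⧸ a)]
    [Module.Finite (MvPowerSeries (Fin n) k) (A ⧸ a)]
    (hX : ∀ i, algebraMap (MvPowerSeries (Fin n) k) (A ⧸ a) (MvPowerSeries.X i) ∈
          (maximalIdeal A).map (Ideal.Quotient.mk a))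
    (p₁ : Ideal (A ⧸ a)) [p₁.IsPrime] (hp₁ : p = p₁.comap (Ideal.Quotient.mk a))
    [Algebra.IsEtaleAt (MvPowerSeries (Fin n) k) p₁]
    (p' : Ideal (EGA4.CTensor k A K)) [p'.IsPrime]
    (hp' : p'.comap (algebraMap A (EGA4.CTensor k A K)) = p) :
    IsRegularLocalRing (Localization.AtPrime p') := by
  haveI := isAdicComplete_field K
  let R := EGA4.CTensor k A K
  haveI : IsNoetherianRing R := CplFib6.isNoetherianRing_cTensor
  let J : Ideal R := (maximalIdeal A).map (algebraMap A R)
  haveI : IsAdicComplete J R := isAdicComplete_cTensor k A K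
  let a' : Ideal R := a.map (algebraMap A R)
  let B := R ⧸ a'
  let mB : R →+* B := Ideal.Quotient.mk a'
  let JB : Ideal B := J.map mB
  haveI hB : IsAdicComplete JB B := by
    have h1 : IsAdicComplete J B := AdicLib.isAdicComplete_of_finite J B
    exact (IsAdicComplete.map_algebraMap_iff (S := B) J B).mpr h1
  let P := MvPowerSeries (Fin n) k
  let P' := MvPowerSeries (Fin n) K
  haveI : IsRegularLocalRing P := PSLib.isRegularLocalRing k n
  haveI : IsRegularLocalRing P' := PSLib.isRegularLocalRing K n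
  haveI : IsRegularRing P' := RegLoc6.isRegularRing_of_isRegularLocalRing P'
  haveI : Algebra.FinitePresentation P (A ⧸ a) := Algebra.FinitePresentation.of_finiteType.1 inferInstance
  let C := P' ⊗[P] (A ⧸ a)
  let iA : A →+* C := (Algebra.TensorProduct.includeRight : (A ⧸ a) →ₐ[P] C).toRingHom.comp (Ideal.Quotient.mk a)
  let iK : K →+* C := (algebraMap P' C).comp MvPowerSeries.C
  have hC : ∀ c : k, (algebraMap P P') (MvPowerSeries.C c) = MvPowerSeries.C (algebraMap k K c) := fun c => by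
    rw [MvPowerSeries.algebraMap_apply'']
    exact MvPowerSeries.map_C _ _
  have hPk : ∀ c : k, algebraMap P (A ⧸ a) (MvPowerSeries.C c) = Ideal.Quotient.mk a (algebraMap k A c) := fun c =>
    (IsScalarTower.algebraMap_apply k P (A ⧸ a) c).symm.trans (Ideal.Quotient.algebraMap_eq a ▸ IsScalarTower.algebraMap_apply k A (A ⧸ a) c)
  obtain ⟨Θ₀, hΘA, hΘK⟩ := exists_tensor_hom (P := k) iA iK (RingHom.ext fun c => by
    show (1 : P') ⊗ₜ[P] Ideal.Quotient.mk a (algebraMap k A c) = MvPowerSeries.C (algebraMap k K c) ⊗ₜ[P] (1 : A ⧸ a)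
    rw [← hPk, ← hC, Algebra.algebraMap_eq_smul_one, Algebra.algebraMap_eq_smul_one, TensorProduct.smul_tmul])
  -- completeness of the finite algebra
  let JC : Ideal C := (maximalIdeal A).map iA
  haveI : IsNoetherianRing C := IsNoetherianRing.of_finite P' C
  have hvC : IsAdicComplete ((PSLib.vars n K).map (algebraMap P' C)) C := by
    have h1 : IsAdicComplete (PSLib.vars n K) C := AdicLib.isAdicComplete_of_finite _ C
    exact (IsAdicComplete.map_algebraMap_iff (S := C) (PSLib.vars n K) C).mpr h1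
  have hXC : ∀ i, algebraMap P' C (MvPowerSeries.X i) =
      (Algebra.TensorProduct.includeRight : (A ⧸ a) →ₐ[P] C) (algebraMap P (A ⧸ a) (MvPowerSeries.X i)) := fun i => by
    rw [AlgHom.commutes, IsScalarTower.algebraMap_apply P P' C, MvPowerSeries.algebraMap_apply'', MvPowerSeries.map_X]
  have hXJ : ∀ i, algebraMap P' C (MvPowerSeries.X i) ∈ JC := fun i => by
    have h := Ideal.mem_map_of_mem (Algebra.TensorProduct.includeRight : (A ⧸ a) →ₐ[P] C).toRingHom (hX i)
    rw [Ideal.map_map] at h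
    rw [hXC]
    exact h
  have hle1 : (PSLib.vars n K).map (algebraMap P' C) ≤ JC := by
    rw [PSLib.vars, Ideal.map_span, Ideal.span_le]
    rintro _ ⟨_, ⟨i, rfl⟩, rfl⟩
    exact hXJ i
  obtain ⟨N, hN⟩ : ∃ N : ℕ, 0 < N ∧ JC ^ N ≤ (PSLib.vars n K).map (algebraMap P' C) := by
    let V : Ideal (A ⧸ a) := (PSLib.vars n k).map (algebraMap P (A ⧸ a))
    haveI : Nontrivial (A ⧸ a) := Ideal.Quotient.nontrivial_iff.2 (ne_top_of_le_ne_top (Ideal.IsPrime.ne_top ‹_›) hap)
    haveI : IsLocalRing (A ⧸ a) := .of_surjective' (Ideal.Quotient.mk a) Ideal.Quotient.mk_surjective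
    have hm : (maximalIdeal A).map (Ideal.Quotient.mk a) = maximalIdeal (A ⧸ a) :=
      map_maximalIdeal_of_surjective _ Ideal.Quotient.mk_surjective
    have hV : V ≤ maximalIdeal (A ⧸ a) := by
      show (PSLib.vars n k).map _ ≤ _
      rw [PSLib.vars, Ideal.map_span, Ideal.span_le]
      rintro _ ⟨_, ⟨i, rfl⟩, rfl⟩
      exact hm ▸ hX i
    haveI : Nontrivial ((A ⧸ a) ⧸ V) :=
      Ideal.Quotient.nontrivial_iff.2 (ne_top_of_le_ne_top (maximalIdeal.isMaximal _).ne_top hV)
    haveI : IsLocalRing ((A ⧸ a) ⧸ V) := .of_surjective' (Ideal.Quotient.mk V) Ideal.Quotient.mk_surjective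
    haveI : IsArtinianRing (P ⧸ PSLib.vars n k) := by
      rw [← PSLib.maximalIdeal_eq_vars]
      exact inferInstanceAs (IsArtinianRing (ResidueField P))
    haveI : IsArtinianRing ((A ⧸ a) ⧸ V) := IsArtinianRing.of_finite (P ⧸ PSLib.vars n k) _
    obtain ⟨N, hN⟩ := (isArtinianRing_iff_isNilpotent_maximalIdeal ((A ⧸ a) ⧸ V)).1 ‹_›
    refine ⟨N + 1, N.succ_pos, ?_⟩
    have h1 : maximalIdeal (A ⧸ a) ^ (N + 1) ≤ V := by
      refine (Ideal.pow_le_pow_right N.le_succ).trans ?_
      rw [← Ideal.mk_ker (I := V), ← Ideal.map_eq_bot_iff_le_ker, Ideal.map_pow,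
        map_maximalIdeal_of_surjective (Ideal.Quotient.mk V) Ideal.Quotient.mk_surjective, hN, Ideal.zero_eq_bot]
    have h2 := Ideal.map_mono (f := (Algebra.TensorProduct.includeRight : (A ⧸ a) →ₐ[P] C).toRingHom) h1
    rw [← hm, Ideal.map_pow, Ideal.map_map] at h2
    refine h2.trans ?_
    show ((PSLib.vars n k).map (algebraMap P (A ⧸ a))).map _ ≤ _
    rw [Ideal.map_map, Ideal.map_le_iff_le_comap, PSLib.vars, Ideal.span_le]
    rintro _ ⟨i, rfl⟩
    refine Ideal.mem_comap.2 ?_
    show (Algebra.TensorProduct.includeRight : (A ⧸ a) →ₐ[P] C) (algebraMap P (A ⧸ a) (MvPowerSeries.X i)) ∈ _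
    rw [← hXC]
    exact Ideal.mem_map_of_mem _ (Ideal.subset_span ⟨i, rfl⟩)
  haveI : IsAdicComplete JC C := (AdicLib.iff_of_pow_le (I := (PSLib.vars n K).map (algebraMap P' C)) (J := JC)
    one_pos hN.1 (by rw [pow_one]; exact hle1) hN.2).1 hvC
  -- the two maps
  have hI : (EGA4.cTensorIdeal k A K).map Θ₀ = JC := by
    refine (congrArg (Ideal.map Θ₀) (cTensorIdeal_field k A K)).trans ?_
    rw [Ideal.map_map]
    exact congrArg (fun f => (maximalIdeal A).map f) (RingHom.ext hΘA)
  obtain ⟨Θ, hΘ⟩ := exists_completion_lift _ JC Θ₀ hI.le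
  have hΘalg : ∀ x, Θ (algebraMap (A ⊗[k] K) R x) = Θ₀ x := RingHom.congr_fun hΘ
  have hΘA' : ∀ x, Θ (algebraMap A R x) = iA x := fun x => by
    rw [IsScalarTower.algebraMap_apply A (A ⊗[k] K) R, hΘalg]
    exact hΘA x
  have hΘa : ∀ x ∈ a', Θ x = 0 := fun x hx => by
    have h : a' ≤ RingHom.ker Θ := Ideal.map_le_iff_le_comap.2 fun y hy => by
      rw [Ideal.mem_comap, RingHom.mem_ker, hΘA']
      show (1 : P') ⊗ₜ[P] Ideal.Quotient.mk a y = 0
      rw [Ideal.Quotient.eq_zero_iff_mem.2 hy, tmul_zero]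
    exact h hx
  let Θb : B →+* C := Ideal.Quotient.lift a' Θ hΘa
  let g : A ⧸ a →+* B := Ideal.quotientMap a' (algebraMap A R) Ideal.le_comap_map
  have hg : g.comp (Ideal.Quotient.mk a) = mB.comp (algebraMap A R) := RingHom.ext fun _ => rfl
  have hgJ : ((maximalIdeal A).map (Ideal.Quotient.mk a)).map g = JB := by
    rw [Ideal.map_map, hg, ← Ideal.map_map]
  let gK : K →+* B := mB.comp (algebraMap K R)
  letI : Algebra K B := gK.toAlgebra
  obtain ⟨ψ, hψ⟩ := PSLib.exists_algHom (R := K) JB (fun i => g (algebraMap P (A ⧸ a) (MvPowerSeries.X i)))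
    (fun i => hgJ ▸ Ideal.mem_map_of_mem g (hX i))
  have hψC : ∀ c : K, ψ (MvPowerSeries.C c) = mB (algebraMap K R c) := fun c => ψ.commutes c
  have hψP : ψ.toRingHom.comp (algebraMap P P') = g.comp (algebraMap P (A ⧸ a)) := by
    refine ps_hom_ext JB _ _ (RingHom.ext fun c => ?_) (fun i => ?_) (fun i => ?_)
    · show ψ (algebraMap P P' (MvPowerSeries.C c)) = g (algebraMap P (A ⧸ a) (MvPowerSeries.C c))
      rw [hC, hψC, hPk]
      show mB (algebraMap K R (algebraMap k K c)) = mB (algebraMap A R (algebraMap k A c))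
      rw [IsScalarTower.algebraMap_apply A (A ⊗[k] K) R, IsScalarTower.algebraMap_apply K (A ⊗[k] K) R]
      exact congrArg (fun z => mB (algebraMap (A ⊗[k] K) R z))
        (((Algebra.TensorProduct.includeRight : K →ₐ[k] A ⊗[k] K).commutes c).trans
          ((Algebra.TensorProduct.includeLeft : A →ₐ[k] A ⊗[k] K).commutes c).symm)
    · show ψ (algebraMap P P' (MvPowerSeries.X i)) = g (algebraMap P (A ⧸ a) (MvPowerSeries.X i))
      rw [MvPowerSeries.algebraMap_apply'', MvPowerSeries.map_X, hψ]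
    · show ψ (algebraMap P P' (MvPowerSeries.X i)) ∈ JB
      rw [MvPowerSeries.algebraMap_apply'', MvPowerSeries.map_X, hψ]
      exact hgJ ▸ Ideal.mem_map_of_mem g (hX i)
  obtain ⟨Ψ, hΨP, hΨA⟩ := exists_tensor_hom (P := P) ψ.toRingHom g hψP
  have hΨiA : ∀ x, Ψ (iA x) = mB (algebraMap A R x) := fun x => (hΨA _).trans rfl
  -- they are inverse
  have h1 : Θb.comp Ψ = RingHom.id C := by
    have hP' : Θb.comp ψ.toRingHom = algebraMap P' C := by
      have hXi : ∀ i, Θb.comp ψ.toRingHom (MvPowerSeries.X i) = algebraMap P' C (MvPowerSeries.X i) := fun i => by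
        show Θb (ψ (MvPowerSeries.X i)) = _
        rw [hψ, hXC]
        obtain ⟨x, hx⟩ := Ideal.Quotient.mk_surjective (algebraMap P (A ⧸ a) (MvPowerSeries.X i))
        rw [← hx]
        exact hΘA' x
      refine ps_hom_ext JC _ _ (RingHom.ext fun c => ?_) hXi (fun i => hXi i ▸ hXJ i)
      show Θb (ψ (MvPowerSeries.C c)) = _
      rw [hψC]
      show Θ (algebraMap K R c) = _
      rw [IsScalarTower.algebraMap_apply K (A ⊗[k] K) R, hΘalg]
      exact hΘK c
    refine RingHom.ext fun z => ?_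
    induction z using TensorProduct.induction_on with
    | zero => rw [map_zero, map_zero]
    | add x y hx hy => rw [map_add, map_add, hx, hy]
    | tmul x y =>
      obtain ⟨y, rfl⟩ := Ideal.Quotient.mk_surjective y
      have e : x ⊗ₜ[P] Ideal.Quotient.mk a y = (x ⊗ₜ[P] (1 : A ⧸ a)) * iA y := by
        show _ = (x ⊗ₜ[P] (1 : A ⧸ a)) * ((1 : P') ⊗ₜ[P] Ideal.Quotient.mk a y)
        rw [Algebra.TensorProduct.tmul_mul_tmul, mul_one, one_mul]
      rw [RingHom.id_apply, e, RingHom.comp_apply, map_mul, map_mul, hΨP, hΨiA]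
      congr 1
      · exact RingHom.congr_fun hP' x
      · exact hΘA' y
  have h2 : Ψ.comp Θb = RingHom.id B := by
    have h0 : (Ψ.comp Θ).comp (algebraMap (A ⊗[k] K) R) = mB.comp (algebraMap (A ⊗[k] K) R) := by
      refine RingHom.ext fun z => ?_
      induction z using TensorProduct.induction_on with
      | zero => rw [map_zero, map_zero]
      | add x y hx hy => rw [map_add, map_add, hx, hy]
      | tmul x y =>
        have e : x ⊗ₜ[k] y = (x ⊗ₜ[k] (1 : K)) * ((1 : A) ⊗ₜ[k] y) := by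
          rw [Algebra.TensorProduct.tmul_mul_tmul, mul_one, one_mul]
        show Ψ (Θ (algebraMap (A ⊗[k] K) R (x ⊗ₜ[k] y))) = mB (algebraMap (A ⊗[k] K) R (x ⊗ₜ[k] y))
        rw [hΘalg, e, map_mul, map_mul, hΘA, hΘK, hΨiA, map_mul, map_mul]
        congr 1
        exact (hΨP _).trans (hψC y)
    have h : Ψ.comp Θ = mB := by
      refine completion_hom_ext _ CplFib6.fg_cTensorIdeal JB _ _ h0 ?_
      rw [h0]
      refine le_of_eq ((congrArg (Ideal.map _) (cTensorIdeal_field k A K)).trans ?_)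
      show ((maximalIdeal A).map (algebraMap A (A ⊗[k] K))).map (mB.comp (algebraMap (A ⊗[k] K) R)) =
        ((maximalIdeal A).map (algebraMap A R)).map mB
      rw [Ideal.map_map, Ideal.map_map, RingHom.comp_assoc, ← IsScalarTower.algebraMap_eq]
    exact Ideal.Quotient.ringHom_ext ((RingHom.comp_assoc _ _ _).trans h)
  let e : C ≃+* B := RingEquiv.ofRingHom Ψ Θb h2 h1
  -- transport to the localization
  have ha' : ∀ x ∈ a', algebraMap R (Localization.AtPrime p') x = 0 := fun x hx => by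
    have h : a' ≤ RingHom.ker (algebraMap R (Localization.AtPrime p')) := Ideal.map_le_iff_le_comap.2 fun y hy => by
      rw [Ideal.mem_comap, RingHom.mem_ker, ← Localization.localRingHom_to_map p p' (algebraMap A R) hp'.symm,
        ha y hy, map_zero]
    exact h hx
  have hle : a' ≤ p' := Ideal.map_le_iff_le_comap.2 (hp'.symm ▸ hap)
  let pb : Ideal B := p'.map mB
  haveI : pb.IsPrime := Ideal.map_isPrime_of_surjective Ideal.Quotient.mk_surjective (by rwa [Ideal.mk_ker])
  have hpb : p' = pb.comap mB := by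
    rw [Ideal.comap_map_of_surjective _ Ideal.Quotient.mk_surjective, ← RingHom.ker_eq_comap_bot, Ideal.mk_ker,
      sup_eq_left.2 hle]
  let Q : Ideal C := pb.comap e.toRingHom
  haveI : Q.IsPrime := Ideal.IsPrime.comap _
  haveI : IsRegularLocalRing (Localization.AtPrime Q) := by
    refine isRegularLocalRing_baseChange (P := P) (R := P') p₁ Q ?_
    ext y
    obtain ⟨y, rfl⟩ := Ideal.Quotient.mk_surjective y
    rw [Ideal.mem_comap, Ideal.mem_comap]
    show Ψ (iA y) ∈ pb ↔ _
    rw [hΨiA, ← Ideal.mem_comap, ← Ideal.mem_comap, ← hpb, hp', hp₁, Ideal.mem_comap]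
  haveI : IsRegularLocalRing (Localization.AtPrime pb) :=
    IsRegularLocalRing.of_ringEquiv (R := Localization.AtPrime Q) (Localization.localRingEquiv Q pb e rfl)
  exact IsRegularLocalRing.of_ringEquiv (R := Localization.AtPrime pb)
    (RingEquiv.ofBijective _ (bijective_localRingHom_quot a' p' pb hpb ha')).symm

end Groth.Agent.CplKaehler4
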