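import Groth.Agent.CplKaehler4.CTensorReg
import Groth.Agent.CplKaehler4.CTensorDesc

/-!
Regularity of the completed base change against freeness of the completed differentials.
-/

set_option linter.style.haveILetI false

namespace Groth.Agent.CplKaehler4

open IsLocalRing TensorProduct

universe u

attribute [local instance] Algebra.TensorProduct.rightAlgebra

variable (k A K : Type u) [Field k] [CommRing A] [IsNoetherianRing A] [IsLocalRing A] [Algebra k A]
  [IsAdicComplete (maximalIdeal A) A] [Module.Finite k (ResidueField A)] [Field K] [Algebra k K]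
  (p : Ideal A) [p.IsPrime] (n : ℕ)

local notation "Om" => AdicCompletion (maximalIdeal A) (Ω[A⁄k])

omit [IsAdicComplete (maximalIdeal A) A] in
theorem exists_prime_over : ∃ (p' : Ideal (EGA4.CTensor k A K)) (_ : p'.IsPrime),
    p'.comap (algebraMap A (EGA4.CTensor k A K)) = p := by
  haveI := isAdicComplete_field K
  haveI : Nontrivial (EGA4.CTensor k A K) := by
    obtain ⟨e, -⟩ := CplFib6.exists_quot_equiv (k := k) (A := A) (B := K) 1
    obtain ⟨e', -⟩ := CplFib6.trunc_equiv (k := k) (A := A) (B := K) 1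
    haveI : Nontrivial (A ⧸ maximalIdeal A ^ 1) :=
      Ideal.Quotient.nontrivial_iff.2 (by rw [pow_one]; exact (maximalIdeal.isMaximal A).ne_top)
    haveI : Nontrivial ((A ⧸ maximalIdeal A ^ 1) ⊗[k] K) :=
      Function.Injective.nontrivial (f := fun x => x ⊗ₜ[k] (1 : K))
        (Algebra.TensorProduct.includeLeft_injective (S := k) (FaithfulSMul.algebraMap_injective k K))
    haveI := e'.symm.injective.nontrivial
    haveI := e.injective.nontrivial
    exact (Ideal.Quotient.mk_surjective (I := (maximalIdeal A ^ 1).map (algebraMap A (EGA4.CTensor k A K)))).nontrivial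
  obtain ⟨M, hM⟩ := Ideal.exists_maximal (EGA4.CTensor k A K)
  obtain ⟨-, hff, -⟩ := atPrime_props k A K M
  haveI := hff
  obtain ⟨P, hP⟩ := PrimeSpectrum.comap_surjective_of_faithfullyFlat (B := Localization.AtPrime M) ⟨p, ‹_›⟩
  refine ⟨P.asIdeal.comap (algebraMap (EGA4.CTensor k A K) (Localization.AtPrime M)), inferInstance, ?_⟩
  rw [Ideal.comap_comap, ← IsScalarTower.algebraMap_eq]
  exact congrArg PrimeSpectrum.asIdeal hP

variable {k A}

theorem finrank_fibre_le_of_free (h : Module.Free (Localization.AtPrime p) (LocalizedModule p.primeCompl Om) ∧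
      Module.finrank (Localization.AtPrime p) (LocalizedModule p.primeCompl Om) = n) :
    Module.finrank p.ResidueField (p.ResidueField ⊗[A] Om) ≤ n := by
  haveI := finite_completion k A
  haveI := h.1
  let b := Module.finBasisOfFinrankEq (Localization.AtPrime p) (LocalizedModule p.primeCompl Om) h.2
  obtain ⟨s, hs⟩ := exists_genAt_of_localized p (M := Om) ⟨b, b.span_eq⟩
  exact finrank_fibre_le p hs

variable (hp : p ≠ maximalIdeal A)
    (hn₁ : ∀ q ∈ minimalPrimes A, q ≤ p → ringKrullDim (A ⧸ q) ≤ n)
    (hn₂ : ∃ q ∈ minimalPrimes A, q ≤ p ∧ ringKrullDim (A ⧸ q) = n)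

include hp hn₁ hn₂ in
theorem regular_of_free (h : Module.Free (Localization.AtPrime p) (LocalizedModule p.primeCompl Om) ∧
      Module.finrank (Localization.AtPrime p) (LocalizedModule p.primeCompl Om) = n)
    (J : Ideal (A ⊗[k] K)) (hJ : J = EGA4.cTensorIdeal k A K)
    (p' : Ideal (AdicCompletion J (A ⊗[k] K))) [p'.IsPrime]
    (hp' : p'.comap ((algebraMap (A ⊗[k] K) _).comp (algebraMap A (A ⊗[k] K))) = p) :
    IsRegularLocalRing (Localization.AtPrime p') := by
  subst hJ
  rw [← IsScalarTower.algebraMap_eq] at hp'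
  obtain ⟨a, ha, hap, i1, i2, p₁, i3, hp₁, hfin, hX, het⟩ :=
    exists_etale_reduced k A p hp n hn₁ hn₂ (finrank_fibre_le_of_free p n h)
  letI := i1
  haveI := i2
  haveI := i3
  haveI := hfin
  haveI := het
  exact isRegularLocalRing_cTensor_of_etale k A K a p ha hap hX p₁ hp₁ p' hp'

include hn₁ hn₂ in
theorem free_of_regular [PerfectField K] (J : Ideal (A ⊗[k] K)) (hJ : J = EGA4.cTensorIdeal k A K)
    (p' : Ideal (AdicCompletion J (A ⊗[k] K))) [p'.IsPrime]
    (hp' : p'.comap ((algebraMap (A ⊗[k] K) _).comp (algebraMap A (A ⊗[k] K))) = p)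
    (hreg : IsRegularLocalRing (Localization.AtPrime p')) :
    Module.Free (Localization.AtPrime p) (LocalizedModule p.primeCompl Om) ∧
      Module.finrank (Localization.AtPrime p) (LocalizedModule p.primeCompl Om) = n := by
  subst hJ
  rw [← IsScalarTower.algebraMap_eq] at hp'
  obtain ⟨hr, hle⟩ := finrank_fibre_le_of_regular k A K p n hn₁ p' hp' hreg
  haveI := hr
  haveI := RegLoc6.isDomain_of_isRegularLocalRing (Localization.AtPrime p)
  obtain ⟨q, hq, hqp, hqn⟩ := hn₂
  exact free_of_finrank_le k A p hq hqp hqn hle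

include hp hn₁ hn₂ in
theorem geomRegular_of_free (h : Module.Free (Localization.AtPrime p) (LocalizedModule p.primeCompl Om) ∧
      Module.finrank (Localization.AtPrime p) (LocalizedModule p.primeCompl Om) = n) :
    CAlg.IsGeometricallyRegular k (Localization.AtPrime p) := by
  obtain ⟨a, ha, hap, i1, i2, p₁, i3, hp₁, hfin, hX, het⟩ :=
    exists_etale_reduced k A p hp n hn₁ hn₂ (finrank_fibre_le_of_free p n h)
  letI := i1
  haveI := i2
  haveI := i3
  haveI := hfin
  haveI := het
  have hg := geomRegular_of_etaleAt (k := k) (n := n) p₁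
  let e : Localization.AtPrime p ≃ₐ[k] Localization.AtPrime p₁ :=
    AlgEquiv.ofRingEquiv (f := RingEquiv.ofBijective _ (bijective_localRingHom_quot a p p₁ hp₁ ha)) fun c => by
      show Localization.localRingHom p p₁ (Ideal.Quotient.mk a) hp₁ (algebraMap k _ c) = _
      rw [IsScalarTower.algebraMap_apply k A (Localization.AtPrime p), Localization.localRingHom_to_map,
        IsScalarTower.algebraMap_apply k (A ⧸ a) (Localization.AtPrime p₁)]
      rfl
  intro k' _ _ hfin'
  haveI := hg k' hfin'
  exact IsRegularRing.of_ringEquiv (R := k' ⊗[k] Localization.AtPrime p₁)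
    (Algebra.TensorProduct.congr (AlgEquiv.refl : k' ≃ₐ[k] k') e.symm).toRingEquiv

end Groth.Agent.CplKaehler4
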