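import Groth.Agent.CplKaehler4.Basic

/-!
The completed module of differentials of a complete Noetherian local algebra over a field.
-/

namespace Groth.Agent.CplKaehler4

open IsLocalRing

universe u

variable (k A : Type u) [CommRing k] [CommRing A] [IsLocalRing A] [IsNoetherianRing A] [Algebra k A]
  [IsAdicComplete (maximalIdeal A) A] [Module.Finite (ResidueField A) (Ω[ResidueField A⁄k])]

omit [IsAdicComplete (maximalIdeal A) A] in
theorem finite_quot : Module.Finite A ((Ω[A⁄k]) ⧸ (maximalIdeal A • ⊤ : Submodule A (Ω[A⁄k]))) := by
  have : Module.Finite (A ⧸ maximalIdeal A) (Ω[A ⧸ maximalIdeal A⁄k]) :=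
    (inferInstance : Module.Finite (ResidueField A) (Ω[ResidueField A⁄k]))
  have : Module.Finite A (maximalIdeal A).Cotangent :=
    Module.Finite.of_surjective (maximalIdeal A).toCotangent (Ideal.toCotangent_surjective _)
  have : Module.Finite (A ⧸ maximalIdeal A) (maximalIdeal A).Cotangent :=
    Module.Finite.of_restrictScalars_finite A (A ⧸ maximalIdeal A) (maximalIdeal A).Cotangent
  exact finite_quot_kaehler (A := k) (maximalIdeal A)

theorem finite_completion : Module.Finite A (AdicCompletion (maximalIdeal A) (Ω[A⁄k])) :=
  have := finite_quot k A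
  finite _

theorem of_surj : Function.Surjective (AdicCompletion.of (maximalIdeal A) (Ω[A⁄k])) :=
  have := finite_quot k A
  of_surjective _

theorem span_d : Submodule.span A (Set.range fun a : A =>
    AdicCompletion.of (maximalIdeal A) (Ω[A⁄k]) (KaehlerDifferential.D k A a)) = ⊤ := by
  rw [show (fun a : A => AdicCompletion.of (maximalIdeal A) (Ω[A⁄k]) (KaehlerDifferential.D k A a)) =
    AdicCompletion.of (maximalIdeal A) (Ω[A⁄k]) ∘ KaehlerDifferential.D k A from rfl, Set.range_comp,
    ← Submodule.map_span, KaehlerDifferential.span_range_derivation, Submodule.map_top,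
    LinearMap.range_eq_top]
  exact of_surj k A

omit [Module.Finite (ResidueField A) (Ω[ResidueField A⁄k])] in
/-- Derivations into finite modules factor through the completed differentials. -/
theorem exists_lift {N : Type*} [AddCommGroup N] [Module A N] [Module k N] [IsScalarTower k A N]
    [Module.Finite A N] (D : Derivation k A N) :
    ∃ φ : AdicCompletion (maximalIdeal A) (Ω[A⁄k]) →ₗ[A] N,
      ∀ a, φ (AdicCompletion.of (maximalIdeal A) (Ω[A⁄k]) (KaehlerDifferential.D k A a)) = D a := by
  have := AdicLib.isAdicComplete_of_finite (maximalIdeal A) N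
  exact ⟨lift _ D.liftKaehlerDifferential,
    fun a => (lift_of _ _ _).trans (D.liftKaehlerDifferential_comp_D a)⟩

end Groth.Agent.CplKaehler4
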