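import Mathlib.FieldTheory.IsPerfectClosure
import Mathlib.RingTheory.Noetherian.OfPrime
import Mathlib.RingTheory.Artinian.Ring
import Mathlib.RingTheory.HopkinsLevitzki
import Groth.Agent.GeomField.Algebra

/-!
Tensor products with radicial extensions: when they are artinian.
-/

set_option linter.style.haveILetI false

namespace Groth.Agent.CplKaehler4

open TensorProduct

universe u

/-- In the tensor product with a radicial extension every element is a unit or nilpotent. -/
theorem isUnit_or_isNilpotent (k K P : Type u) (p : ℕ) [Fact p.Prime] [Field k] [CharP k p] [Field K] [Algebra k K]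
    [Field P] [Algebra k P] [IsPRadical (algebraMap k P) p] (x : K ⊗[k] P) :
    IsUnit x ∨ IsNilpotent x := by
  haveI : CharP (K ⊗[k] P) p := by
    haveI : CharP K p := charP_of_injective_algebraMap (algebraMap k K).injective p
    exact charP_of_injective_algebraMap (R := K) (A := K ⊗[k] P)
      (Algebra.TensorProduct.includeLeft_injective (S := K) (algebraMap k P).injective) p
  haveI : ExpChar (K ⊗[k] P) p := ExpChar.prime (Fact.out : p.Prime)
  have key : ∀ z : K ⊗[k] P, ∃ (m : ℕ) (y : K), z ^ p ^ m = algebraMap K (K ⊗[k] P) y := by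
    intro z
    induction z using TensorProduct.induction_on with
    | zero => exact ⟨0, 0, by simp⟩
    | tmul a c =>
      obtain ⟨m, b, hb⟩ := IsPRadical.pow_mem (algebraMap k P) p c
      refine ⟨m, b • a ^ p ^ m, ?_⟩
      rw [Algebra.TensorProduct.tmul_pow, ← hb, Algebra.algebraMap_eq_smul_one, ← TensorProduct.smul_tmul]
      rfl
    | add z w hz hw =>
      obtain ⟨m₁, y₁, h₁⟩ := hz
      obtain ⟨m₂, y₂, h₂⟩ := hw
      refine ⟨m₁ + m₂, y₁ ^ p ^ m₂ + y₂ ^ p ^ m₁, ?_⟩
      rw [add_pow_expChar_pow, map_add, map_pow, map_pow, ← h₁, ← h₂, ← pow_mul, ← pow_mul, ← pow_add, ← pow_add,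
        add_comm m₂ m₁]
  obtain ⟨m, y, hy⟩ := key x
  rcases eq_or_ne y 0 with rfl | hy0
  · exact Or.inr ⟨p ^ m, by rw [hy, map_zero]⟩
  · refine Or.inl ((isUnit_pow_iff (pow_ne_zero m (Fact.out : p.Prime).ne_zero)).1 ?_)
    rw [hy]
    exact (Ne.isUnit hy0).map _

/-- A ring with units and nilpotents only: proper ideals are made of nilpotents. -/
theorem le_nilradical {R : Type u} [CommRing R] (h : ∀ x : R, IsUnit x ∨ IsNilpotent x) {I : Ideal R}
    (hI : I ≠ ⊤) : I ≤ nilradical R :=
  fun x hx => (h x).resolve_left fun hu => hI (Ideal.eq_top_of_isUnit_mem _ hx hu)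

theorem isArtinianRing_of_fg {R : Type u} [CommRing R] (h : ∀ x : R, IsUnit x ∨ IsNilpotent x)
    (hN : (nilradical R).FG) : IsArtinianRing R := by
  have hp : ∀ I : Ideal R, I.IsPrime → I = nilradical R := fun I hI =>
    le_antisymm (le_nilradical h hI.ne_top) (nilradical_le_prime I)
  haveI : IsNoetherianRing R := IsNoetherianRing.of_prime fun I hI => hp I hI ▸ hN
  haveI : Ring.KrullDimLE 0 R := Ring.krullDimLE_zero_iff.2 fun I hI => by
    obtain ⟨M, hM, hIM⟩ := Ideal.exists_le_maximal I hI.ne_top
    rw [hp I hI, ← hp M hM.isPrime]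
    exact hM
  exact isArtinianRing_iff_isNoetherianRing_krullDimLE_zero.2 ⟨inferInstance, inferInstance⟩

section

variable (k K P k' : Type u) [Field k] [Field K] [Algebra k K] [Field P] [Algebra k P]
  [Field k'] [Algebra k k'] [Algebra k' P] [IsScalarTower k k' P]

/-- The base change of the finite level to the radicial extension. -/
noncomputable def levelEquiv : P ⊗[k'] (k' ⊗[k] K) ≃+* K ⊗[k] P :=
  (Algebra.TensorProduct.cancelBaseChange k k' k' P K).toRingEquiv.trans
    (Algebra.TensorProduct.comm k P K).toRingEquiv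

theorem levelEquiv_apply (c : k') (a : K) :
    levelEquiv k K P k' (1 ⊗ₜ (c ⊗ₜ a)) = a ⊗ₜ algebraMap k' P c := by
  simp only [levelEquiv, RingEquiv.trans_apply]
  show (Algebra.TensorProduct.comm k P K) ((Algebra.TensorProduct.cancelBaseChange k k' k' P K) (1 ⊗ₜ (c ⊗ₜ a))) = _
  rw [Algebra.TensorProduct.cancelBaseChange_tmul, Algebra.TensorProduct.comm_tmul, ← Algebra.algebraMap_eq_smul_one]

/-- Reducing the finite level and then extending. -/
noncomputable def levelRed : P ⊗[k'] (k' ⊗[k] K) →ₐ[k'] P ⊗[k'] ((k' ⊗[k] K) ⧸ nilradical (k' ⊗[k] K)) :=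
  Algebra.TensorProduct.map (AlgHom.id k' P) (Ideal.Quotient.mkₐ k' (nilradical (k' ⊗[k] K)))

theorem levelRed_surjective : Function.Surjective (levelRed k K P k') :=
  TensorProduct.map_surjective Function.surjective_id Ideal.Quotient.mk_surjective

theorem ker_levelRed : RingHom.ker (levelRed k K P k') =
    (nilradical (k' ⊗[k] K)).map (Algebra.TensorProduct.includeRight : k' ⊗[k] K →ₐ[k'] P ⊗[k'] (k' ⊗[k] K)) := by
  rw [levelRed, Algebra.TensorProduct.lTensor_ker _ (Ideal.Quotient.mkₐ_surjective k' _),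
    show RingHom.ker (Ideal.Quotient.mkₐ k' (nilradical (k' ⊗[k] K))) = nilradical (k' ⊗[k] K) from Ideal.mk_ker]

end

variable (p : ℕ) [Fact p.Prime] (k K : Type u) [Field k] [CharP k p] [Field K] [Algebra k K]
  (P : Type u) [Field P] [Algebra k P] [IsPRadical (algebraMap k P) p]

include p in

theorem isUnit_or_isNilpotent_level (k' : Type u) [Field k'] [Algebra k k'] [Algebra k' P] [IsScalarTower k k' P]
    (x : P ⊗[k'] (k' ⊗[k] K)) : IsUnit x ∨ IsNilpotent x := by
  rcases isUnit_or_isNilpotent k K P p (levelEquiv k K P k' x) with h | h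
  · refine Or.inl ?_
    have := h.map (levelEquiv k K P k').symm
    rwa [RingEquiv.symm_apply_apply] at this
  · exact Or.inr (by simpa using h.map (levelEquiv k K P k').symm)

variable [ExpChar P p] [PerfectRing P p]

include p in
/-- Geometrically reduced reduction at a finite level makes the tensor product artinian. -/
theorem isArtinianRing_of_level (k' : Type u) [Field k'] [Algebra k k'] [Module.Finite k k']
    [IsPurelyInseparable k k']
    [Algebra.IsGeometricallyReduced k' ((k' ⊗[k] K) ⧸ nilradical (k' ⊗[k] K))] :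
    IsArtinianRing (K ⊗[k] P) := by
  haveI : ExpChar k p := ExpChar.prime (Fact.out : p.Prime)
  haveI : CharP k' p := charP_of_injective_algebraMap (algebraMap k k').injective p
  haveI : ExpChar k' p := ExpChar.prime (Fact.out : p.Prime)
  haveI : IsPRadical (algebraMap k k') p := IsPurelyInseparable.isPRadical k k' p
  letI : Algebra k' P := (PerfectRing.lift (algebraMap k k') (algebraMap k P) p).toAlgebra
  haveI : IsScalarTower k k' P := IsScalarTower.of_algebraMap_eq fun c =>
    (PerfectRing.lift_comp_apply (algebraMap k k') (algebraMap k P) p c).symm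
  haveI : IsNoetherianRing (k' ⊗[k] K) := by
    haveI : IsNoetherianRing (K ⊗[k] k') := IsNoetherianRing.of_finite K _
    exact isNoetherianRing_of_ringEquiv _ (Algebra.TensorProduct.comm k K k').toRingEquiv
  haveI : IsReduced (P ⊗[k'] ((k' ⊗[k] K) ⧸ nilradical (k' ⊗[k] K))) := FBaseLib.isReduced_field_tensor _ _
  have hu := isUnit_or_isNilpotent_level p k K P k'
  have hker : RingHom.ker (levelRed k K P k') = nilradical (P ⊗[k'] (k' ⊗[k] K)) := by
    refine le_antisymm ?_ fun x hx => (RingHom.mem_ker).2 (IsNilpotent.map (mem_nilradical.1 hx) (levelRed k K P k')).eq_zero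
    rw [ker_levelRed, Ideal.map_le_iff_le_comap]
    exact fun x hx => IsNilpotent.map hx _
  haveI : IsArtinianRing (P ⊗[k'] (k' ⊗[k] K)) := by
    refine isArtinianRing_of_fg hu ?_
    rw [← hker, ker_levelRed]
    exact Ideal.FG.map (IsNoetherian.noetherian _) _
  exact (levelEquiv k K P k').surjective.isArtinianRing (f := (levelEquiv k K P k').toRingHom)

include p in
theorem isGeometricallyReduced_level (k' : Type u) [Field k'] [Algebra k k'] [Algebra.IsAlgebraic k k']
    [Algebra k' P] [IsScalarTower k k' P] (G : Finset (K ⊗[k] P))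
    (hG : nilradical (K ⊗[k] P) = Ideal.span (G : Set (K ⊗[k] P)))
    (hlift : ∀ g ∈ G, ∃ g' : k' ⊗[k] K, levelEquiv k K P k' (1 ⊗ₜ g') = g) :
    Algebra.IsGeometricallyReduced k' ((k' ⊗[k] K) ⧸ nilradical (k' ⊗[k] K)) := by
  haveI : ExpChar k p := ExpChar.prime (Fact.out : p.Prime)
  haveI : PerfectField P := PerfectRing.toPerfectField P p
  haveI : IsPurelyInseparable k P := IsPRadical.isPurelyInseparable k P p
  haveI : Nontrivial (k' ⊗[k] K) :=
    (Algebra.TensorProduct.includeRight_injective (R := k) (B := K) (algebraMap k k').injective).nontrivial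
  haveI : Nontrivial ((k' ⊗[k] K) ⧸ nilradical (k' ⊗[k] K)) := Ideal.Quotient.nontrivial_iff.2 fun h => by
    obtain ⟨m, hm⟩ := mem_nilradical.1 ((Ideal.eq_top_iff_one _).1 h)
    exact one_ne_zero (α := k' ⊗[k] K) ((one_pow m).symm.trans hm)
  let e := levelEquiv k K P k'
  have hu := isUnit_or_isNilpotent_level p k K P k'
  have hinc : Function.Injective (Algebra.TensorProduct.includeRight : k' ⊗[k] K →ₐ[k'] P ⊗[k'] (k' ⊗[k] K)) :=
    Algebra.TensorProduct.includeRight_injective (algebraMap k' P).injective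
  haveI : Nontrivial (P ⊗[k'] ((k' ⊗[k] K) ⧸ nilradical (k' ⊗[k] K))) :=
    (Algebra.TensorProduct.includeRight_injective (R := k') (B := (k' ⊗[k] K) ⧸ nilradical (k' ⊗[k] K))
      (algebraMap k' P).injective).nontrivial
  have hker : nilradical (P ⊗[k'] (k' ⊗[k] K)) ≤ RingHom.ker (levelRed k K P k') := by
    rw [ker_levelRed]
    intro y hy
    have hy' : e y ∈ nilradical (K ⊗[k] P) := mem_nilradical.2 (IsNilpotent.map (mem_nilradical.1 hy) e)
    rw [hG] at hy'
    have hle : Ideal.span (G : Set (K ⊗[k] P)) ≤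
        (((nilradical (k' ⊗[k] K)).map (Algebra.TensorProduct.includeRight : k' ⊗[k] K →ₐ[k'] P ⊗[k'] (k' ⊗[k] K)))).comap
          e.symm.toRingHom := by
      refine Ideal.span_le.2 fun g hg => ?_
      obtain ⟨g', he⟩ := hlift g hg
      have hgn : IsNilpotent g := mem_nilradical.1 (hG.symm ▸ Ideal.subset_span hg : g ∈ nilradical (K ⊗[k] P))
      rw [← he] at hgn
      have hg' : IsNilpotent g' :=
        (IsNilpotent.map_iff (f := (e.toRingHom).comp
          (Algebra.TensorProduct.includeRight : k' ⊗[k] K →ₐ[k'] P ⊗[k'] (k' ⊗[k] K)).toRingHom)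
          ((e.injective).comp hinc)).1 hgn
      rw [SetLike.mem_coe, Ideal.mem_comap, RingEquiv.toRingHom_eq_coe, RingEquiv.coe_toRingHom, ← he,
        RingEquiv.symm_apply_apply]
      exact Ideal.mem_map_of_mem _ (mem_nilradical.2 hg')
    have := hle hy'
    rwa [Ideal.mem_comap, RingEquiv.toRingHom_eq_coe, RingEquiv.coe_toRingHom, RingEquiv.symm_apply_apply] at this
  haveI : IsReduced (P ⊗[k'] ((k' ⊗[k] K) ⧸ nilradical (k' ⊗[k] K))) := by
    refine ⟨fun z hz => ?_⟩
    obtain ⟨x, rfl⟩ := levelRed_surjective k K P k' z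
    obtain ⟨m, hm⟩ := hz
    rw [← map_pow] at hm
    have hxm : IsNilpotent (x ^ m) := mem_nilradical.1 (le_nilradical hu (I := RingHom.ker (levelRed k K P k').toRingHom) (RingHom.ker_ne_top _) (RingHom.mem_ker.2 hm))
    obtain ⟨j, hj⟩ := hxm
    exact hker (mem_nilradical.2 ⟨m * j, by rw [pow_mul, hj]⟩)
  rw [Algebra.isGeometricallyReduced_field_iff]
  haveI : Algebra.IsAlgebraic k' P := Algebra.IsAlgebraic.tower_top (K := k) k'
  haveI : Algebra.IsSeparable P (AlgebraicClosure P) := inferInstance
  haveI : Algebra.IsAlgebraic k' (AlgebraicClosure P) := Algebra.IsAlgebraic.trans k' P _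
  haveI : IsAlgClosure k' (AlgebraicClosure P) := ⟨inferInstance, inferInstance⟩
  haveI := GeomField.isReduced_tensor_of_separable_tower (k := k') ((k' ⊗[k] K) ⧸ nilradical (k' ⊗[k] K)) P (AlgebraicClosure P)
  exact isReduced_of_injective _ (Algebra.TensorProduct.congr
    (IsAlgClosure.equiv k' (AlgebraicClosure k') (AlgebraicClosure P)) AlgEquiv.refl).injective

include p in
/-- An artinian tensor product is reduced up to nilpotents at a finite level. -/
theorem exists_level [IsArtinianRing (K ⊗[k] P)] :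
    ∃ (k' : Type u) (_ : Field k') (_ : Algebra k k'), Module.Finite k k' ∧ IsPurelyInseparable k k' ∧
      Algebra.IsGeometricallyReduced k' ((k' ⊗[k] K) ⧸ nilradical (k' ⊗[k] K)) := by
  classical
  haveI : ExpChar k p := ExpChar.prime (Fact.out : p.Prime)
  haveI : IsPurelyInseparable k P := IsPRadical.isPurelyInseparable k P p
  obtain ⟨G, hG⟩ : (nilradical (K ⊗[k] P)).FG := (inferInstance : IsNoetherianRing (K ⊗[k] P)).noetherian _
  choose S hS using fun g : K ⊗[k] P => TensorProduct.exists_finset g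
  let T : Finset P := G.biUnion fun g => (S g).image Prod.snd
  let F : IntermediateField k P := IntermediateField.adjoin k (T : Set P)
  haveI : FiniteDimensional k F := IntermediateField.finiteDimensional_adjoin fun x _ =>
    (inferInstance : Algebra.IsIntegral k P).isIntegral x
  refine ⟨F, inferInstance, inferInstance, inferInstance, inferInstance,
    isGeometricallyReduced_level p k K P F G hG.symm fun g hg => ?_⟩
  have hmem : ∀ i ∈ S g, i.2 ∈ F := fun i hi => IntermediateField.subset_adjoin k _
    (Finset.mem_biUnion.2 ⟨g, hg, Finset.mem_image_of_mem _ hi⟩)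
  refine ⟨∑ i ∈ (S g).attach, (⟨i.1.2, hmem i.1 i.2⟩ : F) ⊗ₜ[k] i.1.1, ?_⟩
  rw [TensorProduct.tmul_sum, map_sum]
  refine ((Finset.sum_congr rfl fun i _ => levelEquiv_apply k K P F _ _).trans ?_).trans (hS g).symm
  exact Finset.sum_attach (S g) fun i => i.1 ⊗ₜ[k] i.2

end Groth.Agent.CplKaehler4
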