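import Groth.Agent.CplKaehler4.Radicial
import Groth.Agent.CplKaehler4.Etale
import Groth.Agent.AdicLib.Basic
import Groth.Agent.VarDim.Basic
import Groth.Agent.PopescuLib.HenzGRing
import Groth.Agent.S5074

/-!
Reductions of finite purely inseparable extensions of scalars of complete local domains.
-/

set_option linter.style.haveILetI false

namespace Groth.Agent.CplKaehler4

open IsLocalRing TensorProduct

universe u

theorem exists_pow_eq_algebraMap (q : ℕ) (k k' A : Type u) [Field k] [ExpChar k q] [Field k'] [Algebra k k']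
    [IsPurelyInseparable k k'] [CommRing A] [Algebra k A] [Nontrivial A] (x : k' ⊗[k] A) :
    ∃ (m : ℕ) (y : A), x ^ q ^ m = 1 ⊗ₜ y := by
  haveI : ExpChar k' q := expChar_of_injective_ringHom (algebraMap k k').injective q
  haveI : ExpChar (k' ⊗[k] A) q :=
    expChar_of_injective_ringHom (f := algebraMap k' (k' ⊗[k] A))
      (Algebra.TensorProduct.includeLeft_injective (S := k') (FaithfulSMul.algebraMap_injective k A)) q
  induction x using TensorProduct.induction_on with
  | zero => exact ⟨0, 0, by simp⟩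
  | tmul c a =>
    obtain ⟨m, b, hb⟩ := IsPurelyInseparable.pow_mem k q c
    refine ⟨m, b • a ^ q ^ m, ?_⟩
    rw [Algebra.TensorProduct.tmul_pow, ← hb, Algebra.algebraMap_eq_smul_one, TensorProduct.smul_tmul]
  | add z w hz hw =>
    obtain ⟨m₁, y₁, h₁⟩ := hz
    obtain ⟨m₂, y₂, h₂⟩ := hw
    refine ⟨m₁ + m₂, y₁ ^ q ^ m₂ + y₂ ^ q ^ m₁, ?_⟩
    have hp : ∀ (y : A) (j : ℕ), (1 : k') ⊗ₜ[k] (y ^ j) = ((1 : k') ⊗ₜ[k] y) ^ j := fun y j => by
      rw [Algebra.TensorProduct.tmul_pow, one_pow]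
    rw [add_pow_expChar_pow, TensorProduct.tmul_add, hp, hp, ← h₁, ← h₂, ← pow_mul, ← pow_mul,
      ← pow_add, ← pow_add, add_comm m₂ m₁]

theorem expChar_pow_ne_zero {R : Type*} [AddGroupWithOne R] (q : ℕ) [ExpChar R q] (m : ℕ) : q ^ m ≠ 0 :=
  pow_ne_zero m (by rcases ‹ExpChar R q› with _ | hq; exacts [one_ne_zero, hq.ne_zero])

theorem isPrime_nilradical (q : ℕ) (k k' A : Type u) [Field k] [ExpChar k q] [Field k'] [Algebra k k']
    [IsPurelyInseparable k k'] [CommRing A] [Algebra k A] [IsDomain A] : (nilradical (k' ⊗[k] A)).IsPrime := by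
  have hinj : Function.Injective (Algebra.TensorProduct.includeRight : A →ₐ[k] k' ⊗[k] A) :=
    Algebra.TensorProduct.includeRight_injective (algebraMap k k').injective
  refine ⟨fun h => ?_, fun {x y} hxy => ?_⟩
  · haveI := hinj.nontrivial
    obtain ⟨m, hm⟩ := mem_nilradical.1 ((Ideal.eq_top_iff_one _).1 h)
    exact one_ne_zero (α := k' ⊗[k] A) ((one_pow m).symm.trans hm)
  · obtain ⟨m₁, a, ha⟩ := exists_pow_eq_algebraMap q k k' A x
    obtain ⟨m₂, b, hb⟩ := exists_pow_eq_algebraMap q k k' A y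
    obtain ⟨j, hj⟩ := mem_nilradical.1 hxy
    have hpow : (x * y) ^ (q ^ (m₁ + m₂) * j) = 0 := by rw [pow_mul', hj, zero_pow (expChar_pow_ne_zero (R := k) q _)]
    have hab : ((a ^ q ^ m₂ * b ^ q ^ m₁) ^ j : A) = 0 := by
      apply hinj
      rw [map_zero, map_pow, map_mul, map_pow, map_pow, Algebra.TensorProduct.includeRight_apply,
        Algebra.TensorProduct.includeRight_apply, ← ha, ← hb, ← pow_mul, ← pow_mul, ← pow_add, ← pow_add,
        add_comm m₂ m₁, ← mul_pow, ← pow_mul, hpow]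
    have hq := expChar_pow_ne_zero (R := k) q
    rcases mul_eq_zero.1 (eq_zero_of_pow_eq_zero hab) with h | h
    · exact Or.inl (mem_nilradical.2 ⟨q ^ m₁, by rw [ha, eq_zero_of_pow_eq_zero h, tmul_zero]⟩)
    · exact Or.inr (mem_nilradical.2 ⟨q ^ m₂, by rw [hb, eq_zero_of_pow_eq_zero h, tmul_zero]⟩)

section

variable (q : ℕ) (k k' A : Type u) [Field k] [ExpChar k q] [Field k'] [Algebra k k'] [Module.Finite k k']
  [IsPurelyInseparable k k'] [CommRing A] [Algebra k A] [IsDomain A] [IsNoetherianRing A] [IsLocalRing A]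

include q in
/-- The reduction is a local domain, finite over the base. -/
theorem reduction_props :
    ∃ (_ : IsDomain ((k' ⊗[k] A) ⧸ nilradical (k' ⊗[k] A)))
      (_ : IsLocalRing ((k' ⊗[k] A) ⧸ nilradical (k' ⊗[k] A)))
      (f : A →ₐ[k] (k' ⊗[k] A) ⧸ nilradical (k' ⊗[k] A)),
      Function.Injective f ∧ f.toRingHom.Finite ∧ IsLocalHom f.toRingHom ∧
        ∀ a, f a = Ideal.Quotient.mk _ (1 ⊗ₜ a) := by
  classical
  let N := nilradical (k' ⊗[k] A)
  haveI hN : N.IsPrime := isPrime_nilradical q k k' A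
  let A' := (k' ⊗[k] A) ⧸ N
  haveI : IsDomain A' := Ideal.Quotient.isDomain N
  let f : A →ₐ[k] A' := (Ideal.Quotient.mkₐ k N).comp Algebra.TensorProduct.includeRight
  have hinj : Function.Injective f := by
    rw [injective_iff_map_eq_zero]
    intro a ha
    obtain ⟨m, hm⟩ := mem_nilradical.1 (Ideal.Quotient.eq_zero_iff_mem.1 ha)
    rw [← map_pow] at hm
    exact eq_zero_of_pow_eq_zero (Algebra.TensorProduct.includeRight_injective (algebraMap k k').injective
      (hm.trans (map_zero _).symm))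
  letI : Algebra A (k' ⊗[k] A) := Algebra.TensorProduct.rightAlgebra
  haveI : Module.Finite A (k' ⊗[k] A) := Module.Finite.equiv
    (AlgEquiv.ofRingEquiv (f := (Algebra.TensorProduct.comm k A k').toRingEquiv) fun a => rfl :
      A ⊗[k] k' ≃ₐ[A] k' ⊗[k] A).toLinearEquiv
  have hfin : f.toRingHom.Finite :=
    (RingHom.Finite.of_surjective (Ideal.Quotient.mk N) Ideal.Quotient.mk_surjective).comp
      (RingHom.finite_algebraMap.2 (inferInstance : Module.Finite A (k' ⊗[k] A)))
  haveI hlh : IsLocalHom f.toRingHom := hfin.to_isIntegral.isLocalHom hinj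
  have key : ∀ z : A', ∃ (m : ℕ) (a : A), z ^ q ^ m = f a := fun z => by
    obtain ⟨z, rfl⟩ := Ideal.Quotient.mk_surjective z
    obtain ⟨m, a, h⟩ := exists_pow_eq_algebraMap q k k' A z
    exact ⟨m, a, by rw [← map_pow, h]; rfl⟩
  have hmem : ∀ (z : A') (m : ℕ) (a : A), z ^ q ^ m = f a → (IsUnit z ↔ IsUnit a) := fun z m a h =>
    ⟨fun hz => isUnit_of_map_unit f.toRingHom a (show IsUnit (f a) from h ▸ hz.pow _),
      fun ha => (isUnit_pow_iff (expChar_pow_ne_zero (R := k) q m)).1 (h ▸ ha.map f)⟩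
  haveI : IsLocalRing A' := IsLocalRing.of_nonunits_add fun {z w} hz hw hzw => by
    obtain ⟨m₁, a, ha⟩ := key z
    obtain ⟨m₂, b, hb⟩ := key w
    haveI : ExpChar A' q := expChar_of_injective_ringHom (f := algebraMap k A') (RingHom.injective _) q
    have h : (z + w) ^ q ^ (m₁ + m₂) = f (a ^ q ^ m₂ + b ^ q ^ m₁) := by
      rw [add_pow_expChar_pow, map_add, map_pow, map_pow, ← ha, ← hb, ← pow_mul, ← pow_mul, ← pow_add, ← pow_add,
        add_comm m₂ m₁]
    have h1 := (hmem _ _ _ h).1 hzw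
    have hma : a ∈ maximalIdeal A := fun h' => hz ((hmem z m₁ a ha).2 h')
    have hmb : b ∈ maximalIdeal A := fun h' => hw ((hmem w m₂ b hb).2 h')
    exact (mem_maximalIdeal _).1 (add_mem (Ideal.pow_mem_of_mem _ hma _ (expChar_pow_ne_zero (R := k) q m₂).bot_lt)
      (Ideal.pow_mem_of_mem _ hmb _ (expChar_pow_ne_zero (R := k) q m₁).bot_lt)) h1
  exact ⟨inferInstance, inferInstance, f, hinj, hfin, hlh, fun _ => rfl⟩

end

/-- Finite local algebras over complete local rings are complete, with finite residue field. -/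
theorem isAdicComplete_of_finite_local {A B : Type u} [CommRing A] [IsLocalRing A] [IsNoetherianRing A]
    [IsAdicComplete (maximalIdeal A) A] [CommRing B] [IsLocalRing B] [Algebra A B] [Module.Finite A B]
    [IsLocalHom (algebraMap A B)] : IsAdicComplete (maximalIdeal B) B := by
  haveI : IsNoetherianRing B := IsNoetherianRing.of_finite A B
  let J := (maximalIdeal A).map (algebraMap A B)
  have h1 : IsAdicComplete (maximalIdeal A) B := AdicLib.isAdicComplete_of_finite _ B
  have h2 : IsAdicComplete J B := (IsAdicComplete.map_algebraMap_iff (S := B) (maximalIdeal A) B).mpr h1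
  have hle : J ≤ maximalIdeal B := map_maximalIdeal_le _
  haveI : Nontrivial (B ⧸ J) :=
    Ideal.Quotient.nontrivial_iff.2 (ne_top_of_le_ne_top (maximalIdeal.isMaximal B).ne_top hle)
  haveI : IsLocalRing (B ⧸ J) := .of_surjective' (Ideal.Quotient.mk J) Ideal.Quotient.mk_surjective
  haveI : IsArtinianRing (A ⧸ maximalIdeal A) := inferInstanceAs (IsArtinianRing (ResidueField A))
  haveI : IsArtinianRing (B ⧸ J) := IsArtinianRing.of_finite (A ⧸ maximalIdeal A) _
  obtain ⟨N, hN⟩ := (isArtinianRing_iff_isNilpotent_maximalIdeal (B ⧸ J)).1 ‹_›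
  refine (AdicLib.iff_of_pow_le (I := J) (J := maximalIdeal B) one_pos N.succ_pos (by rw [pow_one]; exact hle) ?_).1 h2
  refine (Ideal.pow_le_pow_right N.le_succ).trans ?_
  rw [← Ideal.mk_ker (I := J), ← Ideal.map_eq_bot_iff_le_ker, Ideal.map_pow,
    map_maximalIdeal_of_surjective (Ideal.Quotient.mk J) Ideal.Quotient.mk_surjective, hN, Ideal.zero_eq_bot]

end Groth.Agent.CplKaehler4
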