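import Groth.Agent.CplKaehler4.Domain

/-!
Generators of the completed differentials at a prime and unramified maps from power series.
-/

set_option linter.style.haveILetI false

namespace Groth.Agent.CplKaehler4

open IsLocalRing TensorProduct

universe u

/-- A system of parameters avoiding a non-maximal prime. -/
theorem exists_sop_notMem {A : Type u} [CommRing A] [IsLocalRing A] [IsNoetherianRing A] (p : Ideal A)
    [p.IsPrime] (hp : p ≠ maximalIdeal A) :
    ∃ (d : ℕ) (x : Fin (d + 1) → A), (∀ i, x i ∈ maximalIdeal A ∧ x i ∉ p) ∧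
      ringKrullDim A = (d + 1 : ℕ) ∧ maximalIdeal A ≤ (Ideal.span (Set.range x)).radical := by
  classical
  obtain ⟨e, t, ht, he, hrad⟩ := CohenLib.exists_fin_sop A
  obtain ⟨j, hj⟩ : ∃ j, t j ∉ p := by
    by_contra hcon
    push Not at hcon
    refine hp (le_antisymm (le_maximalIdeal ‹p.IsPrime›.ne_top) (hrad.trans ?_))
    exact ‹p.IsPrime›.radical_le_iff.2 (Ideal.span_le.2 (Set.range_subset_iff.2 hcon))
  obtain ⟨d, rfl⟩ : ∃ d, e = d + 1 := ⟨e - 1, by have := j.2; omega⟩
  refine ⟨d, fun i => if t i ∈ p then t i + t j else t i, fun i => ?_, he, hrad.trans (Ideal.radical_mono ?_)⟩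
  · dsimp only
    split_ifs with h
    · exact ⟨add_mem (ht i) (ht j), fun h' => hj (by simpa using sub_mem h' h)⟩
    · exact ⟨ht i, h⟩
  · let x : Fin (d + 1) → A := fun i => if t i ∈ p then t i + t j else t i
    have hxj : x j = t j := if_neg hj
    have hxj' : t j ∈ Ideal.span (Set.range x) := hxj ▸ Ideal.subset_span ⟨j, rfl⟩
    refine Ideal.span_le.2 (Set.range_subset_iff.2 fun i => ?_)
    have hi : x i ∈ Ideal.span (Set.range x) := Ideal.subset_span ⟨i, rfl⟩
    by_cases h : t i ∈ p
    · have := sub_mem hi hxj'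
      rwa [show x i = t i + t j from if_pos h, add_sub_cancel_right] at this
    · rwa [show x i = t i from if_neg h] at hi

variable {k A : Type u} [Field k] [CommRing A] [IsLocalRing A] [IsNoetherianRing A] [Algebra k A]
  [IsAdicComplete (maximalIdeal A) A] [Module.Finite k (ResidueField A)]

local notation "Om" => AdicCompletion (maximalIdeal A) (Ω[A⁄k])
local notation "dd" => fun a : A => AdicCompletion.of (maximalIdeal A) (Ω[A⁄k]) (KaehlerDifferential.D k A a)

/-- After multiplying by suitable units, differentials of elements outside `p` generate at `p`. -/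
theorem exists_units (p : Ideal A) [p.IsPrime] {m : ℕ} (x : Fin m → A) (hx : ∀ i, x i ∉ p)
    (hm : Module.finrank p.ResidueField (p.ResidueField ⊗[A] Om) ≤ m) :
    ∃ u : Fin m → Aˣ, GenAt p (fun i => dd ((u i : A) * x i)) := by
  classical
  haveI := finite_completion k A
  let F := p.ResidueField ⊗[A] Om
  let d : A → F := fun a => (1 : p.ResidueField) ⊗ₜ[A] dd a
  have hd_add : ∀ a b, d (a + b) = d a + d b := fun a b => by simp [d, map_add, TensorProduct.tmul_add]
  have hd_mul : ∀ a b, d (a * b) =
      algebraMap A p.ResidueField a • d b + algebraMap A p.ResidueField b • d a := fun a b => by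
    simp [d, Derivation.leibniz, map_add, TensorProduct.tmul_add, algebraMap_smul, TensorProduct.tmul_smul]
  have hgood : ∀ (H : Submodule p.ResidueField F), H ≠ ⊤ → ∀ y : A, y ∉ p → ∃ u : Aˣ, d (u * y) ∉ H := by
    intro H hH y hy
    by_contra hcon
    push Not at hcon
    refine hH ?_
    have hy1 : d y ∈ H := by simpa using hcon 1
    have hunit : ∀ u : Aˣ, d (u : A) ∈ H := by
      intro u
      have h1 := hcon u
      rw [hd_mul] at h1
      have h2 := (Submodule.add_mem_iff_right H (H.smul_mem _ hy1)).1 h1
      refine (Submodule.smul_mem_iff H ?_).1 h2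
      rwa [Ne, Ideal.algebraMap_residueField_eq_zero]
    have hall : ∀ a : A, d a ∈ H := by
      intro a
      rcases IsLocalRing.isUnit_or_isUnit_one_sub_self a with ha | ha
      · exact hunit ha.unit
      · have h1 := hunit ha.unit
        rw [IsUnit.unit_spec] at h1
        have h1' : d 1 ∈ H := by simpa using hunit 1
        have e := hd_add (1 - a) a
        rw [sub_add_cancel] at e
        exact (Submodule.add_mem_iff_right H h1).1 (e ▸ h1')
    refine eq_top_iff.2 fun z hz => ?_
    clear hz
    induction z using TensorProduct.induction_on with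
    | zero => exact zero_mem _
    | add a b ha hb => exact add_mem ha hb
    | tmul c w =>
      rw [← mul_one c, ← smul_eq_mul, ← TensorProduct.smul_tmul']
      refine H.smul_mem _ ?_
      have hw : w ∈ Submodule.span A (Set.range dd) := (span_d k A).symm ▸ Submodule.mem_top
      have h1 := Submodule.mem_map_of_mem (f := TensorProduct.mk A p.ResidueField Om 1) hw
      rw [Submodule.map_span] at h1
      refine (Submodule.span_le (p := H.restrictScalars A)).2 ?_ h1
      rintro _ ⟨_, ⟨a, rfl⟩, rfl⟩
      exact hall a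
  haveI : Module.Finite p.ResidueField F := inferInstance
  have key : ∀ (j : ℕ) (y : Fin j → A), (∀ i, y i ∉ p) → ∃ u : Fin j → Aˣ,
      min j (Module.finrank p.ResidueField F) ≤
        Module.finrank p.ResidueField (Submodule.span p.ResidueField (Set.range fun i => d (u i * y i))) := by
    intro j
    induction j with
    | zero => exact fun y _ => ⟨fun _ => 1, by simp⟩
    | succ j ih =>
      intro y hy
      obtain ⟨u, hu⟩ := ih (fun i => y i.castSucc) fun i => hy _
      let H := Submodule.span p.ResidueField (Set.range fun i : Fin j => d (u i * y i.castSucc))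
      have hmono : ∀ w : Aˣ, H ≤ Submodule.span p.ResidueField
          (Set.range fun i => d (Fin.snoc (α := fun _ => Aˣ) u w i * y i)) := fun w =>
        Submodule.span_mono (Set.range_subset_iff.2 fun i => ⟨i.castSucc, by simp⟩)
      by_cases htop : H = ⊤
      · refine ⟨Fin.snoc u 1, (min_le_right _ _).trans ?_⟩
        rw [show Submodule.span p.ResidueField (Set.range fun i => d (Fin.snoc (α := fun _ => Aˣ) u 1 i * y i)) = ⊤ from
          top_unique (htop.symm.le.trans (hmono 1)), finrank_top]
      · obtain ⟨w, hw⟩ := hgood H htop (y (Fin.last j)) (hy _)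
        refine ⟨Fin.snoc u w, ?_⟩
        have hlt : H < Submodule.span p.ResidueField (Set.range fun i => d (Fin.snoc (α := fun _ => Aˣ) u w i * y i)) :=
          SetLike.lt_iff_le_and_exists.2 ⟨hmono w, _, Submodule.subset_span ⟨Fin.last j, rfl⟩, by simpa using hw⟩
        have h1 := Submodule.finrank_lt_finrank_of_lt hlt
        have h2 : min j (Module.finrank p.ResidueField F) ≤ Module.finrank p.ResidueField H := hu
        omega
  obtain ⟨u, hu⟩ := key m x hx
  refine ⟨u, genAt_of_fibre p (Submodule.eq_top_of_finrank_eq (le_antisymm (Submodule.finrank_le _) ?_))⟩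
  exact (le_min hm le_rfl).trans hu

/-- `m` generators at a non-maximal prime on a top dimensional component give a finite map unramified there. -/
theorem exists_unramified (p : Ideal A) [p.IsPrime] (hp : p ≠ maximalIdeal A)
    (hq : ∃ q ∈ minimalPrimes A, q ≤ p ∧ ringKrullDim (A ⧸ q) = ringKrullDim A) {m : ℕ}
    (s : Fin m → Om) (hs : GenAt p s) :
    ∃ (_ : Algebra (MvPowerSeries (Fin m) k) A) (_ : IsScalarTower k (MvPowerSeries (Fin m) k) A),
      IsLocalHom (algebraMap (MvPowerSeries (Fin m) k) A) ∧ Module.Finite (MvPowerSeries (Fin m) k) A ∧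
        Algebra.IsUnramifiedAt (MvPowerSeries (Fin m) k) p := by
  classical
  haveI := finite_completion k A
  obtain ⟨q, hqmin, hqp, hdimq⟩ := hq
  haveI : q.IsPrime := hqmin.1.1
  obtain ⟨d, x, hx, hd, hrad⟩ := exists_sop_notMem p hp
  have h1 := dim_quot_le_of_genAt k A p q hqp s hs
  rw [hdimq, hd, Nat.cast_le] at h1
  let y : Fin m → A := fun i => if h : (i : ℕ) < d + 1 then x ⟨i, h⟩ else x 0
  have hy : ∀ i, y i ∈ maximalIdeal A ∧ y i ∉ p := fun i => by
    dsimp only [y]
    split_ifs <;> exact hx _
  have hyrad : maximalIdeal A ≤ (Ideal.span (Set.range y)).radical := by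
    refine hrad.trans (Ideal.radical_mono (Ideal.span_mono (Set.range_subset_iff.2 fun i => ?_)))
    exact ⟨⟨i, by omega⟩, dif_pos i.2⟩
  obtain ⟨u, hu⟩ := exists_units (k := k) p y (fun i => (hy i).2) (finrank_fibre_le p hs)
  let z : Fin m → A := fun i => (u i : A) * y i
  have hz : ∀ i, z i ∈ maximalIdeal A := fun i => Ideal.mul_mem_left _ _ (hy i).1
  have hzrad : maximalIdeal A ≤ (Ideal.span (Set.range z)).radical := by
    refine hyrad.trans (Ideal.radical_mono (Ideal.span_le.2 (Set.range_subset_iff.2 fun i => ?_)))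
    have h : z i ∈ Ideal.span (Set.range z) := Ideal.subset_span ⟨i, rfl⟩
    exact (Ideal.unit_mul_mem_iff_mem _ (u i).isUnit).1 h
  obtain ⟨ψ, hψ, hfin, hloc⟩ := exists_algHom_finite k z hz hzrad
  letI : Algebra (MvPowerSeries (Fin m) k) A := ψ.toRingHom.toAlgebra
  haveI : IsScalarTower k (MvPowerSeries (Fin m) k) A := IsScalarTower.of_algebraMap_eq fun c => (ψ.commutes c).symm
  haveI : Module.Finite (MvPowerSeries (Fin m) k) A := hfin
  refine ⟨inferInstance, inferInstance, hloc, hfin, (genAt_iff_unramifiedAt (k := k) p).1 ?_⟩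
  rw [show (fun i => dd (algebraMap (MvPowerSeries (Fin m) k) A (MvPowerSeries.X i))) = fun i => dd (z i) from
    funext fun i => by rw [show algebraMap (MvPowerSeries (Fin m) k) A (MvPowerSeries.X i) = z i from hψ i]]
  exact hu

end Groth.Agent.CplKaehler4
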