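import Groth.Agent.CplKaehler4.RadicialLevel
import Groth.Agent.CplKaehler4.Unram

/-!
Unramified power series subrings at the generic point.
-/

set_option linter.style.haveILetI false

namespace Groth.Agent.CplKaehler4

open IsLocalRing TensorProduct

universe u

theorem exists_unramified_generic (q : ℕ) (k A : Type u) [Field k] [ExpChar k q] (hk : (frobenius k q).Finite)
    [CommRing A] [IsDomain A] [IsNoetherianRing A] [IsLocalRing A] [Algebra k A]
    [IsAdicComplete (maximalIdeal A) A] [Module.Finite k (ResidueField A)] (hA : ¬ IsField A) (n : ℕ)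
    (hn : ringKrullDim A = n)
    (hgeo : CAlg.IsGeometricallyRegular k (Localization.AtPrime (⊥ : Ideal A))) :
    ∃ (_ : Algebra (MvPowerSeries (Fin n) k) A) (_ : IsScalarTower k (MvPowerSeries (Fin n) k) A),
      IsLocalHom (algebraMap (MvPowerSeries (Fin n) k) A) ∧
      Function.Injective (algebraMap (MvPowerSeries (Fin n) k) A) ∧
      Module.Finite (MvPowerSeries (Fin n) k) A ∧
      Algebra.IsUnramifiedAt (MvPowerSeries (Fin n) k) (⊥ : Ideal A) := by
  classical
  have hbot : (⊥ : Ideal A) ∈ minimalPrimes A := ⟨⟨Ideal.isPrime_bot, bot_le⟩, fun _ _ _ => bot_le⟩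
  have hne : (⊥ : Ideal A) ≠ maximalIdeal A := fun h => hA (IsLocalRing.isField_iff_maximalIdeal_eq.2 h.symm)
  have hdim : ringKrullDim (A ⧸ (⊥ : Ideal A)) = n := by
    rw [ringKrullDim_eq_of_ringEquiv (RingEquiv.quotientBot A), hn]
  obtain ⟨hfree, hrk⟩ := S5074.result q k A hk ⊥ hgeo ⊥ hbot le_rfl n hdim
  haveI := hfree
  haveI := finite_completion k A
  let b := Module.finBasisOfFinrankEq (Localization.AtPrime (⊥ : Ideal A))
    (LocalizedModule (⊥ : Ideal A).primeCompl (AdicCompletion (maximalIdeal A) (Ω[A⁄k]))) hrk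
  obtain ⟨s, hs⟩ := exists_genAt_of_localized (⊥ : Ideal A) (M := AdicCompletion (maximalIdeal A) (Ω[A⁄k])) ⟨b, b.span_eq⟩
  obtain ⟨i1, i2, hloc, hfin, hu⟩ := exists_unramified (k := k) (⊥ : Ideal A) hne
    ⟨⊥, hbot, le_rfl, hdim.trans hn.symm⟩ s hs
  haveI : IsDomain (MvPowerSeries (Fin n) k) := NoZeroDivisors.to_isDomain _
  exact ⟨i1, i2, hloc, CohenLib.injective_of_finite _ (RingHom.finite_algebraMap.2 hfin) hn
    (PSLib.ringKrullDim_eq k n).le, hfin, hu⟩

theorem exists_gr_level (q : ℕ) (k A : Type u) [Field k] [ExpChar k q] [CommRing A] [IsDomain A]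
    [IsNoetherianRing A] [IsLocalRing A] [Algebra k A] [IsAdicComplete (maximalIdeal A) A]
    [Module.Finite k (ResidueField A)] :
    ∃ (k' : Type u) (_ : Field k') (_ : Algebra k k'), Module.Finite k k' ∧ IsPurelyInseparable k k' ∧
      Algebra.IsGeometricallyReduced k' ((k' ⊗[k] FractionRing A) ⧸ nilradical (k' ⊗[k] FractionRing A)) := by
  rcases ‹ExpChar k q› with _ | hp
  · haveI : PerfectField k := inferInstance
    haveI : IsReduced ((k ⊗[k] FractionRing A) ⧸ nilradical (k ⊗[k] FractionRing A)) :=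
      (Ideal.isRadical_iff_quotient_reduced _).1 fun x hx => by
        obtain ⟨m, hm⟩ := hx
        exact mem_nilradical.2 (IsNilpotent.of_pow (mem_nilradical.1 hm))
    refine ⟨k, ‹Field k›, Algebra.id k, inferInstance, inferInstance, ?_⟩
    exact GrpSchLib.isGeometricallyReduced_of_isReduced k ((k ⊗[k] FractionRing A) ⧸ nilradical (k ⊗[k] FractionRing A))
  · haveI : Fact q.Prime := ⟨hp⟩
    exact exists_radicial_level q k A

theorem frobenius_finite (q : ℕ) (k k' : Type u) [Field k] [ExpChar k q] (hk : (frobenius k q).Finite) [Field k']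
    [Algebra k k'] [Module.Finite k k'] [ExpChar k' q] : (frobenius k' q).Finite := by
  have h : ((frobenius k' q).comp (algebraMap k k')).Finite := by
    rw [← RingHom.frobenius_comm]
    exact (RingHom.finite_algebraMap.2 ‹Module.Finite k k'›).comp hk
  exact RingHom.Finite.of_comp_finite h

end Groth.Agent.CplKaehler4
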