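import Groth.Agent.CplKaehler4.RadicialDomain
import Groth.Agent.CycCovLib.Regular

/-!
A finite purely inseparable extension making the fraction field of a complete local domain separable.
-/

set_option linter.style.haveILetI false

namespace Groth.Agent.CplKaehler4

open IsLocalRing TensorProduct

universe u

theorem isGeometricallyReduced_fractionField_mvPowerSeries (k : Type u) [Field k] (n : ℕ) (K₀ : Type u) [Field K₀]
    [Algebra (MvPowerSeries (Fin n) k) K₀] [IsFractionRing (MvPowerSeries (Fin n) k) K₀] [Algebra k K₀]
    [IsScalarTower k (MvPowerSeries (Fin n) k) K₀] : Algebra.IsGeometricallyReduced k K₀ := by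
  haveI : Algebra.IsGeometricallyReduced k (MvPowerSeries (Fin n) k) := by
    refine GeomField.gr_of_purelyInseparable (k := k) _ fun k' _ _ _ _ => ?_
    haveI := geometricallyRegular_mvPowerSeries (k := k) n k' inferInstance
    haveI := CycCovLib.isReduced_of_isRegularRing (k' ⊗[k] MvPowerSeries (Fin n) k)
    exact isReduced_of_injective (Algebra.TensorProduct.comm k _ k') (Algebra.TensorProduct.comm k _ k').injective
  exact GeomField.gr_localization (k := k) (MvPowerSeries (Fin n) k) K₀ (nonZeroDivisors (MvPowerSeries (Fin n) k))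

variable (p : ℕ) [Fact p.Prime] (k A : Type u) [Field k] [CharP k p] [CommRing A] [IsDomain A]
  [IsNoetherianRing A] [IsLocalRing A] [Algebra k A] [IsAdicComplete (maximalIdeal A) A]
  [Module.Finite k (ResidueField A)]

include p in
theorem isArtinianRing_tensor_radicial (P : Type u) [Field P] [Algebra k P] [IsPRadical (algebraMap k P) p]
    (L : Type u) [Field L] [Algebra A L] [IsFractionRing A L] [Algebra k L] [IsScalarTower k A L] :
    IsArtinianRing (L ⊗[k] P) := by
  classical
  obtain ⟨n, x, hx, hn, hrad⟩ := CohenLib.exists_fin_sop A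
  obtain ⟨ψ, -, hfin, -⟩ := exists_algHom_finite k x hx hrad
  let S := MvPowerSeries (Fin n) k
  letI : Algebra S A := ψ.toRingHom.toAlgebra
  haveI : IsScalarTower k S A := IsScalarTower.of_algebraMap_eq fun c => (ψ.commutes c).symm
  haveI : Module.Finite S A := hfin
  haveI : IsDomain S := NoZeroDivisors.to_isDomain _
  have hinj : Function.Injective (algebraMap S A) :=
    CohenLib.injective_of_finite ψ.toRingHom hfin hn (PSLib.ringKrullDim_eq k n).le
  letI : Algebra S L := ((algebraMap A L).comp (algebraMap S A)).toAlgebra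
  haveI : IsScalarTower S A L := IsScalarTower.of_algebraMap_eq fun _ => rfl
  haveI : FaithfulSMul S L := (faithfulSMul_iff_algebraMap_injective _ _).2
    ((IsFractionRing.injective A L).comp hinj)
  let K₀ := FractionRing S
  letI : Algebra K₀ L := FractionRing.liftAlgebra S L
  haveI : IsScalarTower k K₀ L := IsScalarTower.of_algebraMap_eq fun c => by
    rw [IsScalarTower.algebraMap_apply k S K₀, ← IsScalarTower.algebraMap_apply S K₀ L,
      IsScalarTower.algebraMap_apply S A L, ← IsScalarTower.algebraMap_apply k S A,
      ← IsScalarTower.algebraMap_apply]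
  haveI : Module.Finite K₀ L := finite_fractionField S A K₀ L
  haveI := isGeometricallyReduced_fractionField_mvPowerSeries k n K₀
  haveI : IsReduced (K₀ ⊗[k] P) := GeomField.isReduced_tensor_field (k := k) K₀ P
  have hu := isUnit_or_isNilpotent k K₀ P p
  haveI : IsArtinianRing (K₀ ⊗[k] P) := by
    refine isArtinianRing_of_fg hu ?_
    rw [nilradical_eq_zero, Submodule.zero_eq_bot]
    exact Submodule.fg_bot
  let e : (K₀ ⊗[k] P) ⊗[K₀] L ≃+* L ⊗[k] P :=
    (Algebra.TensorProduct.comm K₀ (K₀ ⊗[k] P) L).toRingEquiv.trans
      (Algebra.TensorProduct.cancelBaseChange k K₀ K₀ L P).toRingEquiv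
  haveI : IsArtinianRing ((K₀ ⊗[k] P) ⊗[K₀] L) := IsArtinianRing.of_finite (K₀ ⊗[k] P) ((K₀ ⊗[k] P) ⊗[K₀] L)
  exact Function.Surjective.isArtinianRing (f := (e : (K₀ ⊗[k] P) ⊗[K₀] L →+* L ⊗[k] P)) e.surjective

include p in
theorem exists_radicial_level :
    ∃ (k' : Type u) (_ : Field k') (_ : Algebra k k'), Module.Finite k k' ∧ IsPurelyInseparable k k' ∧
      Algebra.IsGeometricallyReduced k' ((k' ⊗[k] FractionRing A) ⧸ nilradical (k' ⊗[k] FractionRing A)) := by
  haveI : ExpChar k p := ExpChar.prime (Fact.out : p.Prime)
  let P := perfectClosure k (AlgebraicClosure k)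
  haveI : CharP P p := charP_of_injective_algebraMap (algebraMap k P).injective p
  haveI : ExpChar P p := ExpChar.prime (Fact.out : p.Prime)
  haveI : PerfectField P := inferInstance
  haveI : PerfectRing P p := PerfectField.toPerfectRing p
  haveI : IsPRadical (algebraMap k P) p := IsPurelyInseparable.isPRadical k P p
  haveI := isArtinianRing_tensor_radicial p k A P (FractionRing A)
  exact exists_level p k (FractionRing A) P

/-- A generic point embedded in a separable field extension. -/
theorem geometricallyRegular_atPrime_bot_of_injective {k' A' B : Type u} [Field k'] [CommRing A'] [IsDomain A']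
    [Algebra k' A'] [CommRing B] [Algebra k' B] [Algebra.IsGeometricallyReduced k' B] (g : A' →ₐ[k'] B)
    (hg : Function.Injective g) (hBf : IsField B) :
    CAlg.IsGeometricallyRegular k' (Localization.AtPrime (⊥ : Ideal A')) := by
  let L' := Localization.AtPrime (⊥ : Ideal A')
  have hu : ∀ s : (⊥ : Ideal A').primeCompl, IsUnit (g.toRingHom s) := fun s => by
    have hs : (s : A') ≠ 0 := fun h => s.2 (by rw [SetLike.mem_coe, h]; exact zero_mem _)
    letI := hBf.toField
    exact isUnit_iff_ne_zero.2 fun h => hs (hg (h.trans (map_zero g).symm))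
  let g₀ : L' →+* B := IsLocalization.lift hu
  let g' : L' →ₐ[k'] B :=
    { g₀ with
      commutes' := fun c => by
        show g₀ (algebraMap k' L' c) = _
        rw [IsScalarTower.algebraMap_apply k' A' L', IsLocalization.lift_eq]
        exact g.commutes c }
  have hg' : Function.Injective g' := by
    rw [injective_iff_map_eq_zero]
    intro z hz
    obtain ⟨x, s, rfl⟩ := IsLocalization.exists_mk'_eq (⊥ : Ideal A').primeCompl z
    have h0 : g' (algebraMap A' L' x) = 0 := by
      rw [← IsLocalization.mk'_spec L' x s, map_mul, hz, zero_mul]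
    have h1 : g x = 0 := by rwa [show g' (algebraMap A' L' x) = g x from IsLocalization.lift_eq _ x] at h0
    rw [hg (h1.trans (map_zero g).symm), IsLocalization.mk'_zero]
  haveI : Algebra.IsGeometricallyReduced k' L' := Algebra.IsGeometricallyReduced.of_injective g' hg'
  haveI : IsFractionRing A' L' := by
    have e : (⊥ : Ideal A').primeCompl = nonZeroDivisors A' := by
      ext x
      rw [mem_nonZeroDivisors_iff_ne_zero]
      exact Iff.rfl
    show IsLocalization (nonZeroDivisors A') L'
    rw [← e]
    infer_instance
  letI : Field L' := IsFractionRing.toField A'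
  intro K' _ _ hK'
  haveI := hK'
  haveI : IsReduced (K' ⊗[k'] L') := FBaseLib.isReduced_field_tensor (k := k') L' K'
  haveI : IsArtinianRing (L' ⊗[k'] K') := IsArtinianRing.of_finite L' _
  haveI : IsArtinianRing (K' ⊗[k'] L') :=
    (Algebra.TensorProduct.comm k' L' K').toRingEquiv.surjective.isArtinianRing
      (f := (Algebra.TensorProduct.comm k' L' K').toRingEquiv.toRingHom)
  exact PopescuLib.isRegularRing_of_artinian_reduced _

/-- Separability of the fraction field of the reduction gives geometric regularity at the generic point. -/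
theorem geometricallyRegular_atPrime_bot (k k' A : Type u) [Field k] [Field k'] [Algebra k k'] [CommRing A]
    [IsDomain A] [Algebra k A] [IsDomain ((k' ⊗[k] A) ⧸ nilradical (k' ⊗[k] A))]
    [Algebra.IsGeometricallyReduced k' ((k' ⊗[k] FractionRing A) ⧸ nilradical (k' ⊗[k] FractionRing A))]
    [IsDomain ((k' ⊗[k] FractionRing A) ⧸ nilradical (k' ⊗[k] FractionRing A))] [Module.Finite k k'] :
    CAlg.IsGeometricallyRegular k'
      (Localization.AtPrime (⊥ : Ideal ((k' ⊗[k] A) ⧸ nilradical (k' ⊗[k] A)))) := by
  let L := FractionRing A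
  let B := (k' ⊗[k] L) ⧸ nilradical (k' ⊗[k] L)
  let A' := (k' ⊗[k] A) ⧸ nilradical (k' ⊗[k] A)
  let L' := Localization.AtPrime (⊥ : Ideal A')
  let j : k' ⊗[k] A →ₐ[k'] k' ⊗[k] L :=
    Algebra.TensorProduct.map (AlgHom.id k' k') (IsScalarTower.toAlgHom k A L)
  have hj : Function.Injective j :=
    Module.Flat.lTensor_preserves_injective_linearMap (IsScalarTower.toAlgHom k A L).toLinearMap
      (IsFractionRing.injective A L)
  let g : A' →ₐ[k'] B := Ideal.Quotient.liftₐ _ ((Ideal.Quotient.mkₐ k' _).comp j) fun x hx =>
    Ideal.Quotient.eq_zero_iff_mem.2 (mem_nilradical.2 (IsNilpotent.map (mem_nilradical.1 hx) j))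
  have hg : Function.Injective g := by
    rw [injective_iff_map_eq_zero]
    intro z hz
    obtain ⟨x, rfl⟩ := Ideal.Quotient.mk_surjective z
    refine Ideal.Quotient.eq_zero_iff_mem.2 (mem_nilradical.2 ((IsNilpotent.map_iff (f := j) hj).1 ?_))
    exact mem_nilradical.1 (Ideal.Quotient.eq_zero_iff_mem.1 hz)
  haveI : IsArtinianRing (k' ⊗[k] L) := by
    haveI : IsArtinianRing (L ⊗[k] k') := IsArtinianRing.of_finite L _
    exact (Algebra.TensorProduct.comm k L k').toRingEquiv.surjective.isArtinianRing
      (f := (Algebra.TensorProduct.comm k L k').toRingEquiv.toRingHom)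
  haveI : IsArtinianRing B := Function.Surjective.isArtinianRing (f := Ideal.Quotient.mk _) Ideal.Quotient.mk_surjective
  have hBf : IsField B := IsArtinianRing.isField_of_isDomain B
  exact geometricallyRegular_atPrime_bot_of_injective (A' := A') (B := B) g hg hBf

end Groth.Agent.CplKaehler4
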