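import Groth.Agent.CartierEq4.Basic
import Groth.Agent.RegFS6.Field
import Groth.Agent.RegFS6.JacobCrit
import Groth.Agent.ArtFlat.Basic
import Groth.Agent.CplKaehler4.Gen

/-!
Completed differentials of formally smooth complete local algebras.
-/

set_option linter.style.haveILetI false

namespace Groth.Agent.CplKaehler4

open IsLocalRing TensorProduct Algebra

universe u

variable {k A : Type u} [Field k] [CommRing A] [IsLocalRing A] [IsNoetherianRing A] [Algebra k A]

/-- The extension `A → K`. -/
noncomputable abbrev resExt (k A : Type u) [Field k] [CommRing A] [IsLocalRing A] [Algebra k A] :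
    Extension k (ResidueField A) :=
  { Ring := A, σ := _, algebraMap_σ := Function.surjInv_eq residue_surjective }

/-- Lifting into a square zero extension of the residue field. -/
theorem exists_hom_infinitesimal (hfs : CAlgX.IsAdicFormallySmooth k A (maximalIdeal A))
    (Q : Extension.{u} k (ResidueField A)) : Nonempty ((resExt k A).infinitesimal.Hom Q.infinitesimal) := by
  let E := Q.infinitesimal.Ring
  let J : Ideal E := Q.infinitesimal.ker
  have hJ : J ^ 2 = ⊥ := by
    show Q.infinitesimal.ker ^ 2 = ⊥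
    rw [Extension.ker_infinitesimal]
    exact Ideal.cotangentIdeal_square _
  have hs : Function.Surjective (algebraMap E (ResidueField A)) := Q.infinitesimal.algebraMap_surjective
  let e : (E ⧸ J) ≃ₐ[k] ResidueField A :=
    Ideal.quotientKerAlgEquivOfSurjective (f := IsScalarTower.toAlgHom k E (ResidueField A)) hs
  obtain ⟨χ, hχ⟩ := hfs E J hJ (e.symm.toAlgHom.comp (IsScalarTower.toAlgHom k A (ResidueField A))) ⟨1, fun x hx => by
    rw [pow_one] at hx
    show e.symm (residue A x) = 0
    rw [(residue_eq_zero_iff x).2 hx, map_zero]⟩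
  have hcomm : ∀ a, algebraMap E (ResidueField A) (χ a) = residue A a := fun a => by
    have h := AlgHom.congr_fun hχ a
    rw [AlgHom.comp_apply, AlgHom.comp_apply] at h
    have h' : e (Ideal.Quotient.mk J (χ a)) = residue A a := by
      rw [show Ideal.Quotient.mk J (χ a) = e.symm (residue A a) from h, e.apply_symm_apply]
    exact h'
  have hle : (resExt k A).ker ^ 2 ≤ RingHom.ker χ := by
    rw [pow_two, Ideal.mul_le]
    intro r hr s hs'
    have hmem : ∀ t ∈ (resExt k A).ker, χ t ∈ J := fun t ht => by
      show algebraMap E (ResidueField A) (χ t) = 0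
      rw [hcomm]
      exact ht
    have hz : χ r * χ s ∈ J ^ 2 := by
      rw [pow_two]
      exact Ideal.mul_mem_mul (hmem r hr) (hmem s hs')
    rw [hJ, Ideal.mem_bot] at hz
    rw [RingHom.mem_ker, map_mul, hz]
  exact ⟨{ toRingHom := Ideal.Quotient.lift _ χ.toRingHom hle
           toRingHom_algebraMap := fun x => χ.commutes x
           algebraMap_toRingHom := fun x => by
            obtain ⟨x, rfl⟩ := Ideal.Quotient.mk_surjective x
            exact hcomm x }⟩

theorem h1_equiv (hfs : CAlgX.IsAdicFormallySmooth k A (maximalIdeal A)) :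
    Nonempty ((resExt k A).H1Cotangent ≃ₗ[ResidueField A] Algebra.H1Cotangent k (ResidueField A)) := by
  let P := (Generators.self k (ResidueField A)).toExtension
  haveI : FormallySmooth k P.Ring := inferInstanceAs (FormallySmooth k (MvPolynomial (ResidueField A) k))
  obtain ⟨f⟩ := exists_hom_infinitesimal hfs P
  exact ⟨.ofBijective _ (Extension.H1Cotangent.map_toInfinitesimal_bijective (resExt k A)) ≪≫ₗ
    Extension.H1Cotangent.equiv f (Extension.homInfinitesimal P (resExt k A))
    ≪≫ₗ .symm (.ofBijective _ (Extension.H1Cotangent.map_toInfinitesimal_bijective P))⟩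

theorem finrank_fibre_kaehler [Algebra.EssFiniteType k (ResidueField A)]
    (hfs : CAlgX.IsAdicFormallySmooth k A (maximalIdeal A)) :
    Module.Finite (ResidueField A) (ResidueField A ⊗[A] Ω[A⁄k]) ∧
      (Module.finrank (ResidueField A) (ResidueField A ⊗[A] Ω[A⁄k]) : WithBot ℕ∞) =
        ringKrullDim A + (Cardinal.toNat (Algebra.trdeg k (ResidueField A)) : WithBot ℕ∞) := by
  obtain ⟨hΩ, hH, heq⟩ := CartierEq4.finrank_kaehler_eq k (ResidueField A)
  obtain ⟨eH⟩ := h1_equiv hfs
  haveI := FlatLoc6.isRegularRing_of_geometricallyRegular (RegFS6.geometricallyRegular_of_fs hfs)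
  haveI : IsRegularLocalRing A := IsRegularLocalRing.of_isRegularRing_of_isLocalRing A
  let P := resExt k A
  have hker : P.ker = maximalIdeal A := IsLocalRing.ker_residue
  haveI : Module.Finite A P.ker := Module.Finite.of_fg (IsNoetherian.noetherian _)
  haveI : Module.Finite P.Ring P.Cotangent := .of_surjective _ Algebra.Extension.Cotangent.mk_surjective
  haveI : Module.Finite (ResidueField A) P.Cotangent := Module.Finite.of_restrictScalars_finite P.Ring _ _
  have hc : (Module.finrank (ResidueField A) P.Cotangent : WithBot ℕ∞) = ringKrullDim A := by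
    have h1 := (IsRegularLocalRing.iff_finrank_cotangentSpace A).1 inferInstance
    let j : CotangentSpace A ≃+ P.Cotangent :=
      ((Ideal.Cotangent.equivOfEq _ _ hker.symm).toAddEquiv).trans (Algebra.Extension.cotangentEquivCotangentKer (P := P)).symm.toAddEquiv
    have hj : ∀ (r : (ResidueField A)) (m : CotangentSpace A), j (r • m) = r • j m := by
      intro r m
      obtain ⟨r, rfl⟩ := residue_surjective r
      rw [show residue A r • m = r • m from algebraMap_smul (ResidueField A) r m]
      show (Algebra.Extension.cotangentEquivCotangentKer (P := P)).symm ((Ideal.Cotangent.equivOfEq _ _ hker.symm) (r • m)) = _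
      rw [map_smul, map_smul]
      exact (algebraMap_smul (ResidueField A) r _).symm
    rw [← h1]
    exact congrArg (fun c : ℕ => (c : WithBot ℕ∞))
      (LinearEquiv.finrank_eq ({ j with map_smul' := hj } : CotangentSpace A ≃ₗ[(ResidueField A)] P.Cotangent)).symm
  haveI : Module.Finite (ResidueField A) (LinearMap.range P.cotangentComplex) := Module.Finite.range _
  haveI : Module.Finite (ResidueField A) P.CotangentSpace := by
    refine ⟨Submodule.fg_of_fg_map_of_fg_inf_ker P.toKaehler (IsNoetherian.noetherian _) ?_⟩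
    rw [top_inf_eq, P.exact_cotangentComplex_toKaehler.linearMap_ker_eq]
    exact Module.Finite.iff_fg.1 inferInstance
  have h1 := P.cotangentComplex.finrank_range_add_finrank_ker
  have h2 := P.toKaehler.finrank_range_add_finrank_ker
  rw [LinearMap.range_eq_top.2 P.toKaehler_surjective, finrank_top] at h2
  rw [← P.exact_cotangentComplex_toKaehler.linearMap_ker_eq] at h1
  have e2 : Module.finrank (ResidueField A) (LinearMap.ker P.cotangentComplex) = Module.finrank (ResidueField A) (Algebra.H1Cotangent k (ResidueField A)) :=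
    eH.finrank_eq
  have hfin : Module.Finite (ResidueField A) ((ResidueField A) ⊗[A] Ω[A⁄k]) := ‹Module.Finite (ResidueField A) P.CotangentSpace›
  refine ⟨hfin, ?_⟩
  rw [← hc, ← Nat.cast_add]
  congr 1
  show Module.finrank (ResidueField A) P.CotangentSpace = _
  omega

/-- Independence modulo an ideal of definition. -/
theorem mem_of_sum_mem {R : Type u} [CommRing R] [IsLocalRing R] {M : Type u} [AddCommGroup M] [Module R M]
    (a : Ideal R) (ha : a ≤ maximalIdeal R) [Module.Flat (R ⧸ a) ((R ⧸ a) ⊗[R] M)] {ι : Type*} [Fintype ι]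
    (v : ι → M) (hv : LinearIndependent (ResidueField R) fun i => (1 : ResidueField R) ⊗ₜ[R] v i)
    (x : ι → R) (hx : ∑ i, x i • v i ∈ a • (⊤ : Submodule R M)) (i : ι) : x i ∈ a := by
  classical
  haveI : Nontrivial (R ⧸ a) := Ideal.Quotient.nontrivial_iff.mpr
    (ne_top_of_le_ne_top (maximalIdeal.isMaximal R).ne_top ha)
  haveI : IsLocalRing (R ⧸ a) := IsLocalRing.of_surjective' (Ideal.Quotient.mk a) Ideal.Quotient.mk_surjective
  letI : Algebra (R ⧸ a) (ResidueField R) := (Ideal.Quotient.factor ha).toAlgebra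
  haveI : IsScalarTower R (R ⧸ a) (ResidueField R) := IsScalarTower.of_algebraMap_eq fun _ => rfl
  have hmax : ∀ z ∈ maximalIdeal (R ⧸ a), algebraMap (R ⧸ a) (ResidueField R) z = 0 := by
    intro z hz
    rw [← IsLocalRing.map_maximalIdeal_of_surjective (Ideal.Quotient.mk a) Ideal.Quotient.mk_surjective] at hz
    obtain ⟨r, hr, rfl⟩ := (Ideal.mem_map_iff_of_surjective _ Ideal.Quotient.mk_surjective).1 hz
    exact (residue_eq_zero_iff r).2 hr
  let σ : ResidueField (R ⧸ a) →ₗ[R ⧸ a] ResidueField R :=
    Submodule.liftQ (maximalIdeal (R ⧸ a)) (Algebra.linearMap (R ⧸ a) (ResidueField R))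
      fun z hz => LinearMap.mem_ker.2 (hmax z hz)
  let w : ι → (R ⧸ a) ⊗[R] M := fun i => 1 ⊗ₜ v i
  have hw : LinearIndependent (ResidueField (R ⧸ a))
      (TensorProduct.mk (R ⧸ a) (ResidueField (R ⧸ a)) ((R ⧸ a) ⊗[R] M) 1 ∘ w) := by
    rw [Fintype.linearIndependent_iff]
    intro c hc j
    choose r hr using fun i => residue_surjective (c i)
    choose s hs using fun i => Ideal.Quotient.mk_surjective (r i)
    let e := TensorProduct.AlgebraTensorModule.cancelBaseChange R (R ⧸ a) (ResidueField R) (ResidueField R) M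
    have h := congrArg (fun z => e (σ.rTensor _ z)) hc
    simp only [map_sum, map_zero] at h
    have h' : ∑ i, residue R (s i) • ((1 : ResidueField R) ⊗ₜ[R] v i) = 0 := by
      rw [← h]
      refine Finset.sum_congr rfl fun i _ => ?_
      rw [Function.comp_apply, TensorProduct.mk_apply,
        show c i • ((1 : ResidueField (R ⧸ a)) ⊗ₜ[R ⧸ a] w i) = c i ⊗ₜ[R ⧸ a] w i by
          rw [TensorProduct.smul_tmul', smul_eq_mul, mul_one],
        LinearMap.rTensor_tmul, ← hr i, ← hs i, show σ (residue (R ⧸ a) (Ideal.Quotient.mk a (s i))) = residue R (s i) from rfl,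
        TensorProduct.AlgebraTensorModule.cancelBaseChange_tmul, one_smul, TensorProduct.smul_tmul', smul_eq_mul,
        mul_one]
    have h0 := Fintype.linearIndependent_iff.1 hv _ h' j
    rw [← hr j, ← hs j, residue_eq_zero_iff, ← IsLocalRing.map_maximalIdeal_of_surjective (Ideal.Quotient.mk a)
      Ideal.Quotient.mk_surjective]
    exact Ideal.mem_map_of_mem _ ((residue_eq_zero_iff _).1 h0)
  have hli := Fintype.linearIndependent_iff.1 (Module.IsLocalRing.linearIndependent_of_flat w hw)
    (fun i => Ideal.Quotient.mk a (x i))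
  refine Ideal.Quotient.eq_zero_iff_mem.1 (hli ?_ i)
  have e : ∑ i, Ideal.Quotient.mk a (x i) • w i = (1 : R ⧸ a) ⊗ₜ[R] ∑ i, x i • v i := by
    rw [TensorProduct.tmul_sum]
    refine Finset.sum_congr rfl fun i _ => ?_
    rw [TensorProduct.tmul_smul, ← algebraMap_smul (R ⧸ a) (x i)]
    rfl
  rw [e]
  refine Submodule.smul_induction_on (p := fun y => (1 : R ⧸ a) ⊗ₜ[R] y = 0) hx (fun c hc y _ => ?_) ?_
  · rw [TensorProduct.tmul_smul, TensorProduct.smul_tmul',
      show c • (1 : R ⧸ a) = 0 by rw [Algebra.smul_def, mul_one]; exact Ideal.Quotient.eq_zero_iff_mem.2 hc,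
      TensorProduct.zero_tmul]
  · intro y z hy hz; rw [TensorProduct.tmul_add, hy, hz, add_zero]

theorem free_completion [IsAdicComplete (maximalIdeal A) A] [Algebra.EssFiniteType k (ResidueField A)]
    (hfs : CAlgX.IsAdicFormallySmooth k A (maximalIdeal A)) :
    Nonempty (Module.Basis (Fin (Module.finrank (ResidueField A) (ResidueField A ⊗[A] Ω[A⁄k]))) A
      (AdicCompletion (maximalIdeal A) (Ω[A⁄k]))) := by
  classical
  obtain ⟨hΩ, -, -⟩ := CartierEq4.finrank_kaehler_eq k (ResidueField A)
  obtain ⟨hfin, -⟩ := finrank_fibre_kaehler hfs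
  set K := ResidueField A with hKd
  set m := maximalIdeal A with hm
  let b := Module.finBasis K (K ⊗[A] Ω[A⁄k])
  have hs : Function.Surjective (TensorProduct.mk A K (Ω[A⁄k]) 1) :=
    TensorProduct.mk_surjective A (Ω[A⁄k]) K residue_surjective
  choose v hv using fun i => hs (b i)
  have hspan : Submodule.span A (Set.range v) ⊔ m • ⊤ = ⊤ := by
    let q := (TensorProduct.quotTensorEquivQuotSMul (Ω[A⁄k]) m).toLinearMap ∘ₗ
      TensorProduct.mk A (A ⧸ m) (Ω[A⁄k]) 1
    have hq : q = (m • ⊤ : Submodule A (Ω[A⁄k])).mkQ := LinearMap.ext fun x => by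
      show TensorProduct.quotTensorEquivQuotSMul (Ω[A⁄k]) m (1 ⊗ₜ x) = _
      rw [show (1 : A ⧸ m) = Ideal.Quotient.mk m 1 from rfl, TensorProduct.quotTensorEquivQuotSMul_mk_tmul, one_smul]
      rfl
    rw [sup_comm, ← Submodule.map_mkQ_eq_top, ← hq, Submodule.map_span, ← Set.range_comp]
    have hb : Submodule.span A (Set.range fun i => (1 : K) ⊗ₜ[A] v i) = ⊤ := by
      have h := congrArg (Submodule.restrictScalars A) b.span_eq
      rw [Submodule.restrictScalars_span A K residue_surjective, Submodule.restrictScalars_top] at h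
      rwa [show (fun i => (1 : K) ⊗ₜ[A] v i) = b from funext hv]
    rw [show (q ∘ v) = (TensorProduct.quotTensorEquivQuotSMul (Ω[A⁄k]) m).toLinearMap ∘ fun i =>
      (1 : K) ⊗ₜ[A] v i from rfl, Set.range_comp, ← Submodule.map_span]
    erw [hb]
    erw [Submodule.map_top, LinearEquiv.range]
  haveI := finite_quot k A
  let φ : (Fin _ → A) →ₗ[A] AdicCompletion m (Ω[A⁄k]) :=
    Fintype.linearCombination A fun i => AdicCompletion.of m _ (v i)
  have hφ : Function.Surjective φ := by
    rw [← LinearMap.range_eq_top, Fintype.range_linearCombination]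
    exact span_eq_top m v hspan
  have key : ∀ (n : ℕ) (x : Fin (Module.finrank K (K ⊗[A] Ω[A⁄k])) → A),
      ∑ i, x i • v i ∈ m ^ (n + 1) • (⊤ : Submodule A (Ω[A⁄k])) → ∀ i, x i ∈ m ^ (n + 1) := by
    intro n x hx
    have hfs' : CAlgX.IsAdicFormallySmooth k A (m ^ (n + 1)) := by
      intro E _ _ J hJ ψ hψ
      obtain ⟨j, hj⟩ := hψ
      exact hfs E J hJ ψ ⟨(n + 1) * j, fun y hy => hj y (by rw [← pow_mul]; exact hy)⟩
    haveI := RegFS6.projective_kaehler_of_fs (m ^ (n + 1)) hfs'
    refine mem_of_sum_mem (m ^ (n + 1)) (Ideal.pow_le_self n.succ_ne_zero) v ?_ x hx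
    rw [show (fun i => (1 : K) ⊗ₜ[A] v i) = b from funext hv]
    exact b.linearIndependent
  have hφi : Function.Injective φ := by
    rw [injective_iff_map_eq_zero]
    intro x hx
    funext i
    refine IsHausdorff.haus (inferInstance : IsHausdorff m A) _ fun j => ?_
    rw [SModEq.zero, smul_eq_mul, Ideal.mul_top]
    refine Ideal.pow_le_pow_right (Nat.le_succ j) (key j x ?_ i)
    have h : AdicCompletion.of m (Ω[A⁄k]) (∑ i, x i • v i) = 0 := by
      rw [map_sum, ← hx, Fintype.linearCombination_apply]
      simp only [map_smul]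
    have h' := congrArg (fun y => AdicCompletion.eval m (Ω[A⁄k]) (j + 1) y) h
    simp only [map_zero, AdicCompletion.eval_of] at h'
    exact (Submodule.Quotient.mk_eq_zero _).1 h'
  exact ⟨Module.Basis.ofEquivFun (LinearEquiv.ofBijective φ ⟨hφi, hφ⟩).symm⟩

end Groth.Agent.CplKaehler4
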